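import Mathlib.Data.Int.Basic
import Mathlib.Tactic

/-!
# Involution columns of the family with degrees `45, 54, 120, 144, 16`
-/

set_option autoImplicit false

namespace Cfsg.Agent.MTwelve.ArithSix

/-- even divisors of 8640 -/
def cs : List ℕ := [2, 4, 6, 8, 10, 12, 16, 18, 20, 24, 30, 32, 36, 40, 48, 54, 60, 64, 72, 80, 90,
  96, 108, 120, 144, 160, 180, 192, 216, 240, 270, 288, 320, 360, 432, 480, 540, 576, 720, 864,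
  960, 1080, 1440, 1728, 2160, 2880, 4320, 8640]

theorem mem_cs {c : ℕ} (h : c ∣ 8640) (h2 : 2 ∣ c) : c ∈ cs := by
  have h1 : c ∈ Nat.divisors 8640 := Nat.mem_divisors.2 ⟨h, by norm_num⟩
  have h3 : ∀ c ∈ Nat.divisors 8640, 2 ∣ c → c ∈ cs := by decide +kernel
  exact h3 c h1 h2

def W0 (j : ℕ) : ℤ := 4 * j - 120
def W1 (j : ℕ) : ℤ := 4 * j - 54
def W2 (j : ℕ) : ℤ := 4 * j - 43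
def W3 (j : ℕ) : ℤ := 4 * j - 144

theorem aux : ∀ c ∈ cs, ∀ j₀ ∈ List.range 61, (120 : ℤ) ∣ ((95040 / c : ℕ) : ℤ) * W0 j₀ →
    W0 j₀ ^ 2 < c → ∀ j₁ ∈ List.range 28, (54 : ℤ) ∣ ((95040 / c : ℕ) : ℤ) * W1 j₁ →
    W1 j₁ ^ 2 < c → ∀ j₂ ∈ List.range 23, (45 : ℤ) ∣ ((95040 / c : ℕ) : ℤ) * W2 j₂ →
    W2 j₂ ^ 2 < c → ∀ j₃ ∈ List.range 73, (144 : ℤ) ∣ ((95040 / c : ℕ) : ℤ) * W3 j₃ →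
    W3 j₃ ^ 2 < c →
    |1 + W0 j₀ + W1 j₁ + W2 j₂ + W3 j₃| < 16 →
    (16 : ℤ) ∣ ((95040 / c : ℕ) : ℤ) * (1 + W0 j₀ + W1 j₁ + W2 j₂ + W3 j₃) →
    1 + W0 j₀ ^ 2 + W1 j₁ ^ 2 + W2 j₂ ^ 2 + W3 j₃ ^ 2 +
      2 * (1 + W0 j₀ + W1 j₁ + W2 j₂ + W3 j₃) ^ 2 ≤ c →
    8640 - 72 * W0 j₀ ^ 2 - 160 * W1 j₁ ^ 2 + 192 * W2 j₂ ^ 2 + 60 * W3 j₃ ^ 2 =
      540 * (1 + W0 j₀ + W1 j₁ + W2 j₂ + W3 j₃) ^ 2 →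
    (c, W0 j₀, W1 j₁, W2 j₂, W3 j₃) ∈ ([(120, 0, -6, 5, -4), (120, 0, -6, 5, 4),
      (192, 8, -6, -3, 0), (240, 0, -6, 5, -4), (240, 0, -6, 5, 4),
      (1440, 0, -18, -15, 24)] : List (ℕ × ℤ × ℤ × ℤ × ℤ)) := by
  decide +kernel

theorem columns {c : ℕ} (hc : c ∣ 8640) (h2 : 2 ∣ c) {w₀ w₁ w₂ w₃ : ℤ}
    (l₀ : |w₀| < 120) (l₁ : |w₁| < 54) (l₂ : |w₂| < 45) (l₃ : |w₃| < 144)
    (m₀ : (4 : ℤ) ∣ -120 - w₀) (m₁ : (4 : ℤ) ∣ -54 - w₁) (m₂ : (4 : ℤ) ∣ 45 - w₂)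
    (m₃ : (4 : ℤ) ∣ 144 - w₃)
    (d₀ : (120 : ℤ) ∣ ((95040 / c : ℕ) : ℤ) * w₀) (d₁ : (54 : ℤ) ∣ ((95040 / c : ℕ) : ℤ) * w₁)
    (d₂ : (45 : ℤ) ∣ ((95040 / c : ℕ) : ℤ) * w₂) (d₃ : (144 : ℤ) ∣ ((95040 / c : ℕ) : ℤ) * w₃)
    (lT : |1 + w₀ + w₁ + w₂ + w₃| < 16)
    (dT : (16 : ℤ) ∣ ((95040 / c : ℕ) : ℤ) * (1 + w₀ + w₁ + w₂ + w₃))
    (hn : 1 + w₀ ^ 2 + w₁ ^ 2 + w₂ ^ 2 + w₃ ^ 2 + 2 * (1 + w₀ + w₁ + w₂ + w₃) ^ 2 ≤ c)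
    (hR : 8640 - 72 * w₀ ^ 2 - 160 * w₁ ^ 2 + 192 * w₂ ^ 2 + 60 * w₃ ^ 2 =
      540 * (1 + w₀ + w₁ + w₂ + w₃) ^ 2) :
    (c, w₀, w₁, w₂, w₃) ∈ ([(120, 0, -6, 5, -4), (120, 0, -6, 5, 4),
      (192, 8, -6, -3, 0), (240, 0, -6, 5, -4), (240, 0, -6, 5, 4),
      (1440, 0, -18, -15, 24)] : List (ℕ × ℤ × ℤ × ℤ × ℤ)) := by
  rw [abs_lt] at l₀ l₁ l₂ l₃
  have e₀ : w₀ = W0 ((w₀ + 120) / 4).toNat := by unfold W0; omega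
  have e₁ : w₁ = W1 ((w₁ + 54) / 4).toNat := by unfold W1; omega
  have e₂ : w₂ = W2 ((w₂ + 43) / 4).toNat := by unfold W2; omega
  have e₃ : w₃ = W3 ((w₃ + 144) / 4).toNat := by unfold W3; omega
  have r₀ : ((w₀ + 120) / 4).toNat ∈ List.range 61 := by rw [List.mem_range]; omega
  have r₁ : ((w₁ + 54) / 4).toNat ∈ List.range 28 := by rw [List.mem_range]; omega
  have r₂ : ((w₂ + 43) / 4).toNat ∈ List.range 23 := by rw [List.mem_range]; omega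
  have r₃ : ((w₃ + 144) / 4).toNat ∈ List.range 73 := by rw [List.mem_range]; omega
  have s₀ : w₀ ^ 2 < c := by
    nlinarith [sq_nonneg w₁, sq_nonneg w₂, sq_nonneg w₃,
    sq_nonneg (1 + w₀ + w₁ + w₂ + w₃)]
  have s₁ : w₁ ^ 2 < c := by
    nlinarith [sq_nonneg w₀, sq_nonneg w₂, sq_nonneg w₃,
    sq_nonneg (1 + w₀ + w₁ + w₂ + w₃)]
  have s₂ : w₂ ^ 2 < c := by
    nlinarith [sq_nonneg w₀, sq_nonneg w₁, sq_nonneg w₃,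
    sq_nonneg (1 + w₀ + w₁ + w₂ + w₃)]
  have s₃ : w₃ ^ 2 < c := by
    nlinarith [sq_nonneg w₀, sq_nonneg w₁, sq_nonneg w₂,
    sq_nonneg (1 + w₀ + w₁ + w₂ + w₃)]
  have := aux c (mem_cs hc h2) _ r₀ (e₀ ▸ d₀) (e₀ ▸ s₀) _ r₁ (e₁ ▸ d₁) (e₁ ▸ s₁) _ r₂
    (e₂ ▸ d₂) (e₂ ▸ s₂) _ r₃ (e₃ ▸ d₃) (e₃ ▸ s₃)
  rw [← e₀, ← e₁, ← e₂, ← e₃] at this
  exact this lT dT hn hR

end Cfsg.Agent.MTwelve.ArithSix
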