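import Cfsg.Agent.MTwelve.SmallDegree
import Cfsg.Agent.Blocks.CentralProduct
import Cfsg.Agent.S0145
import Cfsg.Agent.SmallSimple.SelfCentSum
import Mathlib.Data.Fin.Tuple.Sort

/-!
# Degrees and the shape of Brauer's theorem on the principal block

`PBlock G p e t P` packages the conclusion of Brauer's theorem on the principal `p`-block of a
group with a Sylow `p`-subgroup `P` of order `p` (`e` nonexceptional and `t` exceptional
characters) in the form used for the numerical arguments.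
-/

set_option autoImplicit false

open scoped ComplexConjugate
open Cfsg

namespace Cfsg.Agent.MTwelve.BlockData

open Cfsg.Agent.Characters

universe u

variable {G : Type u} [Group G]

/-! ### Degrees -/

/-- The principal character. -/
def triv (G : Type u) [Group G] : IrrCharacter G := ⟨1, Core.isIrr_one⟩

theorem triv_apply (g : G) : ((triv G : IrrCharacter G) : G → ℂ) g = 1 := rfl

/-- The degree as a natural number. -/
noncomputable def deg (χ : IrrCharacter G) : ℕ := (Core.isIrr_apply_one χ.2).choose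

theorem deg_pos (χ : IrrCharacter G) : 0 < deg χ := (Core.isIrr_apply_one χ.2).choose_spec.1

theorem apply_one (χ : IrrCharacter G) : (χ : G → ℂ) 1 = deg χ :=
  (Core.isIrr_apply_one χ.2).choose_spec.2

theorem deg_eq_of {χ : IrrCharacter G} {n : ℕ} (h : (χ : G → ℂ) 1 = n) : deg χ = n := by
  rw [apply_one] at h
  exact_mod_cast h

theorem deg_triv : deg (triv G) = 1 := deg_eq_of (by rw [triv_apply, Nat.cast_one])

theorem deg_dvd [Finite G] (χ : IrrCharacter G) : deg χ ∣ Nat.card G :=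
  Cfsg.Agent.Blocks.CentralProduct.degree_dvd_card χ.2 (apply_one χ)

theorem eq_triv_of_deg [IsSimpleGroup G] (hG : commutator G = ⊤) {χ : IrrCharacter G}
    (h : deg χ = 1) : χ = triv G := by
  obtain ⟨f, hf⟩ := Linear.exists_hom_of_isIrrCharacter χ.2
    (by rw [apply_one, h, Nat.cast_one])
  have hle : commutator G ≤ f.ker := Abelianization.commutator_subset_ker _
  rw [hG, top_le_iff] at hle
  apply Subtype.ext
  rw [hf]
  funext g
  have h1 : f g = 1 := by
    rw [← MonoidHom.mem_ker, hle]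
    trivial
  rw [h1]
  rfl

theorem sum_deg_sq [Finite G] [Fintype (IrrCharacter G)] :
    ∑ χ : IrrCharacter G, deg χ ^ 2 = Nat.card G := by
  have h := Cfsg.Agent.SmallSimple.SelfCentSum.sum_norm_sq (1 : G)
  have hc : Nat.card (Subgroup.centralizer ({(1 : G)} : Set G)) = Nat.card G := by
    have : Subgroup.centralizer ({(1 : G)} : Set G) = ⊤ := by
      rw [eq_top_iff]
      intro x _
      rw [Subgroup.mem_centralizer_singleton_iff, mul_one, one_mul]
    rw [this, Subgroup.card_top]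
  rw [hc] at h
  have h2 : ∀ χ : IrrCharacter G, ‖(χ : G → ℂ) 1‖ ^ 2 = ((deg χ ^ 2 : ℕ) : ℝ) := by
    intro χ
    rw [apply_one]
    push_cast
    rw [Complex.norm_natCast]
  rw [Finset.sum_congr rfl fun χ _ => h2 χ] at h
  exact_mod_cast h

/-- Averages of characters over subgroups are natural numbers. -/
theorem exists_sum_eq {χ : G → ℂ} (hχ : IsCharacter G χ) (P : Subgroup G) [Fintype P] :
    ∃ m : ℕ, ∑ x : P, χ x = Nat.card P * m := by
  obtain ⟨m, hm⟩ := Core.classInner_isNat (Core.isCharacter_comp P.subtype hχ)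
    (Core.isCharacter_one (G := P))
  refine ⟨m, ?_⟩
  rw [Core.classInner_def] at hm
  have hne : (Nat.card P : ℂ) ≠ 0 := Core.card_ne_zero_complex
  rw [← hm, ← mul_assoc, mul_inv_cancel₀ hne, one_mul]
  refine Finset.sum_congr rfl fun x _ => ?_
  simp

/-- If a character takes the same integer value `k` on all nonidentity elements of a subgroup of
order `p`, then its degree is congruent to `k`. -/
theorem dvd_sub_of_const {χ : G → ℂ} (hχ : IsCharacter G χ) {p : ℕ} (P : Subgroup G)
    (hP : Nat.card P = p) (hp : 0 < p) {n k : ℤ} (hn : χ 1 = n)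
    (hk : ∀ x ∈ P, x ≠ 1 → χ x = k) : (p : ℤ) ∣ n - k := by
  classical
  have hfin : Finite P := Nat.finite_of_card_ne_zero (by omega)
  have := Fintype.ofFinite P
  obtain ⟨m, hm⟩ := exists_sum_eq hχ P
  have h1 : ∑ x : P, χ x = (n - k : ℂ) + ∑ x : P, (k : ℂ) := by
    rw [← Finset.add_sum_erase Finset.univ (fun x : P => χ x) (Finset.mem_univ (1 : P)),
      ← Finset.add_sum_erase Finset.univ (fun _ : P => (k : ℂ)) (Finset.mem_univ (1 : P)),
      Subgroup.coe_one, hn]
    have h2 : ∑ x ∈ Finset.univ.erase (1 : P), χ x = ∑ x ∈ Finset.univ.erase (1 : P), (k : ℂ) := by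
      refine Finset.sum_congr rfl fun x hx => hk x x.2 ?_
      intro h
      exact (Finset.mem_erase.1 hx).1 (Subtype.ext h)
    rw [h2]
    ring
  rw [Finset.sum_const, Finset.card_univ, ← Nat.card_eq_fintype_card, nsmul_eq_mul, hm, hP] at h1
  have h3 : ((p * m : ℤ) : ℂ) = ((n - k + p * k : ℤ) : ℂ) := by
    push_cast
    exact h1
  have h4 : (p * m : ℤ) = n - k + p * k := by exact_mod_cast h3
  exact ⟨m - k, by linarith⟩

/-! ### Principal blocks -/

/-- The shape of Brauer's theorem on the principal `p`-block of a group with a Sylow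
`p`-subgroup `P` of order `p`. -/
structure PBlock (G : Type u) [Group G] (p e t : ℕ) (P : Subgroup G) where
  /-- the nonexceptional characters -/
  NE : Finset (IrrCharacter G)
  /-- the exceptional characters -/
  X : Finset (IrrCharacter G)
  /-- the signs of the nonexceptional characters -/
  ε : IrrCharacter G → ℤ
  /-- the sign of the exceptional characters -/
  d : ℤ
  disjoint : Disjoint NE X
  card_NE : NE.card = e
  card_X : X.card = t
  ε_eq : ∀ χ ∈ NE, ε χ = 1 ∨ ε χ = -1
  d_eq : d = 1 ∨ d = -1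
  triv_mem : triv G ∈ NE
  ε_triv : ε (triv G) = 1
  apply_NE : ∀ χ ∈ NE, ∀ x ∈ P, x ≠ 1 → ∀ y ∈ Subgroup.centralizer (P : Set G), ¬ p ∣ orderOf y →
    (χ : G → ℂ) (x * y) = ε χ
  sum_X : ∀ x ∈ P, x ≠ 1 → ∀ y ∈ Subgroup.centralizer (P : Set G), ¬ p ∣ orderOf y →
    ∑ Θ ∈ X, (Θ : G → ℂ) (x * y) = -d
  rel : ∀ Θ ∈ X, ∀ g : G, ¬ p ∣ orderOf g →
    ∑ χ ∈ NE, (ε χ : ℂ) * (χ : G → ℂ) g = d * (Θ : G → ℂ) g

namespace PBlock

variable {p e t : ℕ} {P : Subgroup G}

theorem apply_X_eq (B : PBlock G p e t P) {Θ Θ' : IrrCharacter G} (h : Θ ∈ B.X) (h' : Θ' ∈ B.X)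
    {g : G} (hg : ¬ p ∣ orderOf g) : (Θ : G → ℂ) g = (Θ' : G → ℂ) g := by
  have h1 := B.rel Θ h g hg
  rw [B.rel Θ' h' g hg] at h1
  have hd : (B.d : ℂ) ≠ 0 := by
    rcases B.d_eq with h | h <;> rw [h] <;> norm_num
  exact (mul_left_cancel₀ hd h1).symm

theorem deg_X_eq (B : PBlock G p e t P) (hp : p ≠ 1) {Θ Θ' : IrrCharacter G} (h : Θ ∈ B.X)
    (h' : Θ' ∈ B.X) : deg Θ = deg Θ' := by
  apply deg_eq_of
  rw [← apply_one]
  exact B.apply_X_eq h h' (by rw [orderOf_one, Nat.dvd_one]; exact hp)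

theorem sum_deg (B : PBlock G p e t P) (hp : p ≠ 1) {Θ : IrrCharacter G} (h : Θ ∈ B.X) :
    ∑ χ ∈ B.NE, B.ε χ * (deg χ : ℤ) = B.d * deg Θ := by
  have h1 := B.rel Θ h 1 (by rw [orderOf_one, Nat.dvd_one]; exact hp)
  rw [apply_one, Finset.sum_congr rfl fun χ _ => by rw [apply_one]] at h1
  exact_mod_cast h1

theorem dvd_deg_sub (B : PBlock G p e t P) (hP : Nat.card P = p) (hp : 1 < p)
    {χ : IrrCharacter G} (h : χ ∈ B.NE) : (p : ℤ) ∣ deg χ - B.ε χ := by
  refine dvd_sub_of_const (Core.isIrr_isCharacter χ.2) P hP (by omega)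
    (by rw [apply_one]; norm_cast) fun x hx hx1 => ?_
  have h1 := B.apply_NE χ h x hx hx1 1 (Subgroup.one_mem _)
    (by rw [orderOf_one, Nat.dvd_one]; omega)
  rwa [mul_one] at h1

theorem dvd_deg_X_sub (B : PBlock G p e t P) (hP : Nat.card P = p) (hp : 1 < p)
    (het : e * t = p - 1) {Θ : IrrCharacter G} (h : Θ ∈ B.X) :
    (p : ℤ) ∣ deg Θ - e * B.d := by
  have h1 : (p : ℤ) ∣ (t * deg Θ : ℤ) - (-B.d) := by
    refine dvd_sub_of_const (χ := ∑ Θ' ∈ B.X, (Θ' : G → ℂ))
      (Core.isCharacter_sum _ fun χ _ => Core.isIrr_isCharacter χ.2) P hP (by omega) ?_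
      fun x hx hx1 => ?_
    · rw [Finset.sum_apply, Finset.sum_congr rfl fun Θ' h' => by
        rw [apply_one, B.deg_X_eq (by omega) h' h], Finset.sum_const, B.card_X, nsmul_eq_mul]
      push_cast
      rfl
    · have h1 := B.sum_X x hx hx1 1 (Subgroup.one_mem _)
        (by rw [orderOf_one, Nat.dvd_one]; omega)
      rw [mul_one] at h1
      rw [Finset.sum_apply, h1]
      push_cast
      rfl
  obtain ⟨c, hc⟩ := h1
  have h2 : (e : ℤ) * t = p - 1 := by
    have := congrArg (fun n : ℕ => (n : ℤ)) het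
    push_cast [Nat.cast_sub hp.le] at this
    exact this
  refine ⟨deg Θ - e * c, ?_⟩
  have h3 : (e : ℤ) * (t * deg Θ - (-B.d)) = e * (p * c) := by rw [hc]
  have h4 : (e : ℤ) * (t * deg Θ) = (p - 1) * deg Θ := by rw [← mul_assoc, h2]
  linarith [h3, h4]

end PBlock

end Cfsg.Agent.MTwelve.BlockData
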