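import Mathlib.Data.Int.Basic
import Mathlib.Tactic

/-!
# Arithmetic for the characterisation of `M₁₂` by its order, prime 11

All numbers are signed: `D = ε χ(1)`, `w = ε χ(z)` where `ε = χ(x)` for `x` of order 11.
-/

set_option autoImplicit false

namespace Cfsg.Agent.MTwelve.Arith

/-- Possible signed degrees of non-exceptional nontrivial characters of the principal 11-block. -/
def L : List ℤ := [-120, -54, -32, -10, 12, 45, 144]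

/-- `|C(z)| = 64 k`. -/
def ks : List ℕ := [1, 3, 5, 9, 15, 27, 45, 135]

/-- The solutions of the degree equation. -/
def sols : List (ℤ × ℤ × ℤ × ℤ) :=
  [(-120, -54, -32, 45),
   (-120, -54, 45, 144),
   (-120, -32, 12, 144),
   (-120, -10, -10, 144),
   (-120, -10, 12, 45),
   (-120, -10, 12, 144),
   (-120, -10, 45, 144),
   (-120, 45, 45, 45),
   (-54, -54, -32, 144),
   (-54, -54, -10, 45),
   (-54, -54, -10, 144),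
   (-54, -32, -32, 45),
   (-54, -32, -32, 144),
   (-54, -32, 45, 45),
   (-54, -10, 12, 45),
   (-54, -10, 45, 45),
   (-54, 12, 12, 45),
   (-32, -32, 12, 45),
   (-32, -32, 45, 45),
   (-32, -10, -10, 45),
   (-32, -10, 12, 45),
   (-32, 12, 12, 12),
   (-10, -10, -10, 45),
   (-10, -10, 12, 12),
   (-10, 12, 12, 12),
   (-10, 12, 12, 45)]

def tab : List (ℕ × ℤ × List ℤ) :=
  [(1, -120, [-8, 0, 8]),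
   (1, -54, [-6, -2, 2, 6]),
   (1, -32, [0]),
   (1, -10, [-6, -2, 2, 6]),
   (1, 12, [-8, -4, 0, 4, 8]),
   (1, 45, [-7, -3, 1, 5]),
   (1, 144, [0]),
   (3, -120, [-8, 0, 8]),
   (3, -54, [-6, 6]),
   (3, -32, [0]),
   (3, -10, [-6, -2, 2, 6]),
   (3, 12, [-8, -4, 0, 4, 8]),
   (3, 45, [-11, -7, -3, 1, 5, 9, 13]),
   (3, 144, [0]),
   (5, -120, [0]),
   (5, -54, [-14, -10, -6, -2, 2, 6, 10, 14]),
   (5, -32, [0]),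
   (5, 12, [-8, -4, 0, 4, 8]),
   (5, 45, [-15, 5]),
   (5, 144, [-16, 0, 16]),
   (9, -120, [-24, -16, -8, 0, 8, 16, 24]),
   (9, -54, [-18, 18]),
   (9, -32, [0]),
   (9, -10, [-6, -2, 2, 6]),
   (9, 12, [-8, -4, 0, 4, 8]),
   (9, 45, [-15, -3, 9, 21]),
   (9, 144, [0]),
   (15, -120, [0]),
   (15, -54, [-30, -18, -6, 6, 18, 30]),
   (15, -32, [0]),
   (15, 12, [-8, -4, 0, 4, 8]),
   (15, 45, [-15, 5, 25]),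
   (15, 144, [-16, 0, 16]),
   (27, -120, [-24, 0, 24]),
   (27, -32, [0]),
   (27, -10, [-6, -2, 2, 6]),
   (27, 12, [0]),
   (27, 45, [-27, 9]),
   (27, 144, [0]),
   (45, -120, [-40, 0, 40]),
   (45, -54, [-18, 18]),
   (45, -32, [0]),
   (45, 12, [-8, -4, 0, 4, 8]),
   (45, 45, [-15]),
   (45, 144, [-48, 0, 48]),
   (135, -120, [0]),
   (135, -32, [0]),
   (135, 12, [0]),
   (135, 144, [0])]

/-- All solutions: `(k, (D₁, w₁), …, (D₄, w₄))`. -/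
def rows : List (ℕ × (ℤ × ℤ) × (ℤ × ℤ) × (ℤ × ℤ) × (ℤ × ℤ)) :=
  [(3, (-120, 8), (-54, -6), (-32, 0), (45, -3)),
   (3, (-120, 8), (-54, -6), (45, -3), (144, 0)),
   (3, (-120, -8), (-32, 0), (12, 4), (144, 0)),
   (9, (-120, -8), (-32, 0), (12, 4), (144, 0)),
   (1, (-120, 0), (-10, -2), (-10, 2), (144, 0)),
   (3, (-120, 0), (-10, -2), (-10, 2), (144, 0)),
   (9, (-120, 0), (-10, -2), (-10, 2), (144, 0)),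
   (27, (-120, 0), (-10, -2), (-10, 2), (144, 0)),
   (9, (-120, -8), (-10, -6), (12, 4), (45, 9)),
   (3, (-120, 8), (-10, -2), (45, -3), (144, 0)),
   (9, (-120, -16), (-10, 2), (45, 9), (144, 0)),
   (9, (-120, 0), (-10, 2), (45, 9), (144, 0)),
   (9, (-120, 8), (-10, -2), (45, -3), (144, 0)),
   (9, (-120, 16), (-10, -6), (45, -15), (144, 0)),
   (27, (-120, 0), (-10, 2), (45, 9), (144, 0)),
   (9, (-54, 18), (-32, 0), (45, -15), (45, -3)),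
   (3, (-54, 6), (-10, 2), (45, -3), (45, -3)),
   (1, (-10, -2), (-10, 2), (-10, 2), (45, -3)),
   (3, (-10, -2), (-10, 2), (-10, 2), (45, -3)),
   (9, (-10, -2), (-10, 2), (-10, 2), (45, -3)),
   (1, (-10, -2), (-10, 2), (12, 0), (12, 0)),
   (3, (-10, -2), (-10, 2), (12, 0), (12, 0)),
   (9, (-10, -2), (-10, 2), (12, 0), (12, 0)),
   (27, (-10, -2), (-10, 2), (12, 0), (12, 0)),
   (3, (-10, 6), (12, -4), (12, -4), (45, -3)),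
   (3, (-10, 6), (12, -4), (12, 4), (45, -3)),
   (9, (-10, 2), (12, 0), (12, 0), (45, 9)),
   (9, (-10, 6), (12, -4), (12, -4), (45, -3)),
   (9, (-10, 6), (12, -4), (12, 4), (45, -3)),
   (27, (-10, 2), (12, 0), (12, 0), (45, 9))]


def cand (k : ℕ) (D : ℤ) : List ℤ :=
  match tab.find? (fun r => r.1 == k && r.2.1 == D) with
  | some r => r.2.2
  | none => []

/-- The conditions on a single signed value. -/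
def Val (k : ℕ) (D w : ℤ) : Prop :=
  |w| < |D| ∧ (4 : ℤ) ∣ D - w ∧ D ∣ ((1485 / k : ℕ) : ℤ) * w ∧ w ^ 2 ≤ 64 * k

instance (k : ℕ) (D w : ℤ) : Decidable (Val k D w) := by
  unfold Val; infer_instance

theorem mem_cand_aux : ∀ k ∈ ks, ∀ D ∈ L, ∀ n ∈ List.range 287,
    Val k D ((n : ℤ) - 143) → ((n : ℤ) - 143) ∈ cand k D := by
  decide +kernel

theorem abs_le_of_mem_L : ∀ D ∈ L, |D| ≤ 144 := by decide

theorem mem_cand {k : ℕ} (hk : k ∈ ks) {D : ℤ} (hD : D ∈ L) {w : ℤ} (h : Val k D w) :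
    w ∈ cand k D := by
  have h1 := abs_le_of_mem_L D hD
  have h2 := abs_lt.1 h.1
  have h3 : w = ((w + 143).toNat : ℤ) - 143 := by omega
  rw [h3]
  apply mem_cand_aux k hk D hD
  · rw [List.mem_range]; omega
  · rw [← h3]; exact h

theorem mem_sols_aux : ∀ D₁ ∈ L, ∀ D₂ ∈ L, D₁ ≤ D₂ → ∀ D₃ ∈ L, D₂ ≤ D₃ → ∀ D₄ ∈ L, D₃ ≤ D₄ →
    (1 + D₁ + D₂ + D₃ + D₄) ∣ 8640 →
    1 + D₁ ^ 2 + D₂ ^ 2 + D₃ ^ 2 + D₄ ^ 2 + 2 * (1 + D₁ + D₂ + D₃ + D₄) ^ 2 ≤ 95040 →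
    (D₁, D₂, D₃, D₄) ∈ sols := by
  decide +kernel

/-- the main check -/
def leaf (k : ℕ) (D₁ D₂ D₃ D₄ w₁ w₂ w₃ w₄ : ℤ) : Prop :=
  let T := 1 + D₁ + D₂ + D₃ + D₄
  let T₀ := 1 + w₁ + w₂ + w₃ + w₄
  1 + w₁ ^ 2 + w₂ ^ 2 + w₃ ^ 2 + w₄ ^ 2 + 2 * T₀ ^ 2 ≤ 64 * k ∧
  8640 + (8640 / D₁) * w₁ ^ 2 + (8640 / D₂) * w₂ ^ 2 + (8640 / D₃) * w₃ ^ 2 +
    (8640 / D₄) * w₄ ^ 2 = (8640 / T) * T₀ ^ 2 ∧
  |T₀| < |T| ∧ (4 : ℤ) ∣ T - T₀ ∧ T ∣ ((1485 / k : ℕ) : ℤ) * T₀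

instance (k : ℕ) (D₁ D₂ D₃ D₄ w₁ w₂ w₃ w₄ : ℤ) :
    Decidable (leaf k D₁ D₂ D₃ D₄ w₁ w₂ w₃ w₄) := by
  unfold leaf; infer_instance

theorem rows_aux : ∀ k ∈ ks, ∀ s ∈ sols, ∀ w₁ ∈ cand k s.1, ∀ w₂ ∈ cand k s.2.1,
    (s.1 = s.2.1 → w₁ ≤ w₂) → 1 + w₁ ^ 2 + w₂ ^ 2 ≤ 64 * k → ∀ w₃ ∈ cand k s.2.2.1,
    (s.2.1 = s.2.2.1 → w₂ ≤ w₃) → 1 + w₁ ^ 2 + w₂ ^ 2 + w₃ ^ 2 ≤ 64 * k →
    ∀ w₄ ∈ cand k s.2.2.2, (s.2.2.1 = s.2.2.2 → w₃ ≤ w₄) →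
    leaf k s.1 s.2.1 s.2.2.1 s.2.2.2 w₁ w₂ w₃ w₄ →
    (k, (s.1, w₁), (s.2.1, w₂), (s.2.2.1, w₃), (s.2.2.2, w₄)) ∈ rows := by
  decide +kernel

/-- The degrees of the principal 11-block and the column of a 2-central involution. -/
theorem mem_rows {k : ℕ} (hk : k ∈ ks) {D₁ D₂ D₃ D₄ w₁ w₂ w₃ w₄ : ℤ}
    (h₁ : D₁ ∈ L) (h₂ : D₂ ∈ L) (h₃ : D₃ ∈ L) (h₄ : D₄ ∈ L)
    (h₁₂ : D₁ ≤ D₂) (h₂₃ : D₂ ≤ D₃) (h₃₄ : D₃ ≤ D₄)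
    (e₁₂ : D₁ = D₂ → w₁ ≤ w₂) (e₂₃ : D₂ = D₃ → w₂ ≤ w₃) (e₃₄ : D₃ = D₄ → w₃ ≤ w₄)
    (hT : (1 + D₁ + D₂ + D₃ + D₄) ∣ 8640)
    (hsq : 1 + D₁ ^ 2 + D₂ ^ 2 + D₃ ^ 2 + D₄ ^ 2 + 2 * (1 + D₁ + D₂ + D₃ + D₄) ^ 2 ≤ 95040)
    (v₁ : Val k D₁ w₁) (v₂ : Val k D₂ w₂) (v₃ : Val k D₃ w₃) (v₄ : Val k D₄ w₄)
    (hl : leaf k D₁ D₂ D₃ D₄ w₁ w₂ w₃ w₄) :
    (k, (D₁, w₁), (D₂, w₂), (D₃, w₃), (D₄, w₄)) ∈ rows := by
  have hs := mem_sols_aux D₁ h₁ D₂ h₂ h₁₂ D₃ h₃ h₂₃ D₄ h₄ h₃₄ hT hsq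
  have hn := hl.1
  refine rows_aux k hk _ hs w₁ (mem_cand hk h₁ v₁) w₂ (mem_cand hk h₂ v₂) e₁₂ ?_ w₃
    (mem_cand hk h₃ v₃) e₂₃ ?_ w₄ (mem_cand hk h₄ v₄) e₃₄ hl
  · nlinarith [sq_nonneg w₃, sq_nonneg w₄, sq_nonneg (1 + w₁ + w₂ + w₃ + w₄)]
  · nlinarith [sq_nonneg w₄, sq_nonneg (1 + w₁ + w₂ + w₃ + w₄)]

end Cfsg.Agent.MTwelve.Arith
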