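import Mathlib
import Cfsg.Agent.SmallSimple.PrimeLocal
import Cfsg.Agent.SmallSimple.RelSylow

/-!
# Sylow 5-subgroups of a simple group of order 95040

Given that the Sylow 11-subgroups are self-centralising, the local data `(e, |K|)` of a Sylow
5-subgroup are `(2, 4)`, `(2, 9)`, `(2, 24)`, `(2, 54)`, `(2, 144)`, `(4, 2)`, `(4, 12)` or
`(4, 72)`.
-/

set_option autoImplicit false

namespace Cfsg.Agent.MTwelve.SylowFive

open Subgroup
open Cfsg.Agent.SmallSimple.PrimeLocal
open Cfsg.Agent.SmallSimple

variable {G : Type*} [Group G] [Finite G]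

/-- Elements commuting with an element `x` of order 11 are powers of it. -/
theorem orderOf_dvd_of_commute (hc : Nat.card G = 95040)
    (h11 : ∀ P : Sylow 11 G, centralizer (P : Set G) = (P : Subgroup G))
    {x y : G} (hx : orderOf x = 11) (hxy : x * y = y * x) : orderOf y ∣ 11 := by
  have : Fact (Nat.Prime 11) := ⟨by norm_num⟩
  obtain ⟨R, hR⟩ := IsPGroup.exists_le_sylow (IsPGroup.of_card (n := 1)
    (by rw [Nat.card_zpowers, hx, pow_one]) : IsPGroup 11 (zpowers x))
  have hRc : Nat.card (R : Subgroup G) = 11 :=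
    card_of_not_sq_dvd (by rw [hc]; norm_num) (by rw [hc]; norm_num) R
  have hRe : zpowers x = (R : Subgroup G) :=
    Subgroup.eq_of_le_of_card_ge hR (by rw [hRc, Nat.card_zpowers, hx])
  have hy : y ∈ centralizer (R : Set G) := by
    rw [mem_centralizer_iff]
    intro z hz
    have hz' : z ∈ zpowers x := by rw [hRe]; exact hz
    obtain ⟨k, rfl⟩ := mem_zpowers_iff.1 hz'
    exact ((show Commute x y from hxy).zpow_left k).eq
  rw [h11 R] at hy
  have h := orderOf_dvd_natCard (⟨y, hy⟩ : (R : Subgroup G))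
  rw [hRc] at h
  simpa using h

/-- `11` does not divide the order of a subgroup normalising a subgroup of order `27`. -/
theorem not_dvd_card_normalizer (hc : Nat.card G = 95040)
    (h11 : ∀ P : Sylow 11 G, centralizer (P : Set G) = (P : Subgroup G))
    (K : Subgroup G) (hK : Nat.card K = 27) : ¬ 11 ∣ Nat.card (normalizer (K : Set G)) := by
  intro h
  have : Fact (Nat.Prime 11) := ⟨by norm_num⟩
  obtain ⟨x, hx⟩ := exists_prime_orderOf_dvd_card' 11 h
  have hx' : orderOf (x : G) = 11 := by rw [orderOf_coe]; exact hx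
  -- the action of `⟨x⟩` on `K`
  have hA : IsPGroup 11 (zpowers x) := IsPGroup.of_card (n := 1)
    (by rw [Nat.card_zpowers, hx, pow_one])
  let _ : MulAction (zpowers x) K :=
    MulAction.compHom K ((K.normalizerMonoidHom).comp (zpowers x).subtype)
  have hsm : ∀ (a : zpowers x) (k : K), ((a • k : K) : G) = (a : G) * k * (a : G)⁻¹ :=
    fun a k => rfl
  have hmod := hA.card_modEq_card_fixedPoints (α := K)
  rw [hK] at hmod
  have hgt : 1 < Nat.card (MulAction.fixedPoints (zpowers x) K) := by
    unfold Nat.ModEq at hmod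
    omega
  have hfin : Finite (MulAction.fixedPoints (zpowers x) K) := inferInstance
  obtain ⟨a, b, hab⟩ := (Finite.one_lt_card_iff_nontrivial.1 hgt)
  have key : ∀ c : MulAction.fixedPoints (zpowers x) K, (c : K) = 1 := by
    intro c
    have h1 := hsm ⟨x, mem_zpowers x⟩ c.1
    rw [c.2 ⟨x, mem_zpowers x⟩] at h1
    have h2 : (x : G) * (c.1 : G) = (c.1 : G) * (x : G) := by
      rw [eq_mul_inv_iff_mul_eq] at h1
      exact h1.symm
    have h3 := orderOf_dvd_of_commute hc h11 hx' h2
    have h4 : orderOf (c.1 : K) ∣ 27 := by rw [← hK]; exact orderOf_dvd_natCard _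
    rw [orderOf_coe] at h3
    have h5 := Nat.dvd_gcd h3 h4
    norm_num at h5
    exact h5
  exact hab (Subtype.ext ((key a).trans (key b).symm))

theorem not_dvd_card_compl [IsSimpleGroup G] (hc : Nat.card G = 95040)
    (h11 : ∀ P : Sylow 11 G, centralizer (P : Set G) = (P : Subgroup G))
    (P : Sylow 5 G) {e : ℕ} {K : Subgroup G} (h : IsLocal 5 P e K) : ¬ 11 ∣ Nat.card K := by
  intro hd
  have : Fact (Nat.Prime 11) := ⟨by norm_num⟩
  have : Fact (Nat.Prime 5) := ⟨by norm_num⟩
  obtain ⟨x, hx⟩ := exists_prime_orderOf_dvd_card' 11 hd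
  have hx' : orderOf (x : G) = 11 := by rw [orderOf_coe]; exact hx
  have hPc : Nat.card (P : Subgroup G) = 5 :=
    card_of_not_sq_dvd (by rw [hc]; norm_num) (by rw [hc]; norm_num) P
  obtain ⟨y, hy⟩ := exists_prime_orderOf_dvd_card' (G := (P : Subgroup G)) 5
    (by rw [hPc])
  have hy' : orderOf (y : G) = 5 := by rw [orderOf_coe]; exact hy
  have := orderOf_dvd_of_commute hc h11 hx' (h.comm _ x.2 _ y.2)
  rw [hy'] at this
  norm_num at this

/-- The case `(e, |K|) = (4, 27)` does not occur. -/
theorem ne_case_27 [IsSimpleGroup G] (hc : Nat.card G = 95040)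
    (h11 : ∀ P : Sylow 11 G, centralizer (P : Set G) = (P : Subgroup G))
    (P : Sylow 5 G) {K : Subgroup G} (h : IsLocal 5 P 4 K) : Nat.card K ≠ 27 := by
  intro hK
  have : Fact (Nat.Prime 5) := ⟨by norm_num⟩
  have : Fact (Nat.Prime 3) := ⟨by norm_num⟩
  have hK3 : IsPGroup 3 K := IsPGroup.of_card (n := 3) (by rw [hK]; norm_num)
  have hidx : K.index = 3520 := by
    have := K.card_mul_index
    rw [hK, hc] at this
    omega
  have hKS : ¬ 3 ∣ K.index := by rw [hidx]; norm_num
  let S : Sylow 3 G := hK3.toSylow hKS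
  have hS : (S : Subgroup G) = K := rfl
  set N := normalizer (K : Set G) with hN
  have hPN : (P : Subgroup G) ≤ N := le_normalizer.trans h.normalizer_le
  have h1 := RelSylow.relIndex_modEq_one P N hPN
  have h2 : (normalizer (P : Set G)).relIndex N * Nat.card (normalizer (P : Set G)) =
      Nat.card N := by
    have := RelSylow.relIndex_mul_card_inf (normalizer (P : Set G)) N
    rwa [inf_eq_right.2 h.normalizer_le] at this
  have h3 : Nat.card (normalizer (P : Set G)) = 540 := by
    rw [h.card_normalizer, hK]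
  rw [h3] at h2
  have h4 : Nat.card (Sylow 3 G) = N.index := S.card_eq_index_normalizer
  have h5 := card_sylow_modEq_one 3 G
  rw [h4] at h5
  have h6 := N.card_mul_index
  rw [hc] at h6
  have h7 := not_dvd_card_normalizer hc h11 K hK
  rw [← hN] at h7
  rw [← h2] at h6 h7
  change ((normalizer (P : Set G)).relIndex N) ≡ 1 [MOD 5] at h1
  generalize (normalizer (P : Set G)).relIndex N = j at *
  generalize N.index = n at *
  have h8 : j * n = 176 := by
    have : 540 * (j * n) = 540 * 176 := by rw [← mul_assoc, mul_comm 540 j, h6]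
    exact Nat.eq_of_mul_eq_mul_left (by norm_num) this
  have h9 : j ∣ 176 := ⟨n, h8.symm⟩
  have h10 : j ∈ Nat.divisors 176 := Nat.mem_divisors.2 ⟨h9, by norm_num⟩
  have h11' : Nat.divisors 176 = {1, 2, 4, 8, 16, 11, 22, 44, 88, 176} := by decide +kernel
  rw [h11'] at h10
  simp only [Finset.mem_insert, Finset.mem_singleton] at h10
  unfold Nat.ModEq at h1 h5
  have h12 : ¬ 11 ∣ j := fun h => h7 (Dvd.dvd.mul_right h _)
  rcases h10 with rfl | rfl | rfl | rfl | rfl | rfl | rfl | rfl | rfl | rfl <;> omega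

/-- The possible local data of a Sylow `5`-subgroup. -/
theorem cases [IsSimpleGroup G] (hc : Nat.card G = 95040)
    (h11 : ∀ P : Sylow 11 G, centralizer (P : Set G) = (P : Subgroup G))
    (P : Sylow 5 G) : ∃ (e : ℕ) (K : Subgroup G), IsLocal 5 P e K ∧
      ((e = 2 ∧ (Nat.card K = 4 ∨ Nat.card K = 9 ∨ Nat.card K = 24 ∨ Nat.card K = 54 ∨
        Nat.card K = 144)) ∨
      (e = 4 ∧ (Nat.card K = 2 ∨ Nat.card K = 12 ∨ Nat.card K = 72))) := by
  have : Fact (Nat.Prime 5) := ⟨by norm_num⟩
  have : Fact (Nat.Prime 11) := ⟨by norm_num⟩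
  have hG : ¬ IsMulCommutative G :=
    Embed.not_comm_of_card_not_prime (by rw [hc]; norm_num)
  obtain ⟨e, K, h⟩ := exists_local hG (p := 5) (by rw [hc]; norm_num) (by rw [hc]; norm_num) P
  refine ⟨e, K, h, ?_⟩
  have hPc : Nat.card P = 5 :=
    card_of_not_sq_dvd (by rw [hc]; norm_num) (by rw [hc]; norm_num) P
  obtain ⟨o, ho1, ho2⟩ := h.card_sylow hG (by norm_num) hPc
  have h1 := h.card_eq
  rw [hc, ho1] at h1
  have h2 := not_dvd_card_compl hc h11 P h
  have h3 := h.dvd_pred
  have h4 := h.one_lt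
  have h5 : e = 2 ∨ e = 4 := by
    have h6 : e ≤ 4 := Nat.le_of_dvd (by norm_num) h3
    interval_cases e
    · exact Or.inl rfl
    · omega
    · exact Or.inr rfl
  have hk27 : e = 4 → Nat.card K ≠ 27 := by
    rintro rfl
    exact ne_case_27 hc h11 P h
  have hkpos : 0 < Nat.card K := Nat.card_pos
  generalize Nat.card K = k at *
  rcases h5 with rfl | rfl
  · left
    refine ⟨rfl, ?_⟩
    have h6 : (1 + 5 * o) * k = 9504 := by
      have : 10 * ((1 + 5 * o) * k) = 10 * 9504 := by linarith
      exact Nat.eq_of_mul_eq_mul_left (by norm_num) this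
    have h7 : k ∣ 864 := by
      have h8 : k ∣ 11 * 864 := ⟨1 + 5 * o, by rw [mul_comm k, h6]⟩
      exact (Nat.Coprime.dvd_mul_left
        (((Nat.Prime.coprime_iff_not_dvd (by norm_num)).2 h2).symm)).1 h8
    have h8 : k ∈ Nat.divisors 864 := Nat.mem_divisors.2 ⟨h7, by norm_num⟩
    have h9 : (Nat.divisors 864).filter (fun k => k % 5 = 4) = {4, 9, 24, 54, 144, 864} := by
      decide +kernel
    have h10 : k % 5 = 4 := by
      have h11 : ((1 + 5 * o) * k) % 5 = 4 := by rw [h6]
      have h12 : ((1 + 5 * o) * k) % 5 = k % 5 := by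
        rw [add_mul, one_mul, mul_assoc, Nat.add_mul_mod_self_left]
      omega
    have h11 : k ∈ (Nat.divisors 864).filter (fun k => k % 5 = 4) := by
      rw [Finset.mem_filter]; exact ⟨h8, h10⟩
    rw [h9] at h11
    simp only [Finset.mem_insert, Finset.mem_singleton] at h11
    rcases h11 with rfl | rfl | rfl | rfl | rfl | rfl
    · simp
    · simp
    · simp
    · simp
    · simp
    · exfalso
      have ho : o = 2 := by omega
      subst ho
      rcases ho2 with h | h
      · norm_num [Nat.factorial] at h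
      · omega
  · right
    refine ⟨rfl, ?_⟩
    have h6 : (1 + 5 * o) * k = 4752 := by
      have : 20 * ((1 + 5 * o) * k) = 20 * 4752 := by linarith
      exact Nat.eq_of_mul_eq_mul_left (by norm_num) this
    have h7 : k ∣ 432 := by
      have h8 : k ∣ 11 * 432 := ⟨1 + 5 * o, by rw [mul_comm k, h6]⟩
      exact (Nat.Coprime.dvd_mul_left
        (((Nat.Prime.coprime_iff_not_dvd (by norm_num)).2 h2).symm)).1 h8
    have h8 : k ∈ Nat.divisors 432 := Nat.mem_divisors.2 ⟨h7, by norm_num⟩
    have h9 : (Nat.divisors 432).filter (fun k => k % 5 = 2) = {2, 12, 27, 72, 432} := by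
      decide +kernel
    have h10 : k % 5 = 2 := by
      have h11 : ((1 + 5 * o) * k) % 5 = 2 := by rw [h6]
      have h12 : ((1 + 5 * o) * k) % 5 = k % 5 := by
        rw [add_mul, one_mul, mul_assoc, Nat.add_mul_mod_self_left]
      omega
    have h11 : k ∈ (Nat.divisors 432).filter (fun k => k % 5 = 2) := by
      rw [Finset.mem_filter]; exact ⟨h8, h10⟩
    rw [h9] at h11
    simp only [Finset.mem_insert, Finset.mem_singleton] at h11
    rcases h11 with rfl | rfl | rfl | rfl | rfl
    · simp
    · simp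
    · exact absurd rfl (hk27 rfl)
    · simp
    · exfalso
      have ho : o = 2 := by omega
      subst ho
      rcases ho2 with h | h
      · norm_num [Nat.factorial] at h
      · omega

end Cfsg.Agent.MTwelve.SylowFive
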