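import Cfsg.Agent.Characters.Core
import Cfsg.Agent.Characters.Values
import Cfsg.Agent.Characters.Linear
import Cfsg.Agent.Characters.DefectZero
import Mathlib.GroupTheory.Sylow
import Mathlib.GroupTheory.Abelianization.Defs
import Mathlib.GroupTheory.SpecificGroups.Cyclic
import Mathlib.LinearAlgebra.Eigenspace.Charpoly

/-!
# Characters of small degree of a simple group and the centraliser of a Sylow `p`-subgroup of
order `p`

* `character_eq_add_four_mul`: in a perfect group a character value at an involution is congruent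
  to the degree modulo four;
* `eq_one_of_norm_eq`: in a nonabelian simple group `|χ(g)| = χ(1)` only for `g = 1`;
* `exists_isCharacter_of_vanish`: if `χ` vanishes on `x y` for `1 ≠ x ∈ P`, `y ∈ Q`, where `P`
  and `Q` commute elementwise, then `χ|_Q = |P| φ` for a character `φ` of `Q`;
* `centralizer_eq_of_degree_eq`: an irreducible character of degree `p` forces `C(P) = P`;
* `odd_card_centralizer_of_degree_eq`: an irreducible character of degree `2 p` (`p` odd) forces
  `|C(P)|` to be odd.
-/

set_option autoImplicit false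

open scoped ComplexConjugate
open Cfsg

namespace Cfsg.Agent.MTwelve.SmallDegree

open Cfsg.Agent.Characters

universe u

/-! ### Values at involutions -/

theorem exists_nat_of_sq_eq_one (s : Multiset ℂ) (h : ∀ z ∈ s, z ^ 2 = 1) :
    ∃ a b : ℕ, Multiset.card s = a + b ∧ s.sum = (a : ℂ) - b ∧ s.prod = (-1) ^ b := by
  induction s using Multiset.induction_on with
  | empty => exact ⟨0, 0, by simp, by simp, by simp⟩
  | cons c s ih =>
    obtain ⟨a, b, hab, hb1, hb2⟩ := ih fun z hz => h z (Multiset.mem_cons_of_mem hz)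
    have hc : c ^ 2 = 1 := h c (Multiset.mem_cons_self c s)
    rcases sq_eq_one_iff.1 hc with rfl | rfl
    · refine ⟨a + 1, b, ?_, ?_, ?_⟩
      · rw [Multiset.card_cons, hab]
        ring
      · rw [Multiset.sum_cons, hb1]
        push_cast
        ring
      · rw [Multiset.prod_cons, hb2, one_mul]
    · refine ⟨a, b + 1, ?_, ?_, ?_⟩
      · rw [Multiset.card_cons, hab]
        ring
      · rw [Multiset.sum_cons, hb1]
        push_cast
        ring
      · rw [Multiset.prod_cons, hb2, pow_succ]
        ring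

/-- The value of a character at an element of order at most two. -/
theorem exists_eq_sub_of_sq_eq_one {G : Type u} [Group G] {χ : G → ℂ} (hχ : IsCharacter G χ)
    {g : G} (hg : g ^ 2 = 1) : ∃ a b : ℕ, χ 1 = a + b ∧ χ g = (a : ℂ) - b := by
  obtain ⟨n, ρ, rfl⟩ := hχ
  have hroots : ∀ z ∈ (ρ g).charpoly.roots, z ^ 2 = 1 := fun z hz =>
    Values.pow_eq_one_of_mem_roots (by rw [← map_pow, hg, map_one]) hz
  obtain ⟨a, b, hab, hb1, hb2⟩ := exists_nat_of_sq_eq_one _ hroots
  refine ⟨a, b, ?_, ?_⟩
  · rw [Values.card_roots_charpoly] at hab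
    rw [Representation.char_one, hab]
    push_cast
    ring
  · rw [Values.character_eq_sum_roots, hb1]

/-- For a representation of a perfect group all determinants are one. -/
theorem det_eq_one {G : Type u} [Group G] (hG : commutator G = ⊤) {V : Type*} [AddCommGroup V]
    [Module ℂ V] [FiniteDimensional ℂ V] (ρ : Representation ℂ G V) (g : G) :
    LinearMap.det (ρ g) = 1 := by
  let f : G →* ℂ := (LinearMap.det : (V →ₗ[ℂ] V) →* ℂ).comp ρ
  have hle : commutator G ≤ f.toHomUnits.ker := Abelianization.commutator_subset_ker _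
  rw [hG, top_le_iff] at hle
  have h1 : f.toHomUnits g = 1 := by
    rw [← MonoidHom.mem_ker, hle]
    trivial
  have h2 : f g = 1 := by
    rw [← MonoidHom.coe_toHomUnits, h1, Units.val_one]
  exact h2

/-- In a perfect group, the value of a character at an involution is congruent to the degree
modulo four. -/
theorem character_eq_add_four_mul {G : Type u} [Group G] (hG : commutator G = ⊤)
    {χ : G → ℂ} (hχ : IsCharacter G χ) {g : G} (hg : g ^ 2 = 1) : ∃ k : ℕ, χ 1 = χ g + 4 * k := by
  obtain ⟨n, ρ, rfl⟩ := hχ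
  have hroots : ∀ z ∈ (ρ g).charpoly.roots, z ^ 2 = 1 := fun z hz =>
    Values.pow_eq_one_of_mem_roots (by rw [← map_pow, hg, map_one]) hz
  obtain ⟨a, b, hab, hb1, hb2⟩ := exists_nat_of_sq_eq_one _ hroots
  have hdet : LinearMap.det (ρ g) = (ρ g).charpoly.roots.prod :=
    Module.End.det_eq_prod_roots_charpoly_of_splits (IsAlgClosed.splits _)
  rw [det_eq_one hG ρ g, hb2] at hdet
  have heven : Even b := by
    by_contra hodd
    rw [Nat.not_even_iff_odd] at hodd
    rw [hodd.neg_one_pow] at hdet
    norm_num at hdet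
  obtain ⟨k, rfl⟩ := heven
  refine ⟨k, ?_⟩
  rw [Values.card_roots_charpoly] at hab
  rw [Representation.char_one, hab, Values.character_eq_sum_roots, hb1]
  push_cast
  ring

/-! ### Scalars -/

theorem center_eq_bot {G : Type u} [Group G] [IsSimpleGroup G] (hG : commutator G = ⊤) :
    Subgroup.center G = ⊥ := by
  rcases (inferInstance : (Subgroup.center G).Normal).eq_bot_or_eq_top with h | h
  · exact h
  · exfalso
    have h1 : commutator G = ⊥ := by
      rw [commutator_def, Subgroup.commutator_eq_bot_iff_le_centralizer]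
      intro a _
      rw [Subgroup.mem_centralizer_iff]
      intro b _
      have ha : a ∈ Subgroup.center G := by rw [h]; trivial
      exact (Subgroup.mem_center_iff.1 ha b)
    rw [hG] at h1
    obtain ⟨a, ha⟩ := exists_ne (1 : G)
    exact ha (Subgroup.mem_bot.1 (h1 ▸ Subgroup.mem_top a))

/-- In a nonabelian simple group a nontrivial irreducible character takes values of absolute
value equal to the degree only at the identity. -/
theorem eq_one_of_norm_eq {G : Type u} [Group G] [Finite G] [IsSimpleGroup G]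
    (hG : commutator G = ⊤) {χ : G → ℂ} (hχ : IsIrrCharacter G χ) (hne : χ ≠ 1) {g : G}
    (hg : ‖χ g‖ = ‖χ 1‖) : g = 1 := by
  classical
  have := Fintype.ofFinite G
  have hχ' := hχ
  obtain ⟨n, ρ, hρ, rfl⟩ := hχ
  have hn : ‖ρ.character g‖ = (Module.finrank ℂ (Fin n → ℂ) : ℝ) := by
    rw [hg, Representation.char_one]
    simp
  obtain ⟨w, hw⟩ := (Values.norm_character_eq_iff ρ g).1 hn
  rcases (inferInstance : (MonoidHom.ker ρ).Normal).eq_bot_or_eq_top with h | h
  · have hinj : Function.Injective ρ := (MonoidHom.ker_eq_bot_iff ρ).1 h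
    have hc : g ∈ Subgroup.center G := by
      rw [Subgroup.mem_center_iff]
      intro b
      apply hinj
      rw [map_mul, map_mul, hw]
      ext x
      simp
    rw [center_eq_bot hG] at hc
    exact Subgroup.mem_bot.1 hc
  · exfalso
    have hval : ∀ x : G, ρ.character x = ρ.character 1 := by
      intro x
      have hx : x ∈ MonoidHom.ker ρ := by rw [h]; trivial
      rw [MonoidHom.mem_ker] at hx
      rw [Representation.character, Representation.character, hx, map_one ρ]
    have h0 : classInner ρ.character (1 : G → ℂ) = 0 :=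
      Core.classInner_irr_ne hχ' Core.isIrr_one hne
    rw [Core.classInner_def] at h0
    simp only [hval, Pi.one_apply, map_one, mul_one, Finset.sum_const, Finset.card_univ,
      nsmul_eq_mul, mul_eq_zero, inv_eq_zero] at h0
    rcases h0 with h0 | h0 | h0
    · exact Core.card_ne_zero_complex h0
    · exact Fintype.card_ne_zero (α := G) (by exact_mod_cast h0)
    · exact Core.isIrr_apply_one_ne_zero hχ' h0

/-! ### Restriction to a direct product -/

/-- If `P` and `Q` commute elementwise and the character `χ` vanishes at `x * y` for all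
`1 ≠ x ∈ P` and `y ∈ Q`, then `χ|_Q` is `|P|` times a character of `Q`. -/
theorem exists_isCharacter_of_vanish {G : Type u} [Group G] [Finite G] {χ : G → ℂ}
    (hχ : IsCharacter G χ) (P Q : Subgroup G) (hPQ : ∀ x ∈ P, ∀ y ∈ Q, x * y = y * x)
    (h0 : ∀ x ∈ P, x ≠ 1 → ∀ y ∈ Q, χ (x * y) = 0) :
    ∃ φ : Q → ℂ, IsCharacter Q φ ∧ ∀ y : Q, χ y = Nat.card P * φ y := by
  classical
  have := Fintype.ofFinite G
  have := Fintype.ofFinite P
  have := Fintype.ofFinite Q
  have := Core.finite_irr (G := Q)
  have := Fintype.ofFinite (IrrCharacter Q)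
  let f : P × Q →* G := MonoidHom.noncommCoprod P.subtype Q.subtype
    (fun x y => hPQ x x.2 y y.2)
  have hf : ∀ z : P × Q, f z = z.1 * z.2 := fun z => rfl
  have hψ : IsCharacter (P × Q) (fun z => χ (f z)) := Core.isCharacter_comp f hχ
  have hres : IsCharacter Q (fun y : Q => χ y) := Core.isCharacter_comp Q.subtype hχ
  have key : ∀ η : IrrCharacter Q, ∃ n : ℕ,
      classInner (fun y : Q => χ y) (η : Q → ℂ) = Nat.card P * n := by
    intro η
    obtain ⟨n, hn⟩ := Core.classInner_isNat hψ
      (Core.isCharacter_comp (MonoidHom.snd P Q) (Core.isIrr_isCharacter η.2))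
    refine ⟨n, ?_⟩
    rw [← hn, Core.classInner_def, Core.classInner_def, Nat.card_prod, Fintype.sum_prod_type]
    have h1 : ∀ x : P, ∑ y : Q, χ (f (x, y)) * conj (((η : Q → ℂ) ∘ MonoidHom.snd P Q) (x, y)) =
        if x = 1 then ∑ y : Q, χ y * conj ((η : Q → ℂ) y) else 0 := by
      intro x
      split_ifs with hx
      · subst hx
        refine Finset.sum_congr rfl fun y _ => ?_
        rw [hf]
        simp
      · refine Finset.sum_eq_zero fun y _ => ?_
        rw [hf, h0 x x.2 (fun h => hx (Subtype.ext h)) y y.2, zero_mul]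
    rw [Finset.sum_congr rfl fun x _ => h1 x, Finset.sum_ite_eq' Finset.univ (1 : P),
      if_pos (Finset.mem_univ _)]
    have hP : (Nat.card P : ℂ) ≠ 0 := Core.card_ne_zero_complex
    have hQ : (Nat.card Q : ℂ) ≠ 0 := Core.card_ne_zero_complex
    push_cast
    field_simp
  choose m hm using key
  refine ⟨∑ η : IrrCharacter Q, m η • (η : Q → ℂ), Core.isCharacter_iff.2 ⟨m, rfl⟩, ?_⟩
  intro y
  have h2 := congrFun (Core.classFunction_eq_sum (Core.isCharacter_isClassFunction hres)) y
  refine h2.trans ?_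
  simp only [Finset.sum_apply, Pi.smul_apply, hm, smul_eq_mul, Finset.mul_sum]
  exact Finset.sum_congr rfl fun η _ => by rw [nsmul_eq_mul, mul_assoc]

/-! ### Sylow subgroups of prime order -/

theorem not_sq_dvd {G : Type u} [Group G] [Finite G] {p : ℕ} [hp : Fact p.Prime] (P : Sylow p G)
    (hP : Nat.card P = p) : ¬ p ^ 2 ∣ Nat.card G := by
  intro h
  have h1 := (P : Subgroup G).card_mul_index
  have h2 : Nat.card (P : Subgroup G) = p := hP
  rw [← h1, h2, pow_two] at h
  exact P.not_dvd_index (Nat.dvd_of_mul_dvd_mul_left hp.out.pos h)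

theorem dvd_card {G : Type u} [Group G] [Finite G] {p : ℕ} (P : Sylow p G)
    (hP : Nat.card P = p) : p ∣ Nat.card G := by
  have h2 : Nat.card (P : Subgroup G) = p := hP
  rw [← h2]
  exact Subgroup.card_subgroup_dvd_card _

theorem orderOf_eq_of_mem {G : Type u} [Group G] [Finite G] {p : ℕ} [hp : Fact p.Prime]
    (P : Sylow p G) (hP : Nat.card P = p) {x : G} (hx : x ∈ P) (hx1 : x ≠ 1) : orderOf x = p := by
  have h2 : Nat.card (P : Subgroup G) = p := hP
  have h3 : orderOf x ∣ p := by
    rw [← h2, ← Subgroup.orderOf_mk x hx]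
    exact orderOf_dvd_natCard _
  rcases (Nat.dvd_prime hp.out).1 h3 with h | h
  · exact absurd (orderOf_eq_one_iff.1 h) hx1
  · exact h

/-- An irreducible character of degree divisible by `p` (where the Sylow `p`-subgroup `P` has
order `p`) vanishes at the elements `x * y`, `1 ≠ x ∈ P`, `y` a commuting `p'`-element. -/
theorem apply_mul_eq_zero {G : Type u} [Group G] [Finite G] {p : ℕ} [hp : Fact p.Prime]
    (P : Sylow p G) (hP : Nat.card P = p) {χ : G → ℂ} (hχ : IsIrrCharacter G χ) {m : ℕ}
    (hm : χ 1 = p * m) {x y : G} (hx : x ∈ P) (hx1 : x ≠ 1) (hxy : x * y = y * x)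
    (hy : ¬ p ∣ orderOf y) : χ (x * y) = 0 := by
  have := Fintype.ofFinite G
  obtain ⟨n, ρ, hρ, rfl⟩ := hχ
  have hdeg : p ^ 1 ∣ Module.finrank ℂ (Fin n → ℂ) := by
    rw [Representation.char_one] at hm
    rw [pow_one]
    exact ⟨m, by exact_mod_cast hm⟩
  have hord : orderOf (x * y) = p * orderOf y := by
    rw [(show Commute x y from hxy).orderOf_mul_eq_mul_orderOf_of_coprime,
      orderOf_eq_of_mem P hP hx hx1]
    rw [orderOf_eq_of_mem P hP hx hx1]
    exact (Nat.Prime.coprime_iff_not_dvd hp.out).2 hy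
  have h := DefectZero.character_inv_eq_zero ρ hρ p 1 hp.out (by rw [pow_one]; exact dvd_card P hP)
    (not_sq_dvd P hP) hdeg (x * y)⁻¹ (by rw [orderOf_inv, hord]; exact dvd_mul_right _ _)
  rwa [inv_inv] at h

/-- An irreducible character of degree `p * m` restricts to a `p'`-subgroup `Q` of the centraliser
of a Sylow `p`-subgroup of order `p` as `p` times a character of degree `m`. -/
theorem exists_isCharacter_of_defect_zero {G : Type u} [Group G] [Finite G] {p : ℕ}
    [hp : Fact p.Prime] (P : Sylow p G) (hP : Nat.card P = p) {χ : G → ℂ}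
    (hχ : IsIrrCharacter G χ) {m : ℕ} (hm : χ 1 = p * m) (Q : Subgroup G)
    (hQ : Q ≤ Subgroup.centralizer ((P : Subgroup G) : Set G)) (hpQ : ¬ p ∣ Nat.card Q) :
    ∃ φ : Q → ℂ, IsCharacter Q φ ∧ φ 1 = m ∧ ∀ y : Q, χ y = p * φ y := by
  have hcomm : ∀ x ∈ (P : Subgroup G), ∀ y ∈ Q, x * y = y * x := fun x hx y hy =>
    Subgroup.mem_centralizer_iff.1 (hQ hy) x hx
  obtain ⟨φ, hφ, h⟩ := exists_isCharacter_of_vanish (Core.isIrr_isCharacter hχ) (P : Subgroup G) Q
    hcomm (by
      intro x hx hx1 y hy
      refine apply_mul_eq_zero P hP hχ hm hx hx1 (hcomm x hx y hy) ?_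
      intro hdvd
      apply hpQ
      refine hdvd.trans ?_
      rw [← Subgroup.orderOf_mk y hy]
      exact orderOf_dvd_natCard _)
  have hcard : (Nat.card (P : Subgroup G) : ℂ) = p := by
    exact_mod_cast (show Nat.card (P : Subgroup G) = p from hP)
  rw [hcard] at h
  refine ⟨φ, hφ, ?_, h⟩
  have h1 := h 1
  rw [Subgroup.coe_one, hm] at h1
  have hp0 : (p : ℂ) ≠ 0 := by exact_mod_cast hp.out.ne_zero
  exact (mul_left_cancel₀ hp0 h1).symm

/-- K5: in a nonabelian simple group with a Sylow `p`-subgroup `P` of order `p` and an irreducible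
character of degree `p`, the centraliser of `P` is `P`. -/
theorem eq_one_of_degree_eq {G : Type u} [Group G] [Finite G] [IsSimpleGroup G]
    (hG : commutator G = ⊤) {p : ℕ} [hp : Fact p.Prime] (P : Sylow p G) (hP : Nat.card P = p)
    {χ : G → ℂ} (hχ : IsIrrCharacter G χ) (h1 : χ 1 = p) {y : G}
    (hy : y ∈ Subgroup.centralizer ((P : Subgroup G) : Set G)) (hpy : ¬ p ∣ orderOf y) :
    y = 1 := by
  have hne : χ ≠ 1 := by
    rintro rfl
    rw [Pi.one_apply] at h1
    exact hp.out.one_lt.ne' (by exact_mod_cast h1.symm)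
  obtain ⟨φ, hφ, hφ1, h⟩ := exists_isCharacter_of_defect_zero P hP hχ (m := 1)
    (by rw [h1, Nat.cast_one, mul_one]) (Subgroup.zpowers y) (by
      rw [Subgroup.zpowers_le]; exact hy) (by rwa [Nat.card_zpowers])
  obtain ⟨f, hf⟩ := Linear.exists_hom_of_isCharacter hφ (by rw [hφ1, Nat.cast_one])
  refine eq_one_of_norm_eq hG hχ hne ?_
  have h2 := h ⟨y, Subgroup.mem_zpowers y⟩
  simp only at h2
  rw [h2, h1, norm_mul]
  have h3 : ‖φ ⟨y, Subgroup.mem_zpowers y⟩‖ = 1 := by
    rw [hf]
    exact Linear.norm_hom_apply f _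
  rw [h3, mul_one]

/-- K5: in a nonabelian simple group with a Sylow `p`-subgroup `P` of order `p` and an irreducible
character of degree `p`, the centraliser of `P` is `P`. -/
theorem centralizer_eq_of_degree_eq {G : Type u} [Group G] [Finite G] [IsSimpleGroup G]
    (hG : commutator G = ⊤) {p : ℕ} [hp : Fact p.Prime] (P : Sylow p G) (hP : Nat.card P = p)
    {χ : G → ℂ} (hχ : IsIrrCharacter G χ) (h1 : χ 1 = p) :
    Subgroup.centralizer ((P : Subgroup G) : Set G) = P := by
  have hPC : (P : Subgroup G) ≤ Subgroup.centralizer ((P : Subgroup G) : Set G) := by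
    have hcyc : IsCyclic (P : Subgroup G) := isCyclic_of_prime_card hP
    intro a ha
    rw [Subgroup.mem_centralizer_iff]
    intro b hb
    have := (IsCyclic.isMulCommutative (α := (P : Subgroup G))).is_comm.comm ⟨b, hb⟩ ⟨a, ha⟩
    exact congrArg Subtype.val this
  have hpg : IsPGroup p (Subgroup.centralizer ((P : Subgroup G) : Set G)) := by
    rw [IsPGroup.iff_card]
    refine ⟨_, Nat.eq_prime_pow_of_unique_prime_dvd Nat.card_pos.ne' ?_⟩
    intro q hq hqd
    by_contra hqp
    have : Fact q.Prime := ⟨hq⟩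
    obtain ⟨y, hy⟩ := exists_prime_orderOf_dvd_card' q hqd
    have hy' : orderOf (y : G) = q := by rw [Subgroup.orderOf_coe, hy]
    have h2 : (y : G) = 1 := by
      refine eq_one_of_degree_eq hG P hP hχ h1 y.2 ?_
      rw [hy', Nat.prime_dvd_prime_iff_eq hp.out hq]
      exact fun h => hqp h.symm
    rw [h2, orderOf_one] at hy'
    exact hq.one_lt.ne hy'
  exact P.is_maximal' hpg hPC

/-- K10: in a nonabelian simple group with a Sylow `p`-subgroup `P` of odd prime order `p` and an
irreducible character of degree `2 p`, no involution centralises `P`. -/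
theorem not_two_dvd_of_degree_eq {G : Type u} [Group G] [Finite G] [IsSimpleGroup G]
    (hG : commutator G = ⊤) {p : ℕ} [hp : Fact p.Prime] (hp2 : p ≠ 2) (P : Sylow p G)
    (hP : Nat.card P = p) {χ : G → ℂ} (hχ : IsIrrCharacter G χ) (h1 : χ 1 = 2 * p) :
    ¬ 2 ∣ Nat.card (Subgroup.centralizer ((P : Subgroup G) : Set G)) := by
  intro hdvd
  obtain ⟨y, hy⟩ := exists_prime_orderOf_dvd_card' 2 hdvd
  have hy' : orderOf (y : G) = 2 := by rw [Subgroup.orderOf_coe, hy]
  have hy1 : (y : G) ≠ 1 := by
    intro h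
    rw [h, orderOf_one] at hy'
    exact absurd hy' (by norm_num)
  have hsq : (y : G) ^ 2 = 1 := by rw [← hy', pow_orderOf_eq_one]
  have hp3 : 2 < p := lt_of_le_of_ne hp.out.two_le (Ne.symm hp2)
  have hne : χ ≠ 1 := by
    rintro rfl
    rw [Pi.one_apply] at h1
    have h2 : 1 = 2 * p := by exact_mod_cast h1
    omega
  obtain ⟨φ, hφ, hφ1, h⟩ := exists_isCharacter_of_defect_zero P hP hχ (m := 2)
    (by rw [h1]; push_cast; ring) (Subgroup.zpowers (y : G)) (by
      rw [Subgroup.zpowers_le]; exact y.2) (by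
      rw [Nat.card_zpowers, hy']
      intro hd
      exact hp2 ((Nat.prime_dvd_prime_iff_eq hp.out Nat.prime_two).1 hd))
  obtain ⟨k, hk⟩ := character_eq_add_four_mul hG (Core.isIrr_isCharacter hχ) hsq
  have hysub : (⟨y, Subgroup.mem_zpowers (y : G)⟩ : Subgroup.zpowers (y : G)) ^ 2 = 1 :=
    Subtype.ext hsq
  obtain ⟨a, b, hab, hφy⟩ := exists_eq_sub_of_sq_eq_one hφ hysub
  have h2 := h ⟨y, Subgroup.mem_zpowers (y : G)⟩
  simp only at h2
  rw [hφ1] at hab
  have hab' : 2 = a + b := by exact_mod_cast hab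
  have hnorm : ∀ c : ℂ, ‖c‖ = 1 → χ y = p * (2 * c) → False := by
    intro c hc hχy
    refine hy1 (eq_one_of_norm_eq hG hχ hne ?_)
    rw [hχy, h1, norm_mul, norm_mul, norm_mul, hc]
    ring
  have hcases : (a = 2 ∧ b = 0) ∨ (a = 1 ∧ b = 1) ∨ (a = 0 ∧ b = 2) := by omega
  rcases hcases with ⟨rfl, rfl⟩ | ⟨rfl, rfl⟩ | ⟨rfl, rfl⟩
  · refine hnorm 1 (by simp) ?_
    rw [h2, hφy]
    push_cast
    ring
  · have h3 : χ y = 0 := by
      rw [h2, hφy]
      push_cast
      ring
    rw [h1, h3, zero_add] at hk
    have hk' : 2 * p = 4 * k := by exact_mod_cast hk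
    have hpe : p = 2 * k := by omega
    rcases (Nat.dvd_prime hp.out).1 ⟨k, hpe⟩ with h4 | h4 <;> omega
  · refine hnorm (-1) (by simp) ?_
    rw [h2, hφy]
    push_cast
    ring

/-- A nonabelian simple group is perfect. -/
theorem commutator_eq_top {G : Type u} [Group G] [IsSimpleGroup G]
    (hna : ¬ ∀ a b : G, a * b = b * a) : commutator G = ⊤ := by
  rcases (inferInstance : (commutator G).Normal).eq_bot_or_eq_top with h | h
  · exfalso
    apply hna
    intro a b
    rw [commutator_def, Subgroup.commutator_eq_bot_iff_le_centralizer] at h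
    exact (Subgroup.mem_centralizer_iff.1 (h (Subgroup.mem_top a)) b (Subgroup.mem_top b)).symm
  · exact h

/-- A finite simple group whose order is not a prime is perfect. -/
theorem commutator_eq_top_of_card {G : Type u} [Group G] [Finite G] [IsSimpleGroup G]
    (hc : ¬ (Nat.card G).Prime) : commutator G = ⊤ := by
  apply commutator_eq_top
  intro hcomm
  apply hc
  let inst : CommGroup G := { (inferInstance : Group G) with mul_comm := hcomm }
  exact IsSimpleGroup.prime_card

end Cfsg.Agent.MTwelve.SmallDegree
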