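import Mathlib
import Cfsg.Agent.SmallSimple.InvolColumn
import Cfsg.Agent.SmallSimple.TheoremBCor
import Cfsg.Agent.MTwelve.Arith
import Cfsg.Agent.MTwelve.SylowFive
import Cfsg.Agent.SmallSimple.SylowPrimeCount
import Cfsg.Agent.S0135

/-!
# The principal 11-block of a simple group of order 95040
-/

set_option autoImplicit false
set_option linter.unusedSectionVars false

namespace Cfsg.Agent.MTwelve.ElevenBlock

open Cfsg Subgroup Cfsg.Agent.Characters.Core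
open scoped ComplexConjugate
open Cfsg.Agent.SmallSimple.InvolColumn
open Cfsg.Agent.MTwelve

universe u
variable {G : Type u} [Group G]

/-! ### General facts -/

theorem charDegree_dvd [Finite G] {χ : G → ℂ} (hχ : IsIrrCharacter G χ) :
    charDegree χ ∣ Nat.card G := by
  have hdeg := Cfsg.Agent.Blocks.Basic.irr_one_eq_charDegree hχ
  obtain ⟨n, ρ, hρ, rfl⟩ := hχ
  have h1 := Cfsg.Agent.S0135.result ρ
  rw [ρ.char_one] at hdeg
  have h2 : charDegree ρ.character = Module.finrank ℂ (Fin n → ℂ) := by exact_mod_cast hdeg.symm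
  rw [h2]; exact h1

theorem one_lt_charDegree [Finite G] [IsSimpleGroup G] (hG : commutator G = ⊤) {χ : G → ℂ}
    (hχ : IsIrrCharacter G χ) (hχ1 : χ ≠ 1) : 1 < charDegree χ := by
  have hdeg := Cfsg.Agent.Blocks.Basic.irr_one_eq_charDegree hχ
  have hpos : charDegree χ ≠ 0 := by
    intro h
    rw [h] at hdeg
    exact Cfsg.Agent.Blocks.Basic.irr_one_ne_zero hχ (by rw [hdeg]; simp)
  by_contra hcon
  have h1 : charDegree χ = 1 := by omega
  obtain ⟨g, hg⟩ := exists_ne (1 : G)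
  apply hg
  refine SmallDegree.eq_one_of_norm_eq hG hχ hχ1 ?_
  rw [hdeg, h1]
  obtain ⟨n, ρ, hρ, rfl⟩ := hχ
  rw [Cfsg.Agent.Characters.Values.character_eq_sum_roots]
  have h2 : Multiset.card (ρ g).charpoly.roots = 1 := by
    rw [Cfsg.Agent.Characters.Values.card_roots_charpoly]
    rw [ρ.char_one, h1] at hdeg
    exact_mod_cast hdeg
  obtain ⟨a, ha⟩ := Multiset.card_eq_one.1 h2
  rw [ha, Multiset.sum_singleton]
  have := Cfsg.Agent.Characters.Values.rep_root_norm ρ g (z := a) (by rw [ha]; simp)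
  rw [this]; simp

/-! ### The prime 11 -/

/-- Data for the principal 11-block: `one`, `χ 0, …, χ 3` are the non-exceptional characters. -/
structure Data (x : G) (NE X : Finset (IrrCharacter G)) (ε : IrrCharacter G → ℤ) (d : ℤ)
    (one : IrrCharacter G) (Θ : IrrCharacter G) : Prop where
  rel : Rel x (fun g => ¬ 11 ∣ orderOf g) NE X ε d
  cardNE : NE.card = 5
  cardX : X.card = 2
  sign : ∀ χ ∈ NE, ε χ = 1 ∨ ε χ = -1
  one_mem : one ∈ NE
  one_eq : (one : G → ℂ) = 1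
  sign_one : ε one = 1
  mem_X : Θ ∈ X
  degNE : ∀ χ ∈ NE, (11 : ℤ) ∣ ε χ * charDegree (χ : G → ℂ) - 1
  degOut : ∀ χ : IrrCharacter G, χ ∉ NE → χ ∉ X → 11 ∣ charDegree (χ : G → ℂ)

theorem mem_L {D : ℤ} (h1 : D.natAbs ∣ 95040) (h2 : 1 < D.natAbs) (h3 : (11 : ℤ) ∣ D - 1)
    (h4 : D ^ 2 ≤ 95040) : D ∈ Arith.L := by
  have key : ∀ n ∈ List.range 618, ((n : ℤ) - 309).natAbs ∣ 95040 → 1 < ((n : ℤ) - 309).natAbs →
      (11 : ℤ) ∣ ((n : ℤ) - 309) - 1 → ((n : ℤ) - 309) ∈ Arith.L := by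
    decide +kernel
  have h5 : -309 ≤ D := by nlinarith
  have h6 : D < 309 := by nlinarith
  have h7 : D = ((D + 309).toNat : ℤ) - 309 := by omega
  rw [h7]
  rw [h7] at h1 h2 h3
  exact key _ (by rw [List.mem_range]; omega) h1 h2 h3

theorem eps_sq {e : ℤ} (h : e = 1 ∨ e = -1) : e * e = 1 := by
  rcases h with rfl | rfl <;> rfl

/-- The data exist. -/
theorem exists_data [Finite G] (P : Sylow 11 G) (hP : Nat.card P = 11)
    (hC : centralizer (P : Set G) = (P : Subgroup G))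
    (he : (centralizer (P : Set G)).relIndex (normalizer (P : Set G)) = 5)
    {x : G} (hx : x ∈ P) (hx1 : x ≠ 1) :
    ∃ (NE X : Finset (IrrCharacter G)) (ε : IrrCharacter G → ℤ) (d : ℤ)
      (one Θ : IrrCharacter G), Data x NE X ε d one Θ := by
  have : Fact (Nat.Prime 11) := ⟨by norm_num⟩
  obtain ⟨NE, X, ε, d, S, h1, h2, h3, h4, h5, ⟨one, h6, h6', h6''⟩, h7, h8, h9, h10, h11⟩ :=
    Cfsg.Agent.SmallSimple.TheoremBCor.theoremB_selfCent 11 (by norm_num) P hP hC 5 2 he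
      (by norm_num)
  have hX : X.Nonempty := by rw [← Finset.card_pos, h3]; norm_num
  obtain ⟨Θ, hΘ⟩ := hX
  refine ⟨NE, X, ε, d, one, Θ, ⟨⟨h1, fun χ hχ => h7 χ hχ x hx hx1, fun χ hχ hχ' =>
    (h11 χ hχ hχ').1 x hx hx1, h5, h10, ?_, hx1⟩, h2, h3, h4, h6, h6', h6'', hΘ, ?_, ?_⟩⟩
  · rw [orderOf_one]; norm_num
  · intro χ hχ
    obtain ⟨m, hm⟩ := Cfsg.Agent.SmallSimple.TheoremBCor.degree_nonexc (P := (P : Subgroup G)) hP
      (isIrr_isCharacter χ.2) (ε := ε χ) (fun y hy hy1 => h7 χ hχ y hy hy1)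
    rw [Cfsg.Agent.Blocks.Basic.irr_one_eq_charDegree χ.2] at hm
    have h12 : (charDegree (χ : G → ℂ) : ℤ) = ε χ + 11 * (m - ε χ) := by exact_mod_cast hm
    have h13 := eps_sq (h4 χ hχ)
    refine ⟨ε χ * m - 1, ?_⟩
    rw [h12]
    linear_combination (1 - 11) * h13
  · exact fun χ hχ hχ' => (h11 χ hχ hχ').2

theorem Data.sum_eq [Finite G] {x : G} {NE X : Finset (IrrCharacter G)} {ε : IrrCharacter G → ℤ}
    {d : ℤ} {one Θ : IrrCharacter G} (h : Data x NE X ε d one Θ) :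
    ∃ χ : Fin 4 → IrrCharacter G, Function.Injective χ ∧ (∀ i, χ i ∈ NE) ∧ (∀ i, χ i ≠ one) ∧
      (∀ ψ ∈ NE, ψ = one ∨ ∃ i, ψ = χ i) ∧
      ∀ {M : Type} [AddCommMonoid M] (f : IrrCharacter G → M),
        ∑ ψ ∈ NE, f ψ = f one + ∑ i, f (χ i) := by
  classical
  have hc : (NE.erase one).card = 4 := by
    rw [Finset.card_erase_of_mem h.one_mem, h.cardNE]
  let e := (Finset.equivFinOfCardEq hc).symm
  refine ⟨fun i => (e i : IrrCharacter G), ?_, ?_, ?_, ?_, ?_⟩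
  · exact Subtype.val_injective.comp e.injective
  · exact fun i => Finset.mem_of_mem_erase (e i).2
  · exact fun i => Finset.ne_of_mem_erase (e i).2
  · intro ψ hψ
    by_cases h1 : ψ = one
    · exact Or.inl h1
    · right
      refine ⟨e.symm ⟨ψ, Finset.mem_erase.2 ⟨h1, hψ⟩⟩, ?_⟩
      simp
  · intro M _ f
    rw [← Finset.add_sum_erase NE f h.one_mem]
    congr 1
    rw [← Finset.sum_coe_sort, ← e.sum_comp (fun ψ => f (ψ : IrrCharacter G))]

/-- An enumeration of the nontrivial non-exceptional characters. -/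
structure Enum (NE : Finset (IrrCharacter G)) (one : IrrCharacter G)
    (χ : Fin 4 → IrrCharacter G) : Prop where
  inj : Function.Injective χ
  mem : ∀ i, χ i ∈ NE
  ne : ∀ i, χ i ≠ one
  cases : ∀ ψ ∈ NE, ψ = one ∨ ∃ i, ψ = χ i
  sum : ∀ f : IrrCharacter G → ℂ, ∑ ψ ∈ NE, f ψ = f one + ∑ i, f (χ i)
  sumR : ∀ f : IrrCharacter G → ℝ, ∑ ψ ∈ NE, f ψ = f one + ∑ i, f (χ i)

theorem Data.exists_enum [Finite G] {x : G} {NE X : Finset (IrrCharacter G)}
    {ε : IrrCharacter G → ℤ} {d : ℤ} {one Θ : IrrCharacter G} (h : Data x NE X ε d one Θ) :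
    ∃ χ : Fin 4 → IrrCharacter G, Enum NE one χ := by
  obtain ⟨χ, h1, h2, h3, h4, h5⟩ := h.sum_eq
  exact ⟨χ, h1, h2, h3, h4, fun f => h5 f, fun f => h5 f⟩

theorem Enum.comp {NE : Finset (IrrCharacter G)} {one : IrrCharacter G}
    {χ : Fin 4 → IrrCharacter G} (h : Enum NE one χ) (σ : Equiv.Perm (Fin 4)) :
    Enum NE one (χ ∘ σ) := by
  refine ⟨h.inj.comp σ.injective, fun i => h.mem _, fun i => h.ne _, ?_, ?_, ?_⟩
  · intro ψ hψ
    rcases h.cases ψ hψ with h1 | ⟨i, h1⟩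
    · exact Or.inl h1
    · exact Or.inr ⟨σ.symm i, by simp [h1]⟩
  · intro f
    rw [h.sum f]
    congr 1
    exact (Equiv.sum_comp σ fun i => f (χ i)).symm
  · intro f
    rw [h.sumR f]
    congr 1
    exact (Equiv.sum_comp σ fun i => f (χ i)).symm

section Column

variable [Finite G] {x : G} {NE X : Finset (IrrCharacter G)} {ε : IrrCharacter G → ℤ} {d : ℤ}
  {one Θ : IrrCharacter G} {χ : Fin 4 → IrrCharacter G}

theorem dd (h : Data x NE X ε d one Θ) : (d : ℂ) * d = 1 := by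
  have := eps_sq h.rel.hd
  exact_mod_cast this

/-- (R1) the value of the exceptional character. -/
theorem theta_apply (h : Data x NE X ε d one Θ) (hχ : Enum NE one χ) {g : G}
    (hg : ¬ 11 ∣ orderOf g) {w : Fin 4 → ℤ} (hw : ∀ i, (χ i : G → ℂ) g = ε (χ i) * w i) :
    (Θ : G → ℂ) g = ((d * (1 + ∑ i, w i) : ℤ) : ℂ) := by
  have h1 := h.rel.rel Θ h.mem_X g hg
  rw [hχ.sum, h.one_eq, h.sign_one] at h1
  have h2 : ∑ i, (ε (χ i) : ℂ) * (χ i : G → ℂ) g = ∑ i, (w i : ℂ) := by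
    refine Finset.sum_congr rfl fun i _ => ?_
    rw [hw i, ← mul_assoc]
    have := eps_sq (h.sign _ (hχ.mem i))
    have h3 : (ε (χ i) : ℂ) * ε (χ i) = 1 := by exact_mod_cast this
    rw [h3, one_mul]
  rw [h2] at h1
  have h3 : (Θ : G → ℂ) g = (d : ℂ) * d * (Θ : G → ℂ) g := by rw [dd h, one_mul]
  rw [h3, mul_assoc, ← h1]
  push_cast
  simp

/-- The norm inequality. -/
theorem norm_le (h : Data x NE X ε d one Θ) (hχ : Enum NE one χ) {g : G}
    (hg : ¬ 11 ∣ orderOf g) {w : Fin 4 → ℤ} (hw : ∀ i, (χ i : G → ℂ) g = ε (χ i) * w i) :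
    1 + ∑ i, w i ^ 2 + 2 * (1 + ∑ i, w i) ^ 2 ≤ (Nat.card (centralizer ({g} : Set G)) : ℤ) := by
  classical
  have h1 := sum_norm_sq_le (NE ∪ X) g
  rw [Finset.sum_union h.rel.disj, hχ.sumR] at h1
  have h2 : ∑ ψ ∈ X, ‖(ψ : G → ℂ) g‖ ^ 2 = 2 * ‖(Θ : G → ℂ) g‖ ^ 2 := by
    rw [Finset.sum_congr rfl fun ψ hψ => by rw [h.rel.eq_of_mem hψ h.mem_X hg], Finset.sum_const,
      h.cardX]
    simp
  have h3 : ∀ i, ‖(χ i : G → ℂ) g‖ ^ 2 = ((w i ^ 2 : ℤ) : ℝ) := by
    intro i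
    rw [hw i]
    have h4 : (ε (χ i) : ℂ) * (w i : ℂ) = ((ε (χ i) * w i : ℤ) : ℂ) := by push_cast; rfl
    rw [h4, Complex.norm_intCast, sq_abs]
    have := eps_sq (h.sign _ (hχ.mem i))
    have h5 : (ε (χ i) * w i) ^ 2 = w i ^ 2 := by
      linear_combination (w i ^ 2) * this
    exact_mod_cast h5
  have h4 : ‖(Θ : G → ℂ) g‖ ^ 2 = (((1 + ∑ i, w i) ^ 2 : ℤ) : ℝ) := by
    rw [theta_apply h hχ hg hw, Complex.norm_intCast, sq_abs]
    have := eps_sq h.rel.hd
    have h5 : (d * (1 + ∑ i, w i)) ^ 2 = (1 + ∑ i, w i) ^ 2 := by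
      linear_combination ((1 + ∑ i, w i) ^ 2) * this
    exact_mod_cast h5
  rw [h2, h4, h.one_eq, Finset.sum_congr rfl fun i _ => h3 i] at h1
  have h5 : ((1 + ∑ i, w i ^ 2 + 2 * (1 + ∑ i, w i) ^ 2 : ℤ) : ℝ) ≤
      ((Nat.card (centralizer ({g} : Set G)) : ℤ) : ℝ) := by
    push_cast at h1 ⊢
    simpa using h1
  exact_mod_cast h5

theorem one_regular : ¬ 11 ∣ orderOf (1 : G) := by rw [orderOf_one]; norm_num

theorem deg_eq (h : Data x NE X ε d one Θ) (hχ : Enum NE one χ) (i : Fin 4) :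
    (χ i : G → ℂ) 1 = ε (χ i) * ((ε (χ i) * charDegree (χ i : G → ℂ) : ℤ) : ℂ) := by
  rw [Cfsg.Agent.Blocks.Basic.irr_one_eq_charDegree (χ i).2]
  have := eps_sq (h.sign _ (hχ.mem i))
  have h3 : (ε (χ i) : ℂ) * ε (χ i) = 1 := by exact_mod_cast this
  push_cast
  rw [← mul_assoc, h3, one_mul]

theorem ne_one (h : Data x NE X ε d one Θ) (hχ : Enum NE one χ) (i : Fin 4) :
    (χ i : G → ℂ) ≠ 1 := fun h1 => hχ.ne i (Subtype.ext (h1.trans h.one_eq.symm))

theorem theta_ne_one (h : Data x NE X ε d one Θ) : (Θ : G → ℂ) ≠ 1 := by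
  intro h1
  have h2 : Θ = one := Subtype.ext (h1.trans h.one_eq.symm)
  exact Finset.disjoint_left.1 h.rel.disj h.one_mem (h2 ▸ h.mem_X)

theorem theta_degree (h : Data x NE X ε d one Θ) (hχ : Enum NE one χ) :
    (charDegree (Θ : G → ℂ) : ℤ) = d * (1 + ∑ i, ε (χ i) * charDegree (χ i : G → ℂ)) := by
  have h1 := theta_apply h hχ one_regular (deg_eq h hχ)
  rw [Cfsg.Agent.Blocks.Basic.irr_one_eq_charDegree Θ.2] at h1
  exact_mod_cast h1

/-- The column of an involution `t` in signed values `w i = ε χ(t)`; `D i` are the signed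
degrees. -/
structure Column (t : G) (ε : IrrCharacter G → ℤ) (χ : Fin 4 → IrrCharacter G) (D w : Fin 4 → ℤ) :
    Prop where
  val : ∀ i, (χ i : G → ℂ) t = ε (χ i) * w i
  lt : ∀ i, |w i| < |D i|
  four : ∀ i, (4 : ℤ) ∣ D i - w i
  dvd : ∀ i, D i ∣ ((centralizer ({t} : Set G)).index : ℤ) * w i
  ltT : |1 + ∑ i, w i| < |1 + ∑ i, D i|
  fourT : (4 : ℤ) ∣ (1 + ∑ i, D i) - (1 + ∑ i, w i)
  dvdT : (1 + ∑ i, D i) ∣ ((centralizer ({t} : Set G)).index : ℤ) * (1 + ∑ i, w i)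
  norm : 1 + ∑ i, w i ^ 2 + 2 * (1 + ∑ i, w i) ^ 2 ≤ (Nat.card (centralizer ({t} : Set G)) : ℤ)
  two : (1 : ℚ) + ∑ i, (w i : ℚ) ^ 2 / D i = (1 + ∑ i, (w i : ℚ)) ^ 2 / (1 + ∑ i, (D i : ℚ))

theorem exists_column [IsSimpleGroup G] (hG : commutator G = ⊤) (h : Data x NE X ε d one Θ)
    (hχ : Enum NE one χ) {t : G} (ht : t ^ 2 = 1) (ht1 : t ≠ 1)
    (hx : ∀ u v : G, IsConj t u → IsConj t v → u * v ≠ x) {D : Fin 4 → ℤ}
    (hD : ∀ i, D i = ε (χ i) * charDegree (χ i : G → ℂ)) :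
    ∃ w : Fin 4 → ℤ, Column t ε χ D w := by
  have hreg : ¬ 11 ∣ orderOf t := by
    intro h11
    have h1 := h11.trans (orderOf_dvd_of_pow_eq_one ht)
    norm_num at h1
  have hz : ∀ i, ∃ z : ℤ, (χ i : G → ℂ) t = z ∧ |z| < charDegree (χ i : G → ℂ) ∧
      (4 : ℤ) ∣ charDegree (χ i : G → ℂ) - z := fun i =>
    exists_int hG (χ i).2 (ne_one h hχ i) ht ht1
  choose z hz1 hz2 hz3 using hz
  have hs : ∀ i, ε (χ i) * ε (χ i) = 1 := fun i => eps_sq (h.sign _ (hχ.mem i))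
  have hsabs : ∀ i, |ε (χ i)| = 1 := fun i => by
    rcases h.sign _ (hχ.mem i) with h1 | h1 <;> rw [h1] <;> rfl
  have hdabs : |d| = 1 := by
    rcases h.rel.hd with h1 | h1 <;> rw [h1] <;> rfl
  have hds := eps_sq h.rel.hd
  set w : Fin 4 → ℤ := fun i => ε (χ i) * z i with hwdef
  have hzw : ∀ i, z i = ε (χ i) * w i := fun i => by
    simp only [hwdef]; rw [← mul_assoc, hs, one_mul]
  have hval : ∀ i, (χ i : G → ℂ) t = ε (χ i) * w i := fun i => by
    rw [hz1, hzw i]; push_cast; rfl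
  have hsumD : ∑ i, D i = ∑ i, ε (χ i) * (charDegree (χ i : G → ℂ) : ℤ) :=
    Finset.sum_congr rfl fun i _ => hD i
  have hT := theta_degree h hχ
  rw [← hsumD] at hT
  have hT0 := theta_apply h hχ hreg hval
  obtain ⟨z', hz'1, hz'2, hz'3⟩ := exists_int hG Θ.2 (theta_ne_one h) ht ht1
  have hz' : z' = d * (1 + ∑ i, w i) := by
    rw [hz'1] at hT0; exact_mod_cast hT0
  refine ⟨w, hval, ?_, ?_, ?_, ?_, ?_, ?_, norm_le h hχ hreg hval, ?_⟩
  · intro i
    have h1 : |w i| = |z i| := by simp only [hwdef]; rw [abs_mul, hsabs, one_mul]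
    have h2 : |D i| = (charDegree (χ i : G → ℂ) : ℤ) := by
      rw [hD i, abs_mul, hsabs, one_mul]
      exact abs_of_nonneg (Int.natCast_nonneg _)
    rw [h1, h2]
    exact hz2 i
  · intro i
    rw [hD i]
    simp only [hwdef]
    rw [← mul_sub]
    exact (hz3 i).mul_left _
  · intro i
    have h1 := dvd_index_mul (χ i).2 (hz1 i)
    rw [hD i]
    simp only [hwdef]
    have h2 : ((centralizer ({t} : Set G)).index : ℤ) * (ε (χ i) * z i) =
      ε (χ i) * (((centralizer ({t} : Set G)).index : ℤ) * z i) := by ring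
    rw [h2]
    exact mul_dvd_mul_left _ h1
  · rw [hz', hT, abs_mul, hdabs, one_mul] at hz'2
    exact hz'2.trans_le (by
      have := le_abs_self (d * (1 + ∑ i, D i))
      rwa [abs_mul, hdabs, one_mul] at this)
  · have h1 : (1 + ∑ i, D i) - (1 + ∑ i, w i) = d * (charDegree (Θ : G → ℂ) - z') := by
      rw [hz', hT]
      linear_combination (-((1 + ∑ i, D i) - (1 + ∑ i, w i))) * hds
    rw [h1]
    exact hz'3.mul_left _
  · have h1 := dvd_index_mul Θ.2 hz'1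
    rw [hT, hz'] at h1
    have h2 : ((centralizer ({t} : Set G)).index : ℤ) * (d * (1 + ∑ i, w i)) =
      d * (((centralizer ({t} : Set G)).index : ℤ) * (1 + ∑ i, w i)) := by ring
    rw [h2] at h1
    have hd0 : d ≠ 0 := by
      rcases h.rel.hd with h1 | h1 <;> rw [h1] <;> norm_num
    exact Int.dvd_of_mul_dvd_mul_left hd0 h1
  · have h1 := h.rel.relTwo h.mem_X hreg hreg hx
    rw [hχ.sum, h.one_eq, h.sign_one] at h1
    have h2 : ∀ i, (ε (χ i) : ℂ) * ((χ i : G → ℂ) t * (χ i : G → ℂ) t / (χ i : G → ℂ) 1) =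
        (w i : ℂ) ^ 2 / (D i : ℂ) := by
      intro i
      have hdeg := deg_eq h hχ i
      rw [← hD i] at hdeg
      have hne : (χ i : G → ℂ) 1 ≠ 0 := Cfsg.Agent.Blocks.Basic.irr_one_ne_zero (χ i).2
      rw [hdeg] at hne
      have hε : (ε (χ i) : ℂ) ≠ 0 := left_ne_zero_of_mul hne
      have hDi : (D i : ℂ) ≠ 0 := right_ne_zero_of_mul hne
      have hs' : (ε (χ i) : ℂ) * ε (χ i) = 1 := by exact_mod_cast hs i
      rw [hval i, hdeg]
      field_simp
      linear_combination (w i : ℂ) ^ 2 * hs'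
    have h3 : (Θ : G → ℂ) 1 = ((d * (1 + ∑ i, D i) : ℤ) : ℂ) := by
      rw [Cfsg.Agent.Blocks.Basic.irr_one_eq_charDegree Θ.2, ← hT]; simp
    have hne : (Θ : G → ℂ) 1 ≠ 0 := Cfsg.Agent.Blocks.Basic.irr_one_ne_zero Θ.2
    rw [h3] at hne
    have hne' : ((1 + ∑ i, D i : ℤ) : ℂ) ≠ 0 := by
      intro h0
      apply hne
      rw [Int.cast_mul, h0, mul_zero]
    rw [hT0, h3, Finset.sum_congr rfl fun i _ => h2 i] at h1
    have hd' : (d : ℂ) * d = 1 := dd h
    have hd0 : (d : ℂ) ≠ 0 := left_ne_zero_of_mul (by rw [hd']; exact one_ne_zero)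
    have h4 : (d : ℂ) * (((d * (1 + ∑ i, w i) : ℤ) : ℂ) * ((d * (1 + ∑ i, w i) : ℤ) : ℂ) /
        ((d * (1 + ∑ i, D i) : ℤ) : ℂ)) =
        ((1 + ∑ i, w i : ℤ) : ℂ) ^ 2 / ((1 + ∑ i, D i : ℤ) : ℂ) := by
      rw [Int.cast_mul, Int.cast_mul]
      field_simp
      linear_combination ((1 + ∑ i, w i : ℤ) : ℂ) ^ 2 * hd'
    rw [h4] at h1
    have h5 : (((1 : ℚ) + ∑ i, (w i : ℚ) ^ 2 / D i : ℚ) : ℂ) =
        (((1 + ∑ i, (w i : ℚ)) ^ 2 / (1 + ∑ i, (D i : ℚ)) : ℚ) : ℂ) := by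
      push_cast at h1 ⊢
      rw [← h1]
      simp
    exact_mod_cast h5

theorem Column.comp {t : G} {D w : Fin 4 → ℤ} (h : Column t ε χ D w) (σ : Equiv.Perm (Fin 4)) :
    Column t ε (χ ∘ σ) (D ∘ σ) (w ∘ σ) := by
  have e1 : ∑ i, (w ∘ σ) i = ∑ i, w i := Equiv.sum_comp σ w
  have e2 : ∑ i, (D ∘ σ) i = ∑ i, D i := Equiv.sum_comp σ D
  have e3 : ∑ i, (w ∘ σ) i ^ 2 = ∑ i, w i ^ 2 := Equiv.sum_comp σ fun i => w i ^ 2
  have e4 : ∑ i, (((w ∘ σ) i : ℤ) : ℚ) ^ 2 / (((D ∘ σ) i : ℤ) : ℚ) =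
      ∑ i, (w i : ℚ) ^ 2 / (D i : ℚ) := Equiv.sum_comp σ fun i => (w i : ℚ) ^ 2 / (D i : ℚ)
  have e5 : ∑ i, (((w ∘ σ) i : ℤ) : ℚ) = ∑ i, (w i : ℚ) := Equiv.sum_comp σ fun i => (w i : ℚ)
  have e6 : ∑ i, (((D ∘ σ) i : ℤ) : ℚ) = ∑ i, (D i : ℚ) := Equiv.sum_comp σ fun i => (D i : ℚ)
  refine ⟨fun i => h.val _, fun i => h.lt _, fun i => h.four _, fun i => h.dvd _, ?_, ?_, ?_, ?_, ?_⟩
  · rw [e1, e2]; exact h.ltT
  · rw [e1, e2]; exact h.fourT
  · rw [e1, e2]; exact h.dvdT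
  · rw [e1, e3]; exact h.norm
  · rw [e4, e5, e6]; exact h.two

theorem card_centralizer_one : Nat.card (centralizer ({(1 : G)} : Set G)) = Nat.card G := by
  have : centralizer ({(1 : G)} : Set G) = ⊤ := by
    rw [eq_top_iff]
    intro g _
    rw [mem_centralizer_singleton_iff]
    simp
  rw [this, Subgroup.card_top]

theorem sq_le (hc : Nat.card G = 95040) (h : Data x NE X ε d one Θ)
    (hχ : Enum NE one χ) {D : Fin 4 → ℤ} (hD : ∀ i, D i = ε (χ i) * charDegree (χ i : G → ℂ)) :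
    1 + ∑ i, D i ^ 2 + 2 * (1 + ∑ i, D i) ^ 2 ≤ 95040 := by
  have h1 := norm_le h hχ (g := 1) one_regular (w := D) (fun i => by rw [hD i]; exact deg_eq h hχ i)
  rw [card_centralizer_one, hc] at h1
  exact_mod_cast h1

theorem D_mem (hc : Nat.card G = 95040) [IsSimpleGroup G] (hG : commutator G = ⊤)
    (h : Data x NE X ε d one Θ)
    (hχ : Enum NE one χ) {D : Fin 4 → ℤ} (hD : ∀ i, D i = ε (χ i) * charDegree (χ i : G → ℂ))
    (i : Fin 4) : D i ∈ Arith.L := by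
  have hsabs : (ε (χ i)).natAbs = 1 := by
    rcases h.sign _ (hχ.mem i) with h1 | h1 <;> rw [h1] <;> rfl
  have h1 : (D i).natAbs = charDegree (χ i : G → ℂ) := by
    rw [hD i, Int.natAbs_mul, hsabs, one_mul, Int.natAbs_natCast]
  refine mem_L ?_ ?_ ?_ ?_
  · rw [h1, ← hc]; exact charDegree_dvd (χ i).2
  · rw [h1]; exact one_lt_charDegree hG (χ i).2 (ne_one h hχ i)
  · rw [hD i]; exact h.degNE _ (hχ.mem i)
  · have h2 := sq_le hc h hχ hD
    have h3 : D i ^ 2 ≤ ∑ j, D j ^ 2 :=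
      Finset.single_le_sum (fun j _ => sq_nonneg (D j)) (Finset.mem_univ i)
    nlinarith [sq_nonneg (1 + ∑ i, D i)]

theorem T_dvd (hc : Nat.card G = 95040) (h : Data x NE X ε d one Θ)
    (hχ : Enum NE one χ) {D : Fin 4 → ℤ} (hD : ∀ i, D i = ε (χ i) * charDegree (χ i : G → ℂ)) :
    (1 + ∑ i, D i) ∣ 8640 := by
  have hsumD : ∑ i, D i = ∑ i, ε (χ i) * (charDegree (χ i : G → ℂ) : ℤ) :=
    Finset.sum_congr rfl fun i _ => hD i
  have hT := theta_degree h hχ
  rw [← hsumD] at hT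
  have h1 : (charDegree (Θ : G → ℂ) : ℤ) ∣ 95040 := by
    have := charDegree_dvd Θ.2
    rw [hc] at this
    exact_mod_cast this
  rw [hT] at h1
  have h2 : (1 + ∑ i, D i) ∣ 11 * 8640 := by
    have : (11 * 8640 : ℤ) = 95040 := by norm_num
    rw [this]
    exact (Dvd.intro_left _ rfl).trans h1
  have h3 : (11 : ℤ) ∣ ∑ i, D i - 4 := by
    have h4 : ∑ i, D i - 4 = ∑ i, (D i - 1) := by
      rw [Finset.sum_sub_distrib]; simp
    rw [h4]
    exact Finset.dvd_sum fun i _ => by rw [hD i]; exact h.degNE _ (hχ.mem i)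
  have h5 : IsCoprime (1 + ∑ i, D i) 11 := by
    rw [Int.isCoprime_iff_gcd_eq_one, Int.gcd_comm]
    have h6 : ¬ (11 : ℤ) ∣ (1 + ∑ i, D i) := by omega
    have h7 : Nat.Coprime 11 (1 + ∑ i, D i).natAbs := by
      rw [Nat.Prime.coprime_iff_not_dvd (by norm_num)]
      intro h8
      exact h6 (Int.natCast_dvd.2 h8)
    exact h7
  exact h5.dvd_of_dvd_mul_left h2

/-- Exact division. -/
theorem ediv_eq {a b : ℤ} (h : b ∣ a) (hb : b ≠ 0) (w : ℤ) :
    (((a / b) * w ^ 2 : ℤ) : ℚ) = a * ((w : ℚ) ^ 2 / b) := by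
  obtain ⟨c, rfl⟩ := h
  rw [Int.mul_ediv_cancel_left _ hb]
  have : (b : ℚ) ≠ 0 := by exact_mod_cast hb
  push_cast
  field_simp

theorem L_dvd : ∀ D ∈ Arith.L, D ∣ 8640 ∧ D ≠ 0 := by decide

/-- **The principal 11-block and the column of a 2-central involution.** -/
theorem exists_row [IsSimpleGroup G] (hG : commutator G = ⊤) (hc : Nat.card G = 95040)
    (h11 : ∀ P : Sylow 11 G, centralizer (P : Set G) = (P : Subgroup G))
    (h : Data x NE X ε d one Θ) (hx : ∀ u v : G, u ^ 2 = 1 → v ^ 2 = 1 → u * v ≠ x)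
    {t : G} (ht : orderOf t = 2) (h64 : 64 ∣ Nat.card (centralizer ({t} : Set G))) :
    ∃ (χ : Fin 4 → IrrCharacter G) (D w : Fin 4 → ℤ) (k : ℕ),
      Enum NE one χ ∧ (∀ i, D i = ε (χ i) * charDegree (χ i : G → ℂ)) ∧ Column t ε χ D w ∧
      Nat.card (centralizer ({t} : Set G)) = 64 * k ∧ k ∈ Arith.ks ∧
      (k, (D 0, w 0), (D 1, w 1), (D 2, w 2), (D 3, w 3)) ∈ Arith.rows := by
  have ht2 : t ^ 2 = 1 := by rw [← ht]; exact pow_orderOf_eq_one t
  have ht1 : t ≠ 1 := by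
    rintro rfl
    rw [orderOf_one] at ht
    norm_num at ht
  have hconj : ∀ u : G, IsConj t u → u ^ 2 = 1 := by
    intro u hu
    obtain ⟨c, rfl⟩ := isConj_iff.1 hu
    rw [conj_pow, ht2, mul_one, mul_inv_cancel]
  -- the order of the centralizer
  obtain ⟨k, hk⟩ := h64
  have hdvd : 64 * k ∣ 95040 := by
    rw [← hk, ← hc]; exact card_subgroup_dvd_card _
  have hk1 : k ∣ 11 * 135 := by
    have : (95040 : ℕ) = 64 * (11 * 135) := by norm_num
    rw [this] at hdvd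
    exact Nat.dvd_of_mul_dvd_mul_left (by norm_num) hdvd
  have hk11 : ¬ 11 ∣ k := by
    intro hk'
    have : Fact (Nat.Prime 11) := ⟨by norm_num⟩
    have h1 : 11 ∣ Nat.card (centralizer ({t} : Set G)) := by rw [hk]; exact hk'.mul_left _
    obtain ⟨y, hy⟩ := exists_prime_orderOf_dvd_card' 11 h1
    have h2 := mem_centralizer_singleton_iff.1 y.2
    have h3 := SylowFive.orderOf_dvd_of_commute hc h11 (x := (y : G)) (y := t)
      (by rw [orderOf_coe]; exact hy) h2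
    rw [ht] at h3
    norm_num at h3
  have hk135 : k ∣ 135 :=
    (Nat.Coprime.dvd_mul_left (((Nat.Prime.coprime_iff_not_dvd (by norm_num)).2 hk11).symm)).1 hk1
  have hks : k ∈ Arith.ks := by
    have h1 : k ∈ Nat.divisors 135 := Nat.mem_divisors.2 ⟨hk135, by norm_num⟩
    have h2 : ∀ k ∈ Nat.divisors 135, k ∈ Arith.ks := by decide +kernel
    exact h2 k h1
  have hkpos : 0 < k := Nat.pos_of_ne_zero (by rintro rfl; simp at hk135)
  have hidx : (centralizer ({t} : Set G)).index = 1485 / k := by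
    have h1 := (centralizer ({t} : Set G)).card_mul_index
    rw [hk, hc] at h1
    obtain ⟨m, hm⟩ := hk135
    have h2 : 64 * k * (centralizer ({t} : Set G)).index = 64 * k * (11 * m) := by
      rw [h1]
      have : 64 * k * (11 * m) = 64 * 11 * (k * m) := by ring
      rw [this, ← hm]
    have h3 := Nat.eq_of_mul_eq_mul_left (by positivity) h2
    rw [h3]
    have h4 : 1485 = k * (11 * m) := by
      have : k * (11 * m) = 11 * (k * m) := by ring
      rw [this, ← hm]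
    rw [h4, Nat.mul_div_cancel_left _ hkpos]
  -- enumeration and sorting
  obtain ⟨χ', hχ'⟩ := h.exists_enum
  let D' : Fin 4 → ℤ := fun i => ε (χ' i) * charDegree (χ' i : G → ℂ)
  obtain ⟨w', hw'⟩ := exists_column hG h hχ' ht2 ht1
    (fun u v hu hv => hx u v (hconj u hu) (hconj v hv)) (D := D') (fun i => rfl)
  let f : Fin 4 → ℤ ×ₗ ℤ := fun i => toLex (D' i, w' i)
  let σ := Tuple.sort f
  have hmono : Monotone (f ∘ σ) := Tuple.monotone_sort f
  have hχ := hχ'.comp σ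
  have hw := hw'.comp σ
  have hD : ∀ i, (D' ∘ σ) i = ε ((χ' ∘ σ) i) * charDegree ((χ' ∘ σ) i : G → ℂ) := fun i => rfl
  have hle : ∀ i j : Fin 4, i ≤ j → (D' ∘ σ) i ≤ (D' ∘ σ) j ∧
      ((D' ∘ σ) i = (D' ∘ σ) j → (w' ∘ σ) i ≤ (w' ∘ σ) j) := by
    intro i j hij
    have h1 := hmono hij
    have h2 := Prod.Lex.le_iff.1 h1
    rcases h2 with h2 | h2
    · have h3 : (D' ∘ σ) i < (D' ∘ σ) j := h2
      exact ⟨h3.le, fun h4 => absurd h4 h3.ne⟩
    · have h3 : (D' ∘ σ) i = (D' ∘ σ) j := h2.1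
      exact ⟨h3.le, fun _ => h2.2⟩
  refine ⟨χ' ∘ σ, D' ∘ σ, w' ∘ σ, k, hχ, hD, hw, hk, hks, ?_⟩
  generalize D' ∘ σ = D at *
  generalize w' ∘ σ = w at *
  generalize χ' ∘ σ = χ at *
  have hDL := D_mem hc hG h hχ hD
  have hT := T_dvd hc h hχ hD
  have hsq := sq_le hc h hχ hD
  have hnorm := hw.norm
  rw [hk] at hnorm
  have hval : ∀ i, Arith.Val k (D i) (w i) := by
    intro i
    refine ⟨hw.lt i, hw.four i, ?_, ?_⟩
    · have h1 := hw.dvd i
      rwa [hidx] at h1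
    · have h3 : w i ^ 2 ≤ ∑ j, w j ^ 2 :=
        Finset.single_le_sum (fun j _ => sq_nonneg (w j)) (Finset.mem_univ i)
      push_cast at hnorm
      nlinarith [sq_nonneg (1 + ∑ i, w i)]
  have hltT := hw.ltT
  have hfourT := hw.fourT
  have hdvdT := hw.dvdT
  rw [hidx] at hdvdT
  have htwo := hw.two
  have hT0 : (1 + ∑ i, D i) ≠ 0 := by
    intro h0
    rw [h0, abs_zero] at hltT
    exact absurd (abs_nonneg (1 + ∑ i, w i)) (not_le.2 hltT)
  have htwo' : (8640 : ℤ) + ∑ i, (8640 / D i) * w i ^ 2 =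
      (8640 / (1 + ∑ i, D i)) * (1 + ∑ i, w i) ^ 2 := by
    have h1 : (((8640 : ℤ) + ∑ i, (8640 / D i) * w i ^ 2 : ℤ) : ℚ) =
        (((8640 / (1 + ∑ i, D i)) * (1 + ∑ i, w i) ^ 2 : ℤ) : ℚ) := by
      rw [ediv_eq hT hT0, Int.cast_add, Int.cast_sum]
      rw [Finset.sum_congr rfl fun i _ => ediv_eq (L_dvd _ (hDL i)).1 (L_dvd _ (hDL i)).2 (w i)]
      rw [← Finset.mul_sum]
      push_cast
      rw [← htwo]
      ring
    exact_mod_cast h1
  simp only [Fin.sum_univ_four, ← add_assoc] at hT hsq hnorm hltT hfourT hdvdT htwo'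
  refine Arith.mem_rows hks (hDL 0) (hDL 1) (hDL 2) (hDL 3) (hle 0 1 (by decide)).1
    (hle 1 2 (by decide)).1 (hle 2 3 (by decide)).1 (hle 0 1 (by decide)).2
    (hle 1 2 (by decide)).2 (hle 2 3 (by decide)).2 hT hsq (hval 0) (hval 1) (hval 2) (hval 3) ?_
  exact ⟨by exact_mod_cast hnorm, htwo', hltT, hfourT, hdvdT⟩

end Column

/-- A 2-central involution. -/
theorem exists_involution [Finite G] (hc : Nat.card G = 95040) :
    ∃ t : G, orderOf t = 2 ∧ 64 ∣ Nat.card (centralizer ({t} : Set G)) := by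
  have : Fact (Nat.Prime 2) := ⟨Nat.prime_two⟩
  obtain ⟨T⟩ : Nonempty (Sylow 2 G) := inferInstance
  have hT : Nat.card (T : Subgroup G) = 64 := by
    rw [T.card_eq_multiplicity, hc]
    have : (95040 : ℕ).factorization 2 = 6 := by
      rw [show (95040 : ℕ) = 2 ^ 6 * 1485 by norm_num,
        Nat.factorization_mul (by norm_num) (by norm_num),
        Nat.Prime.factorization_pow Nat.prime_two]
      simp [Nat.factorization_eq_zero_of_not_dvd (show ¬ 2 ∣ 1485 by norm_num)]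
    rw [this]; norm_num
  have hnt : Nontrivial (T : Subgroup G) := by
    rw [← Finite.one_lt_card_iff_nontrivial, hT]; norm_num
  have hcn : Nontrivial (Subgroup.center (T : Subgroup G)) := T.isPGroup'.center_nontrivial
  have h2 : 2 ∣ Nat.card (Subgroup.center (T : Subgroup G)) := by
    have h3 : IsPGroup 2 (Subgroup.center (T : Subgroup G)) := T.isPGroup'.to_subgroup _
    obtain ⟨n, hn⟩ := IsPGroup.iff_card.1 h3
    have h4 := Finite.one_lt_card_iff_nontrivial.2 hcn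
    rw [hn] at h4 ⊢
    exact dvd_pow_self 2 (by rintro rfl; simp at h4)
  obtain ⟨y, hy⟩ := exists_prime_orderOf_dvd_card' 2 h2
  refine ⟨((y : (T : Subgroup G)) : G), ?_, ?_⟩
  · rw [orderOf_coe, orderOf_coe]; exact hy
  · rw [← hT]
    apply card_dvd_of_le
    intro g hg
    rw [mem_centralizer_singleton_iff]
    have h5 := Subgroup.mem_center_iff.1 y.2 ⟨g, hg⟩
    exact congrArg Subtype.val h5

/-- **Summary** (STEPS 2 and 3 of the blueprint). -/
theorem main [Finite G] [IsSimpleGroup G] (hc : Nat.card G = 95040)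
    (h11 : ∀ P : Sylow 11 G, centralizer (P : Set G) = (P : Subgroup G)) (P : Sylow 11 G)
    (hN : Nat.card (normalizer (P : Set G)) = 55) {x : G} (hxP : x ∈ P) (hx1 : x ≠ 1) :
    ∃ (NE X : Finset (IrrCharacter G)) (ε : IrrCharacter G → ℤ) (d : ℤ)
      (one Θ : IrrCharacter G) (t : G) (χ : Fin 4 → IrrCharacter G) (D w : Fin 4 → ℤ) (k : ℕ),
      Data x NE X ε d one Θ ∧ orderOf t = 2 ∧
      (∀ u v : G, u ^ 2 = 1 → v ^ 2 = 1 → u * v ≠ x) ∧
      Enum NE one χ ∧ (∀ i, D i = ε (χ i) * charDegree (χ i : G → ℂ)) ∧ Column t ε χ D w ∧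
      Nat.card (centralizer ({t} : Set G)) = 64 * k ∧ k ∈ Arith.ks ∧
      (k, (D 0, w 0), (D 1, w 1), (D 2, w 2), (D 3, w 3)) ∈ Arith.rows := by
  have : Fact (Nat.Prime 11) := ⟨by norm_num⟩
  have hG : commutator G = ⊤ := by
    rcases (inferInstance : (commutator G).Normal).eq_bot_or_eq_top with h | h
    · exfalso
      have hab : ∀ a b : G, a * b = b * a := by
        intro a b
        have h0 : commutator G = ⊥ := h
        rw [commutator_def, Subgroup.commutator_eq_bot_iff_le_centralizer] at h0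
        exact (mem_centralizer_iff.1 (h0 (mem_top b)) a (mem_top a))
      have hC := h11 P
      have h2 : centralizer (P : Set G) = ⊤ := by
        rw [eq_top_iff]
        intro g _
        rw [mem_centralizer_iff]
        intro y _
        exact hab y g
      have h3 : (normalizer (P : Set G)) = ⊤ := by
        rw [eq_top_iff, ← h2]
        exact Cfsg.Agent.SmallSimple.SylowPrimeCount.centralizer_le_normalizer' _
      rw [h3, Subgroup.card_top, hc] at hN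
      norm_num at hN
    · exact h
  have hP : Nat.card P = 11 :=
    Cfsg.Agent.SmallSimple.PrimeLocal.card_of_not_sq_dvd (by rw [hc]; norm_num)
      (by rw [hc]; norm_num) P
  have he : (centralizer (P : Set G)).relIndex (normalizer (P : Set G)) = 5 := by
    have h1 := Subgroup.relIndex_mul_relIndex (⊥ : Subgroup G) (centralizer (P : Set G))
      (normalizer (P : Set G)) bot_le
      (Cfsg.Agent.SmallSimple.SylowPrimeCount.centralizer_le_normalizer' _)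
    rw [Subgroup.relIndex_bot_left, Subgroup.relIndex_bot_left, hN, h11 P] at h1
    have hP' : Nat.card (P : Subgroup G) = 11 := hP
    rw [hP'] at h1
    rw [h11 P]
    omega
  have hx : ∀ u v : G, u ^ 2 = 1 → v ^ 2 = 1 → u * v ≠ x := fun u v hu hv =>
    ne_mul_of_odd he (by decide) (zpowers_eq_of_card_prime (by norm_num) hP)
      (by rw [show Nat.card (P : Subgroup G) = 11 from hP]; decide) hxP hx1 hu hv
  obtain ⟨NE, X, ε, d, one, Θ, hD⟩ := exists_data P hP (h11 P) he hxP hx1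
  obtain ⟨t, ht, h64⟩ := exists_involution hc
  obtain ⟨χ, D, w, k, h1, h2, h3, h4, h5, h6⟩ := exists_row hG hc h11 hD hx ht h64
  exact ⟨NE, X, ε, d, one, Θ, t, χ, D, w, k, hD, ht, hx, h1, h2, h3, h4, h5, h6⟩

end Cfsg.Agent.MTwelve.ElevenBlock
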