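import Mathlib
import Cfsg.Agent.MTwelve.ElevenBlock
import Cfsg.Agent.MTwelve.BlockData
import Cfsg.Agent.MTwelve.ArithSix

/-!
# The principal 11-block of a simple group of order 95040, final form

* `exists_pblock`: `PBlock G 11 5 2 P`;
* `main`: degrees and the column of a 2-central involution;
* `columns`: all involution columns for the degrees `45, 54, 120, 144, 16`.
-/

set_option autoImplicit false
set_option linter.unusedSectionVars false

namespace Cfsg.Agent.MTwelve.ElevenMain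

open Cfsg Subgroup Cfsg.Agent.Characters.Core
open scoped ComplexConjugate
open Cfsg.Agent.SmallSimple.InvolColumn
open Cfsg.Agent.MTwelve Cfsg.Agent.MTwelve.BlockData Cfsg.Agent.MTwelve.ElevenBlock

universe u
variable {G : Type u} [Group G]

/-- Brauer's theorem for a self-centralising Sylow `p`-subgroup of order `p`. -/
theorem exists_pblock [Finite G] (p : ℕ) [Fact p.Prime] (hp2 : p ≠ 2) (P : Sylow p G)
    (hP : Nat.card P = p) (hC : centralizer (P : Set G) = (P : Subgroup G)) (e t : ℕ)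
    (ht0 : 0 < t)
    (he : (centralizer (P : Set G)).relIndex (normalizer (P : Set G)) = e) (ht : e * t = p - 1) :
    ∃ B : PBlock G p e t (P : Subgroup G), ∀ χ : IrrCharacter G, χ ∉ B.NE → χ ∉ B.X →
      (∀ x ∈ P, x ≠ 1 → (χ : G → ℂ) x = 0) ∧ p ∣ deg χ := by
  have hp : p.Prime := Fact.out
  obtain ⟨NE, X, ε, d, S, h1, h2, h3, h4, h5, ⟨one, h6, h6', h6''⟩, h7, h8, h9, h10, h11⟩ :=
    Cfsg.Agent.SmallSimple.TheoremBCor.theoremB_selfCent p hp2 P hP hC e t he ht
  have hX : X.Nonempty := by rw [← Finset.card_pos, h3]; exact ht0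
  obtain ⟨Θ, hΘ⟩ := hX
  have hone : one = triv G := Subtype.ext h6'
  subst hone
  have hone' : ¬ p ∣ orderOf (1 : G) := by
    rw [orderOf_one]; exact fun h => hp.one_lt.ne' (Nat.dvd_one.1 h)
  have hyone : ∀ y ∈ centralizer (P : Set G), ¬ p ∣ orderOf y → y = 1 := by
    intro y hy hyp
    rw [hC] at hy
    have h12 : orderOf y ∣ p := by
      have := orderOf_dvd_natCard (⟨y, hy⟩ : (P : Subgroup G))
      rw [show Nat.card (P : Subgroup G) = p from hP] at this
      simpa using this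
    rcases (Nat.dvd_prime hp).1 h12 with h | h
    · exact orderOf_eq_one_iff.1 h
    · exact absurd (dvd_of_eq h.symm) hyp
  have hrel : ∀ x ∈ P, x ≠ 1 → Rel x (fun g => ¬ p ∣ orderOf g) NE X ε d := fun x hx hx1 =>
    ⟨h1, fun χ hχ => h7 χ hχ x hx hx1, fun χ hχ hχ' => (h11 χ hχ hχ').1 x hx hx1, h5, h10,
      hone', hx1⟩
  refine ⟨⟨NE, X, ε, d, h1, h2, h3, h4, h5, h6, h6'', ?_, ?_, h10⟩, ?_⟩
  · intro χ hχ x hx hx1 y hy hyp
    rw [hyone y hy hyp, mul_one]
    exact h7 χ hχ x hx hx1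
  · intro x hx hx1 y hy hyp
    rw [hyone y hy hyp, mul_one]
    have h12 := (hrel x hx hx1).sum_exc hΘ
    rw [← map_sum] at h12
    have h13 := congrArg conj h12
    rw [Complex.conj_conj, map_neg, map_intCast] at h13
    exact h13
  · intro χ hχ hχ'
    refine ⟨(h11 χ hχ hχ').1, ?_⟩
    have h12 := (h11 χ hχ hχ').2
    have h13 : charDegree (χ : G → ℂ) = deg χ := by
      have h14 := Cfsg.Agent.Blocks.Basic.irr_one_eq_charDegree χ.2
      exact (deg_eq_of h14).symm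
    rwa [h13] at h12

theorem charDegree_eq_deg (χ : IrrCharacter G) : charDegree (χ : G → ℂ) = deg χ :=
  (deg_eq_of (Cfsg.Agent.Blocks.Basic.irr_one_eq_charDegree χ.2)).symm

/-- The bridge between the two forms. -/
theorem data_of_pblock [Finite G] {P : Subgroup G} (hP : Nat.card P = 11) (B : PBlock G 11 5 2 P)
    (hrest : ∀ χ : IrrCharacter G, χ ∉ B.NE → χ ∉ B.X →
      (∀ x ∈ P, x ≠ 1 → (χ : G → ℂ) x = 0) ∧ 11 ∣ deg χ) {x : G} (hx : x ∈ P) (hx1 : x ≠ 1) :
    ∃ Θ : IrrCharacter G, Data x B.NE B.X B.ε B.d (triv G) Θ := by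
  have hX : B.X.Nonempty := by rw [← Finset.card_pos, B.card_X]; norm_num
  obtain ⟨Θ, hΘ⟩ := hX
  have hone : ¬ 11 ∣ orderOf (1 : G) := by rw [orderOf_one]; norm_num
  refine ⟨Θ, ⟨⟨B.disjoint, ?_, fun χ hχ hχ' => (hrest χ hχ hχ').1 x hx hx1, B.d_eq, B.rel, hone,
    hx1⟩, B.card_NE, B.card_X, B.ε_eq, B.triv_mem, rfl, B.ε_triv, hΘ, ?_, ?_⟩⟩
  · intro χ hχ
    have := B.apply_NE χ hχ x hx hx1 1 (one_mem _) hone
    rwa [mul_one] at this
  · intro χ hχ
    have h1 := B.dvd_deg_sub hP (by norm_num) hχ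
    have h2 := eps_sq (B.ε_eq χ hχ)
    rw [charDegree_eq_deg]
    obtain ⟨c, hc⟩ := h1
    refine ⟨B.ε χ * c, ?_⟩
    push_cast at hc
    linear_combination B.ε χ * hc + h2
  · intro χ hχ hχ'
    rw [charDegree_eq_deg]
    exact (hrest χ hχ hχ').2

/-- **Summary** (STEPS 2 and 3 of the blueprint). -/
theorem main [Finite G] [IsSimpleGroup G] (hc : Nat.card G = 95040)
    (h11 : ∀ P : Sylow 11 G, centralizer (P : Set G) = (P : Subgroup G)) (P : Sylow 11 G)
    (hN : Nat.card (normalizer (P : Set G)) = 55) :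
    ∃ (B : PBlock G 11 5 2 (P : Subgroup G)) (t : G) (χ : Fin 4 → IrrCharacter G)
      (D w : Fin 4 → ℤ) (k : ℕ),
      (∀ χ : IrrCharacter G, χ ∉ B.NE → χ ∉ B.X →
        (∀ x ∈ P, x ≠ 1 → (χ : G → ℂ) x = 0) ∧ 11 ∣ deg χ) ∧
      (∀ x ∈ P, x ≠ 1 → ∀ u v : G, u ^ 2 = 1 → v ^ 2 = 1 → u * v ≠ x) ∧
      orderOf t = 2 ∧ Nat.card (centralizer ({t} : Set G)) = 64 * k ∧ k ∈ Arith.ks ∧
      Function.Injective χ ∧ (∀ i, χ i ≠ triv G) ∧
      (∀ ψ : IrrCharacter G, ψ ∈ B.NE ↔ ψ = triv G ∨ ∃ i, χ i = ψ) ∧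
      (∀ i, B.ε (χ i) * (deg (χ i) : ℤ) = D i) ∧ (∀ i, (χ i : G → ℂ) t = B.ε (χ i) * w i) ∧
      Column t B.ε χ D w ∧
      (k, (D 0, w 0), (D 1, w 1), (D 2, w 2), (D 3, w 3)) ∈ Arith.rows := by
  have : Fact (Nat.Prime 11) := ⟨by norm_num⟩
  have hG : commutator G = ⊤ := SmallDegree.commutator_eq_top_of_card (by rw [hc]; norm_num)
  have hP : Nat.card P = 11 :=
    Cfsg.Agent.SmallSimple.PrimeLocal.card_of_not_sq_dvd (by rw [hc]; norm_num)
      (by rw [hc]; norm_num) P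
  have hP' : Nat.card (P : Subgroup G) = 11 := hP
  have he : (centralizer (P : Set G)).relIndex (normalizer (P : Set G)) = 5 := by
    have h1 := Subgroup.relIndex_mul_relIndex (⊥ : Subgroup G) (centralizer (P : Set G))
      (normalizer (P : Set G)) bot_le
      (Cfsg.Agent.SmallSimple.SylowPrimeCount.centralizer_le_normalizer' _)
    rw [Subgroup.relIndex_bot_left, Subgroup.relIndex_bot_left, hN, h11 P] at h1
    rw [hP'] at h1
    rw [h11 P]
    omega
  obtain ⟨B, hB⟩ := exists_pblock 11 (by norm_num) P hP (h11 P) 5 2 (by norm_num) he (by norm_num)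
  have hx : ∀ x ∈ P, x ≠ 1 → ∀ u v : G, u ^ 2 = 1 → v ^ 2 = 1 → u * v ≠ x :=
    fun x hxP hx1 u v hu hv => ne_mul_of_odd he (by decide)
      (zpowers_eq_of_card_prime (by norm_num) hP') (by rw [hP']; decide) hxP hx1 hu hv
  have hnt : Nontrivial (P : Subgroup G) := by
    rw [← Finite.one_lt_card_iff_nontrivial, hP']; norm_num
  obtain ⟨x, hx1⟩ := exists_ne (1 : (P : Subgroup G))
  have hx1' : (x : G) ≠ 1 := fun h => hx1 (Subtype.ext h)
  obtain ⟨Θ, hD⟩ := data_of_pblock hP' B hB x.2 hx1'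
  obtain ⟨t, ht, h64⟩ := exists_involution hc
  obtain ⟨χ, D, w, k, h1, h2, h3, h4, h5, h6⟩ :=
    exists_row hG hc h11 hD (hx x x.2 hx1') ht h64
  refine ⟨B, t, χ, D, w, k, hB, hx, ht, h4, h5, h1.inj, h1.ne, ?_, ?_, h3.val, h3, h6⟩
  · intro ψ
    constructor
    · intro hψ
      rcases h1.cases ψ hψ with h7 | ⟨i, h7⟩
      · exact Or.inl h7
      · exact Or.inr ⟨i, h7.symm⟩
    · rintro (rfl | ⟨i, rfl⟩)
      · exact B.triv_mem
      · exact h1.mem i
  · intro i
    rw [h2 i, charDegree_eq_deg]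

theorem enum_of [Finite G] {P : Subgroup G} (B : PBlock G 11 5 2 P) {χ : Fin 4 → IrrCharacter G}
    (hinj : Function.Injective χ) (hne : ∀ i, χ i ≠ triv G)
    (hNE : ∀ ψ : IrrCharacter G, ψ ∈ B.NE ↔ ψ = triv G ∨ ∃ i, χ i = ψ) :
    Enum B.NE (triv G) χ := by
  classical
  have h1 : B.NE = insert (triv G) (Finset.univ.image χ) := by
    ext ψ
    rw [hNE]
    simp
  have h2 : triv G ∉ Finset.univ.image χ := by
    simp only [Finset.mem_image, not_exists, not_and]
    exact fun i _ => hne i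
  refine ⟨hinj, fun i => (hNE _).2 (Or.inr ⟨i, rfl⟩), hne, ?_, ?_, ?_⟩
  · intro ψ hψ
    rcases (hNE ψ).1 hψ with h | ⟨i, h⟩
    · exact Or.inl h
    · exact Or.inr ⟨i, h.symm⟩
  · intro f
    rw [h1, Finset.sum_insert h2, Finset.sum_image fun i _ j _ h => hinj h]
  · intro f
    rw [h1, Finset.sum_insert h2, Finset.sum_image fun i _ j _ h => hinj h]

/-- All involution columns for the degrees of `M₁₂`: the characters `χ 0, …, χ 3` have signed
degrees `-120, -54, 45, 144`. The list gives `|C(t)|` and the signed values `w i = ε χ(t)`. -/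
theorem columns [Finite G] [IsSimpleGroup G] (hc : Nat.card G = 95040)
    (h11 : ∀ P : Sylow 11 G, centralizer (P : Set G) = (P : Subgroup G)) {P : Sylow 11 G}
    (B : PBlock G 11 5 2 (P : Subgroup G))
    (hrest : ∀ χ : IrrCharacter G, χ ∉ B.NE → χ ∉ B.X →
      (∀ x ∈ P, x ≠ 1 → (χ : G → ℂ) x = 0) ∧ 11 ∣ deg χ)
    (hx : ∀ x ∈ P, x ≠ 1 → ∀ u v : G, u ^ 2 = 1 → v ^ 2 = 1 → u * v ≠ x)
    {χ : Fin 4 → IrrCharacter G} (hinj : Function.Injective χ) (hne : ∀ i, χ i ≠ triv G)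
    (hNE : ∀ ψ : IrrCharacter G, ψ ∈ B.NE ↔ ψ = triv G ∨ ∃ i, χ i = ψ)
    (h0 : B.ε (χ 0) * (deg (χ 0) : ℤ) = -120) (h1 : B.ε (χ 1) * (deg (χ 1) : ℤ) = -54)
    (h2 : B.ε (χ 2) * (deg (χ 2) : ℤ) = 45) (h3 : B.ε (χ 3) * (deg (χ 3) : ℤ) = 144)
    {t : G} (ht : orderOf t = 2) :
    ∃ w : Fin 4 → ℤ, (∀ i, (χ i : G → ℂ) t = B.ε (χ i) * w i) ∧
      (∀ Θ ∈ B.X, (Θ : G → ℂ) t = ((B.d * (1 + ∑ i, w i) : ℤ) : ℂ)) ∧
      (Nat.card (centralizer ({t} : Set G)), w 0, w 1, w 2, w 3) ∈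
        ([(120, 0, -6, 5, -4), (120, 0, -6, 5, 4), (192, 8, -6, -3, 0), (240, 0, -6, 5, -4),
          (240, 0, -6, 5, 4), (1440, 0, -18, -15, 24)] : List (ℕ × ℤ × ℤ × ℤ × ℤ)) := by
  have : Fact (Nat.Prime 11) := ⟨by norm_num⟩
  have hG : commutator G = ⊤ := SmallDegree.commutator_eq_top_of_card (by rw [hc]; norm_num)
  have hP : Nat.card P = 11 :=
    Cfsg.Agent.SmallSimple.PrimeLocal.card_of_not_sq_dvd (by rw [hc]; norm_num)
      (by rw [hc]; norm_num) P
  have hP' : Nat.card (P : Subgroup G) = 11 := hP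
  have hnt : Nontrivial (P : Subgroup G) := by
    rw [← Finite.one_lt_card_iff_nontrivial, hP']; norm_num
  obtain ⟨x, hx1⟩ := exists_ne (1 : (P : Subgroup G))
  have hx1' : (x : G) ≠ 1 := fun h => hx1 (Subtype.ext h)
  obtain ⟨Θ, hD⟩ := data_of_pblock hP' B hrest x.2 hx1'
  have hE := enum_of B hinj hne hNE
  have ht2 : t ^ 2 = 1 := by rw [← ht]; exact pow_orderOf_eq_one t
  have ht1 : t ≠ 1 := by
    rintro rfl
    rw [orderOf_one] at ht
    norm_num at ht
  have hconj : ∀ u : G, IsConj t u → u ^ 2 = 1 := by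
    intro u hu
    obtain ⟨c, rfl⟩ := isConj_iff.1 hu
    rw [conj_pow, ht2, mul_one, mul_inv_cancel]
  obtain ⟨w, hw⟩ := exists_column hG hD hE ht2 ht1
    (fun u v hu hv => hx x x.2 hx1' u v (hconj u hu) (hconj v hv))
    (D := ![-120, -54, 45, 144]) (by
      intro i
      rw [charDegree_eq_deg]
      fin_cases i
      · exact h0.symm
      · exact h1.symm
      · exact h2.symm
      · exact h3.symm)
  have hreg : ¬ 11 ∣ orderOf t := by rw [ht]; norm_num
  refine ⟨w, hw.val, ?_, ?_⟩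
  · intro Θ' hΘ'
    rw [hD.rel.eq_of_mem hΘ' hD.mem_X hreg]
    exact theta_apply hD hE hreg hw.val
  · -- the order of the centralizer
    set c := Nat.card (centralizer ({t} : Set G)) with hcdef
    have hc1 : c ∣ 11 * 8640 := by
      have : (95040 : ℕ) = 11 * 8640 := by norm_num
      rw [← this, ← hc]; exact card_subgroup_dvd_card _
    have hc11 : ¬ 11 ∣ c := by
      intro h
      obtain ⟨y, hy⟩ := exists_prime_orderOf_dvd_card' 11 h
      have h2 := mem_centralizer_singleton_iff.1 y.2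
      have h3 := SylowFive.orderOf_dvd_of_commute hc h11 (x := (y : G)) (y := t)
        (by rw [orderOf_coe]; exact hy) h2
      rw [ht] at h3
      norm_num at h3
    have hc2 : c ∣ 8640 :=
      (Nat.Coprime.dvd_mul_left
        (((Nat.Prime.coprime_iff_not_dvd (by norm_num)).2 hc11).symm)).1 hc1
    have hc3 : 2 ∣ c := by
      have h4 : t ∈ centralizer ({t} : Set G) := mem_centralizer_singleton_iff.2 rfl
      have h5 := orderOf_dvd_natCard (⟨t, h4⟩ : centralizer ({t} : Set G))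
      rw [Subgroup.orderOf_mk, ht] at h5
      exact h5
    have hidx : (centralizer ({t} : Set G)).index = 95040 / c := by
      have h4 := (centralizer ({t} : Set G)).card_mul_index
      rw [hc] at h4
      rw [← h4, hcdef, Nat.mul_div_cancel_left _ Nat.card_pos]
    have hl := hw.lt
    have h4 := hw.four
    have hd := hw.dvd
    have hlT := hw.ltT
    have hdT := hw.dvdT
    have hn := hw.norm
    have htwo := hw.two
    rw [hidx] at hdT
    simp only [hidx] at hd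
    simp only [Fin.sum_univ_four, ← add_assoc] at hlT hdT hn htwo
    have e0 := hl 0
    have e1 := hl 1
    have e2 := hl 2
    have e3 := hl 3
    have f0 := h4 0
    have f1 := h4 1
    have f2 := h4 2
    have f3 := h4 3
    have g0 := hd 0
    have g1 := hd 1
    have g2 := hd 2
    have g3 := hd 3
    simp only [Matrix.cons_val_zero, Matrix.cons_val_one, Matrix.cons_val] at e0 e1 e2 e3 f0 f1 f2 f3 g0 g1 g2 g3 hlT hdT htwo
    norm_num at e0 e1 e2 e3 f0 f1 f2 f3 g0 g1 g2 g3 hlT hdT htwo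
    refine ArithSix.columns hc2 hc3 e0 e1 e2 e3 ?_ ?_ f2 f3 ?_ ?_ g2 g3 hlT ?_ ?_ ?_
    · exact f0
    · exact f1
    · push_cast; exact g0
    · push_cast; exact g1
    · push_cast; exact hdT
    · exact hn
    · have h5 : ((8640 - 72 * w 0 ^ 2 - 160 * w 1 ^ 2 + 192 * w 2 ^ 2 + 60 * w 3 ^ 2 : ℤ) : ℚ) =
          ((540 * (1 + w 0 + w 1 + w 2 + w 3) ^ 2 : ℤ) : ℚ) := by
        push_cast
        linear_combination 8640 * htwo
      exact_mod_cast h5

end Cfsg.Agent.MTwelve.ElevenMain
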