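import Cfsg.Agent.MTwelve.BlockData

/-!
# The principal 5-block of a simple group of order 95040

Using only that every irreducible degree is congruent to `0`, `±1` or `±5` modulo `11`, the
degrees in the principal 5-block are determined up to five possibilities when the inertial index
is four, and are `1, 11, 12, 12` when it is two.
-/

set_option autoImplicit false

open scoped ComplexConjugate
open Cfsg

namespace Cfsg.Agent.MTwelve.FiveBlock

open Cfsg.Agent.Characters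
open Cfsg.Agent.MTwelve.BlockData

universe u

/-! ### Arithmetic -/

/-- The divisors `d` of `95040` with `1 < d`, `d ^ 2 < 95040` that are congruent to `0`, `±1` or
`±5` modulo `11`. -/
def pool : List ℕ :=
  [5, 6, 10, 11, 12, 16, 22, 27, 32, 33, 44, 45, 54, 55, 60, 66, 72, 88, 99, 110, 120, 132, 144,
    160, 165, 176, 192, 198, 220, 264, 270, 297]

theorem mem_pool {n : ℕ} (h1 : n ≠ 1) (hd : n ∣ 95040) (hsq : n ^ 2 ≤ 95040)
    (hm : n % 11 = 0 ∨ n % 11 = 1 ∨ n % 11 = 10 ∨ n % 11 = 5 ∨ n % 11 = 6) : n ∈ pool := by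
  have hlt : n < 309 := by
    by_contra h
    rw [not_lt] at h
    have : 309 ^ 2 ≤ n ^ 2 := Nat.pow_le_pow_left h 2
    omega
  have key : ∀ n ∈ List.range 309, (n ≠ 1 ∧ n ∣ 95040 ∧
      (n % 11 = 0 ∨ n % 11 = 1 ∨ n % 11 = 10 ∨ n % 11 = 5 ∨ n % 11 = 6)) → n ∈ pool := by
    decide +kernel
  exact key n (List.mem_range.2 hlt) ⟨h1, hd, hm⟩

/-- The sign of a degree prime to five. -/
def sgn (n : ℕ) : ℤ := if n % 5 = 1 then 1 else -1

theorem four_cases {a b c d : ℕ} (ha : a ∈ pool) (hb : b ∈ pool) (hc : c ∈ pool) (hd : d ∈ pool)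
    (ha' : a % 5 = 1 ∨ a % 5 = 4) (hb' : b % 5 = 1 ∨ b % 5 = 4) (hc' : c % 5 = 1 ∨ c % 5 = 4)
    (hd' : d % 5 = 1 ∨ d % 5 = 4) (hab : a ≤ b) (hbc : b ≤ c) (hcd : c ≤ d)
    (hsum : 1 + sgn a * a + sgn b * b + sgn c * c + sgn d * d = 0) :
    (a = 11 ∧ b = 16 ∧ c = 16 ∧ d = 44) ∨ (a = 11 ∧ b = 44 ∧ c = 144 ∧ d = 176) ∨
    (a = 11 ∧ b = 66 ∧ c = 66 ∧ d = 144) ∨ (a = 16 ∧ b = 16 ∧ c = 66 ∧ d = 99) ∨
    (a = 66 ∧ b = 99 ∧ c = 144 ∧ d = 176) := by
  have red : ∀ n ∈ pool, (n % 5 = 1 ∨ n % 5 = 4) →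
      n ∈ [6, 11, 16, 44, 54, 66, 99, 144, 176, 264] := by decide
  have key : ∀ a ∈ [6, 11, 16, 44, 54, 66, 99, 144, 176, 264],
      ∀ b ∈ [6, 11, 16, 44, 54, 66, 99, 144, 176, 264],
      ∀ c ∈ [6, 11, 16, 44, 54, 66, 99, 144, 176, 264],
      ∀ d ∈ [6, 11, 16, 44, 54, 66, 99, 144, 176, 264], a ≤ b → b ≤ c → c ≤ d →
      1 + sgn a * a + sgn b * b + sgn c * c + sgn d * d = 0 →
      (a = 11 ∧ b = 16 ∧ c = 16 ∧ d = 44) ∨ (a = 11 ∧ b = 44 ∧ c = 144 ∧ d = 176) ∨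
      (a = 11 ∧ b = 66 ∧ c = 66 ∧ d = 144) ∨ (a = 16 ∧ b = 16 ∧ c = 66 ∧ d = 99) ∨
      (a = 66 ∧ b = 99 ∧ c = 144 ∧ d = 176) := by
    decide +kernel
  exact key a (red a ha ha') b (red b hb hb') c (red c hc hc') d (red d hd hd') hab hbc hcd hsum

theorem two_cases {a b : ℕ} (ha : a ∈ pool) (hb : b ∈ pool) {s d : ℤ} (hs : s = 1 ∨ s = -1)
    (hd : d = 1 ∨ d = -1) (ha' : (5 : ℤ) ∣ a - s) (hb' : (5 : ℤ) ∣ b - 2 * d)
    (hsum : 1 + s * a = d * b) : a = 11 ∧ b = 12 := by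
  have key : ∀ a ∈ pool, ∀ b ∈ pool, ∀ s ∈ ([1, -1] : List ℤ), ∀ d ∈ ([1, -1] : List ℤ),
      (5 : ℤ) ∣ a - s → (5 : ℤ) ∣ b - 2 * d → 1 + s * a = d * b → a = 11 ∧ b = 12 := by
    decide +kernel
  exact key a ha b hb s (by rcases hs with rfl | rfl <;> simp) d
    (by rcases hd with rfl | rfl <;> simp) ha' hb' hsum

/-- Enumeration of a finite set in the order given by a natural-number valued function. -/
theorem exists_enum {α : Type*} (s : Finset α) (f : α → ℕ) {n : ℕ} (hs : s.card = n) :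
    ∃ c : Fin n → α, Function.Injective c ∧ (∀ a, a ∈ s ↔ ∃ i, c i = a) ∧ Monotone (f ∘ c) := by
  classical
  let e : Fin n ≃ s := (finCongr hs.symm).trans s.equivFin.symm
  let g : Fin n → ℕ := fun i => f (e i)
  refine ⟨fun i => (e (Tuple.sort g i) : α), ?_, ?_, ?_⟩
  · intro i j h
    exact (Tuple.sort g).injective (e.injective (Subtype.ext h))
  · intro a
    constructor
    · intro ha
      refine ⟨(Tuple.sort g).symm (e.symm ⟨a, ha⟩), ?_⟩
      simp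
    · rintro ⟨i, rfl⟩
      exact (e _).2
  · exact Tuple.monotone_sort g

/-! ### The principal block -/

section

variable {G : Type u} [Group G]

theorem deg_sq_le [Finite G] (χ : IrrCharacter G) : deg χ ^ 2 ≤ Nat.card G := by
  classical
  have := Core.finite_irr (G := G)
  have := Fintype.ofFinite (IrrCharacter G)
  rw [← sum_deg_sq (G := G)]
  exact Finset.single_le_sum (f := fun χ : IrrCharacter G => deg χ ^ 2)
    (fun _ _ => Nat.zero_le _) (Finset.mem_univ χ)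

/-- The degrees of a simple group of order 95040 with a principal 11-block with five
nonexceptional and two exceptional characters. -/
theorem deg_mem_pool [Finite G] [IsSimpleGroup G] (hc : Nat.card G = 95040) {Q : Subgroup G}
    (hQ : Nat.card Q = 11) (B : PBlock G 11 5 2 Q)
    (hrest : ∀ χ : IrrCharacter G, χ ∉ B.NE → χ ∉ B.X → 11 ∣ deg χ) (χ : IrrCharacter G)
    (hχ : χ ≠ triv G) : deg χ ∈ pool := by
  refine mem_pool ?_ (hc ▸ deg_dvd χ) (hc ▸ deg_sq_le χ) ?_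
  · intro h
    exact hχ (eq_triv_of_deg (SmallDegree.commutator_eq_top_of_card (by rw [hc]; norm_num)) h)
  · by_cases h1 : χ ∈ B.NE
    · have h2 := B.dvd_deg_sub hQ (by norm_num) h1
      have h3 := B.ε_eq χ h1
      push_cast at h2
      omega
    · by_cases h2 : χ ∈ B.X
      · have h3 := B.dvd_deg_X_sub hQ (by norm_num) (by norm_num) h2
        have h4 := B.d_eq
        push_cast at h3
        omega
      · have := hrest χ h1 h2
        omega

/-- The principal 5-block when the inertial index is four. -/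
theorem exists_five {P : Subgroup G} (B : PBlock G 5 4 1 P) (hP : Nat.card P = 5)
    (hpool : ∀ χ : IrrCharacter G, χ ≠ triv G → deg χ ∈ pool) :
    ∃ c : Fin 4 → IrrCharacter G, Function.Injective c ∧ (∀ i, c i ≠ triv G) ∧
      (∀ χ : IrrCharacter G, (χ ∈ B.NE ∨ χ ∈ B.X) ↔ χ = triv G ∨ ∃ i, c i = χ) ∧
      (∀ i, ∀ x ∈ P, x ≠ 1 → ∀ y ∈ Subgroup.centralizer (P : Set G), ¬ 5 ∣ orderOf y →
        (c i : G → ℂ) (x * y) = sgn (deg (c i))) ∧
      (∀ g : G, ¬ 5 ∣ orderOf g → 1 + ∑ i, (sgn (deg (c i)) : ℂ) * (c i : G → ℂ) g = 0) ∧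
      ((deg (c 0) = 11 ∧ deg (c 1) = 16 ∧ deg (c 2) = 16 ∧ deg (c 3) = 44) ∨
       (deg (c 0) = 11 ∧ deg (c 1) = 44 ∧ deg (c 2) = 144 ∧ deg (c 3) = 176) ∨
       (deg (c 0) = 11 ∧ deg (c 1) = 66 ∧ deg (c 2) = 66 ∧ deg (c 3) = 144) ∨
       (deg (c 0) = 16 ∧ deg (c 1) = 16 ∧ deg (c 2) = 66 ∧ deg (c 3) = 99) ∨
       (deg (c 0) = 66 ∧ deg (c 1) = 99 ∧ deg (c 2) = 144 ∧ deg (c 3) = 176)) := by
  classical
  obtain ⟨Θ, hΘ⟩ := Finset.card_eq_one.1 B.card_X
  have hΘX : Θ ∈ B.X := by rw [hΘ]; exact Finset.mem_singleton_self Θ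
  have hΘNE : Θ ∉ B.NE := fun h => Finset.disjoint_left.1 B.disjoint h hΘX
  -- signs
  have hNE : ∀ χ ∈ B.NE, (deg χ % 5 = 1 ∨ deg χ % 5 = 4) ∧ B.ε χ = sgn (deg χ) := by
    intro χ hχ
    have h1 := B.dvd_deg_sub hP (by norm_num) hχ
    have h2 := B.ε_eq χ hχ
    push_cast at h1
    unfold sgn
    split_ifs <;> omega
  have hX : (deg Θ % 5 = 1 ∨ deg Θ % 5 = 4) ∧ -B.d = sgn (deg Θ) := by
    have h1 := B.dvd_deg_X_sub hP (by norm_num) (by norm_num) hΘX
    have h2 := B.d_eq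
    push_cast at h1
    unfold sgn
    split_ifs <;> omega
  have hU : ∀ χ ∈ B.NE ∪ B.X, (deg χ % 5 = 1 ∨ deg χ % 5 = 4) := by
    intro χ hχ
    rcases Finset.mem_union.1 hχ with h | h
    · exact (hNE χ h).1
    · rw [hΘ, Finset.mem_singleton] at h
      rw [h]
      exact hX.1
  have hval : ∀ χ ∈ B.NE ∪ B.X, ∀ x ∈ P, x ≠ 1 → ∀ y ∈ Subgroup.centralizer (P : Set G),
      ¬ 5 ∣ orderOf y → (χ : G → ℂ) (x * y) = sgn (deg χ) := by
    intro χ hχ x hx hx1 y hy hy5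
    rcases Finset.mem_union.1 hχ with h | h
    · rw [B.apply_NE χ h x hx hx1 y hy hy5, (hNE χ h).2]
    · rw [hΘ, Finset.mem_singleton] at h
      have h1 := B.sum_X x hx hx1 y hy hy5
      rw [hΘ, Finset.sum_singleton] at h1
      rw [h, h1, ← hX.2]
      push_cast
      rfl
  have hrel : ∀ g : G, ¬ 5 ∣ orderOf g →
      ∑ χ ∈ B.NE ∪ B.X, (sgn (deg χ) : ℂ) * (χ : G → ℂ) g = 0 := by
    intro g hg
    rw [Finset.sum_union B.disjoint, hΘ, Finset.sum_singleton, ← hX.2,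
      Finset.sum_congr rfl fun χ hχ => by rw [← (hNE χ hχ).2], B.rel Θ hΘX g hg]
    push_cast
    ring
  -- enumeration
  have htriv : triv G ∈ B.NE ∪ B.X := Finset.mem_union_left _ B.triv_mem
  have hcard : ((B.NE ∪ B.X).erase (triv G)).card = 4 := by
    rw [Finset.card_erase_of_mem htriv, Finset.card_union_of_disjoint B.disjoint, B.card_NE,
      B.card_X]
  obtain ⟨c, hinj, hc, hmono⟩ := exists_enum _ deg hcard
  have hcmem : ∀ i, c i ∈ (B.NE ∪ B.X).erase (triv G) := fun i => (hc _).2 ⟨i, rfl⟩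
  have hcne : ∀ i, c i ≠ triv G := fun i => Finset.ne_of_mem_erase (hcmem i)
  have hcU : ∀ i, c i ∈ B.NE ∪ B.X := fun i => Finset.mem_of_mem_erase (hcmem i)
  have himg : (B.NE ∪ B.X).erase (triv G) = Finset.univ.image c := by
    ext χ
    rw [hc, Finset.mem_image]
    simp
  have hrel' : ∀ g : G, ¬ 5 ∣ orderOf g →
      1 + ∑ i, (sgn (deg (c i)) : ℂ) * (c i : G → ℂ) g = 0 := by
    intro g hg
    have h1 := hrel g hg
    rw [← Finset.add_sum_erase _ _ htriv, himg, Finset.sum_image fun i _ j _ h => hinj h,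
      deg_triv, triv_apply] at h1
    simpa [sgn] using h1
  refine ⟨c, hinj, hcne, ?_, fun i => hval _ (hcU i), hrel', ?_⟩
  · intro χ
    rw [← Finset.mem_union]
    constructor
    · intro hχ
      by_cases h : χ = triv G
      · exact Or.inl h
      · exact Or.inr ((hc χ).1 (Finset.mem_erase.2 ⟨h, hχ⟩))
    · rintro (rfl | ⟨i, rfl⟩)
      · exact htriv
      · exact hcU i
  · have h1 := hrel' 1 (by rw [orderOf_one]; norm_num)
    rw [Fin.sum_univ_four, apply_one, apply_one, apply_one, apply_one] at h1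
    have h2 : 1 + sgn (deg (c 0)) * deg (c 0) + sgn (deg (c 1)) * deg (c 1) +
        sgn (deg (c 2)) * deg (c 2) + sgn (deg (c 3)) * deg (c 3) = 0 := by
      have h3 : ((1 + sgn (deg (c 0)) * deg (c 0) + sgn (deg (c 1)) * deg (c 1) +
        sgn (deg (c 2)) * deg (c 2) + sgn (deg (c 3)) * deg (c 3) : ℤ) : ℂ) = 0 := by
        push_cast
        rw [← h1]
        ring
      exact_mod_cast h3
    exact four_cases (hpool _ (hcne 0)) (hpool _ (hcne 1)) (hpool _ (hcne 2)) (hpool _ (hcne 3))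
      (hU _ (hcU 0)) (hU _ (hcU 1)) (hU _ (hcU 2)) (hU _ (hcU 3))
      (hmono (by decide : (0 : Fin 4) ≤ 1)) (hmono (by decide : (1 : Fin 4) ≤ 2))
      (hmono (by decide : (2 : Fin 4) ≤ 3)) h2

/-- The principal 5-block when the inertial index is two. -/
theorem exists_two {P : Subgroup G} (B : PBlock G 5 2 2 P) (hP : Nat.card P = 5)
    (hpool : ∀ χ : IrrCharacter G, χ ≠ triv G → deg χ ∈ pool) :
    ∃ χ Θ Θ' : IrrCharacter G, (∀ ψ, ψ ∈ B.NE ↔ ψ = triv G ∨ ψ = χ) ∧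
      (∀ ψ, ψ ∈ B.X ↔ ψ = Θ ∨ ψ = Θ') ∧ Θ ≠ Θ' ∧ χ ≠ triv G ∧
      deg χ = 11 ∧ deg Θ = 12 ∧ deg Θ' = 12 ∧ B.ε χ = 1 ∧ B.d = 1 := by
  classical
  obtain ⟨Θ, Θ', hne, hX⟩ := Finset.card_eq_two.1 B.card_X
  have hΘ : Θ ∈ B.X := by rw [hX]; simp
  have hΘ' : Θ' ∈ B.X := by rw [hX]; simp
  have hcard : (B.NE.erase (triv G)).card = 1 := by
    rw [Finset.card_erase_of_mem B.triv_mem, B.card_NE]
  obtain ⟨χ, hχ⟩ := Finset.card_eq_one.1 hcard
  have hχmem : χ ∈ B.NE.erase (triv G) := by rw [hχ]; exact Finset.mem_singleton_self χ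
  have hχne : χ ≠ triv G := Finset.ne_of_mem_erase hχmem
  have hχNE : χ ∈ B.NE := Finset.mem_of_mem_erase hχmem
  have hNE : B.NE = {triv G, χ} := by
    rw [← Finset.insert_erase B.triv_mem, hχ]
  have hsum := B.sum_deg (by norm_num) hΘ
  rw [hNE, Finset.sum_pair hχne.symm, B.ε_triv, deg_triv] at hsum
  have hΘne : Θ ≠ triv G := by
    rintro rfl
    exact Finset.disjoint_left.1 B.disjoint B.triv_mem hΘ
  have h1 := B.dvd_deg_sub hP (by norm_num) hχNE
  have h2 := B.dvd_deg_X_sub hP (by norm_num) (by norm_num) hΘ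
  have h3 := B.ε_eq χ hχNE
  have h4 := B.d_eq
  obtain ⟨h5, h6⟩ := two_cases (hpool χ hχne) (hpool Θ hΘne) h3 h4 (by exact_mod_cast h1)
    (by exact_mod_cast h2) (by
      rw [← hsum]
      push_cast
      ring)
  refine ⟨χ, Θ, Θ', fun ψ => by rw [hNE]; simp, fun ψ => by rw [hX]; simp, hne, hχne, h5, h6,
    ?_, ?_, ?_⟩
  · rw [← B.deg_X_eq (by norm_num) hΘ hΘ', h6]
  · rw [h5] at h1
    push_cast at h1
    omega
  · rw [h6] at h2
    push_cast at h2
    omega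

end

end Cfsg.Agent.MTwelve.FiveBlock
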