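import Mathlib
import Cfsg.Agent.MTwelve.ElevenMain
import Cfsg.Agent.MTwelve.FiveBlock

/-!
# The family of degrees of a simple group of order 95040

Combination of the principal 11-block (`ElevenMain.main`), the local data of a Sylow 5-subgroup
(`SylowFive.cases`) and the principal 5-block (`FiveBlock`).
-/

set_option autoImplicit false
set_option linter.unusedSectionVars false

namespace Cfsg.Agent.MTwelve.Assembly5

open Cfsg Subgroup Cfsg.Agent.Characters.Core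
open scoped ComplexConjugate
open Cfsg.Agent.SmallSimple.InvolColumn Cfsg.Agent.SmallSimple.PrimeLocal
open Cfsg.Agent.MTwelve Cfsg.Agent.MTwelve.BlockData Cfsg.Agent.MTwelve.ElevenBlock

universe u
variable {G : Type u} [Group G]

/-- The output of `ElevenMain.main` as a structure. -/
structure Main (P : Sylow 11 G) (B : PBlock G 11 5 2 (P : Subgroup G)) (t : G)
    (χ : Fin 4 → IrrCharacter G) (D w : Fin 4 → ℤ) (k : ℕ) : Prop where
  rest : ∀ χ : IrrCharacter G, χ ∉ B.NE → χ ∉ B.X →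
        (∀ x ∈ P, x ≠ 1 → (χ : G → ℂ) x = 0) ∧ 11 ∣ deg χ
  nonreal : ∀ x ∈ P, x ≠ 1 → ∀ u v : G, u ^ 2 = 1 → v ^ 2 = 1 → u * v ≠ x
  order : orderOf t = 2
  card : Nat.card (centralizer ({t} : Set G)) = 64 * k
  mem_ks : k ∈ Arith.ks
  inj : Function.Injective χ
  ne : ∀ i, χ i ≠ triv G
  mem : ∀ ψ : IrrCharacter G, ψ ∈ B.NE ↔ ψ = triv G ∨ ∃ i, χ i = ψ
  deg : ∀ i, B.ε (χ i) * (deg (χ i) : ℤ) = D i
  val : ∀ i, (χ i : G → ℂ) t = B.ε (χ i) * w i
  col : Column t B.ε χ D w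
  row : (k, (D 0, w 0), (D 1, w 1), (D 2, w 2), (D 3, w 3)) ∈ Arith.rows

theorem exists_main [Finite G] [IsSimpleGroup G] (hc : Nat.card G = 95040)
    (h11 : ∀ P : Sylow 11 G, centralizer (P : Set G) = (P : Subgroup G)) (P : Sylow 11 G)
    (hN : Nat.card (normalizer (P : Set G)) = 55) :
    ∃ (B : PBlock G 11 5 2 (P : Subgroup G)) (t : G) (χ : Fin 4 → IrrCharacter G)
      (D w : Fin 4 → ℤ) (k : ℕ), Main P B t χ D w k := by
  obtain ⟨B, t, χ, D, w, k, h1, h2, h3, h4, h5, h6, h7, h8, h9, h10, h12, h13⟩ :=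
    ElevenMain.main hc h11 P hN
  exact ⟨B, t, χ, D, w, k, h1, h2, h3, h4, h5, h6, h7, h8, h9, h10, h12, h13⟩

section

variable [Finite G] {P : Sylow 11 G} {B : PBlock G 11 5 2 (P : Subgroup G)} {t : G}
  {χ : Fin 4 → IrrCharacter G} {D w : Fin 4 → ℤ} {k : ℕ}

theorem card_eleven (hc : Nat.card G = 95040) (P : Sylow 11 G) :
    Nat.card (P : Subgroup G) = 11 := by
  have : Fact (Nat.Prime 11) := ⟨by norm_num⟩
  exact card_of_not_sq_dvd (by rw [hc]; norm_num) (by rw [hc]; norm_num) P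

theorem card_five (hc : Nat.card G = 95040) (P : Sylow 5 G) :
    Nat.card (P : Subgroup G) = 5 := by
  have : Fact (Nat.Prime 5) := ⟨by norm_num⟩
  exact card_of_not_sq_dvd (by rw [hc]; norm_num) (by rw [hc]; norm_num) P

/-- The degree of the exceptional characters. -/
theorem Main.theta_deg (hc : Nat.card G = 95040) (h : Main P B t χ D w k) {Θ : IrrCharacter G}
    (hΘ : Θ ∈ B.X) : (BlockData.deg Θ : ℤ) = B.d * (1 + D 0 + D 1 + D 2 + D 3) := by
  have hP := card_eleven hc P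
  have hnt : Nontrivial (P : Subgroup G) := by
    rw [← Finite.one_lt_card_iff_nontrivial, hP]; norm_num
  obtain ⟨x, hx1⟩ := exists_ne (1 : (P : Subgroup G))
  have hx1' : (x : G) ≠ 1 := fun h => hx1 (Subtype.ext h)
  obtain ⟨Θ', hD⟩ := ElevenMain.data_of_pblock hP B h.rest x.2 hx1'
  have hE := ElevenMain.enum_of B h.inj h.ne h.mem
  have h1 := theta_degree hD hE
  rw [ElevenMain.charDegree_eq_deg, B.deg_X_eq (by norm_num) hD.mem_X hΘ] at h1
  rw [h1, Fin.sum_univ_four]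
  have h2 : ∀ i, B.ε (χ i) * (charDegree (χ i : G → ℂ) : ℤ) = D i := fun i => by
    rw [ElevenMain.charDegree_eq_deg]; exact h.deg i
  rw [h2, h2, h2, h2]
  ring

/-- Characters of degree prime to 11 congruent to `±1` are the `χ i`. -/
theorem Main.exists_eq (hc : Nat.card G = 95040) (h : Main P B t χ D w k) {ψ : IrrCharacter G}
    (hψ : ψ ≠ triv G) (hm : BlockData.deg ψ % 11 = 1 ∨ BlockData.deg ψ % 11 = 10) :
    ∃ i, χ i = ψ := by
  have hP := card_eleven hc P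
  have h1 : ψ ∈ B.NE := by
    by_contra h2
    by_cases h3 : ψ ∈ B.X
    · have h4 := B.dvd_deg_X_sub hP (by norm_num) (by norm_num) h3
      rcases B.d_eq with h5 | h5 <;> rw [h5] at h4 <;> push_cast at h4 <;> omega
    · have h4 := (h.rest ψ h2 h3).2
      omega
  rcases (h.mem ψ).1 h1 with h2 | h2
  · exact absurd h2 hψ
  · exact h2

/-- Characters of degree `±5` modulo 11 are exceptional. -/
theorem Main.mem_X (hc : Nat.card G = 95040) (h : Main P B t χ D w k) {ψ : IrrCharacter G}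
    (hm : BlockData.deg ψ % 11 = 5 ∨ BlockData.deg ψ % 11 = 6) : ψ ∈ B.X := by
  have hP := card_eleven hc P
  by_contra h3
  by_cases h2 : ψ ∈ B.NE
  · have h4 := B.dvd_deg_sub hP (by norm_num) h2
    rcases B.ε_eq ψ h2 with h5 | h5 <;> rw [h5] at h4 <;> push_cast at h4 <;> omega
  · have h4 := (h.rest ψ h2 h3).2
    omega

/-- No exceptional characters of degree 5. -/
theorem Main.T_ne_five [IsSimpleGroup G] (hc : Nat.card G = 95040) (h : Main P B t χ D w k)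
    {Q : Sylow 5 G} {e : ℕ} {K : Subgroup G} (hQ : IsLocal 5 Q e K) (hK : 1 < Nat.card K) :
    1 + D 0 + D 1 + D 2 + D 3 ≠ 5 := by
  intro h5
  have : Fact (Nat.Prime 5) := ⟨by norm_num⟩
  have hG : commutator G = ⊤ := SmallDegree.commutator_eq_top_of_card (by rw [hc]; norm_num)
  have hX : B.X.Nonempty := by rw [← Finset.card_pos, B.card_X]; norm_num
  obtain ⟨Θ, hΘ⟩ := hX
  have h1 := h.theta_deg hc hΘ
  rw [h5] at h1
  have h2 : BlockData.deg Θ = 5 := by
    rcases B.d_eq with h6 | h6 <;> rw [h6] at h1 <;> omega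
  have h3 := SmallDegree.centralizer_eq_of_degree_eq hG Q (card_five hc Q) Θ.2
    (by rw [apply_one, h2])
  have h4 := hQ.card_centralizer
  have h7 : Nat.card (centralizer (Q : Set G)) = 5 := by
    rw [show centralizer (Q : Set G) = (Q : Subgroup G) from h3]; exact card_five hc Q
  omega

/-- No characters of degree 10 if `|K|` is even. -/
theorem Main.D_ne [IsSimpleGroup G] (hc : Nat.card G = 95040) (h : Main P B t χ D w k)
    {Q : Sylow 5 G} {e : ℕ} {K : Subgroup G} (hQ : IsLocal 5 Q e K) (hK : 2 ∣ Nat.card K)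
    (i : Fin 4) : D i ≠ -10 := by
  intro h10
  have : Fact (Nat.Prime 5) := ⟨by norm_num⟩
  have hG : commutator G = ⊤ := SmallDegree.commutator_eq_top_of_card (by rw [hc]; norm_num)
  have h1 := h.deg i
  rw [h10] at h1
  have h2 : BlockData.deg (χ i) = 10 := by
    rcases B.ε_eq (χ i) ((h.mem _).2 (Or.inr ⟨i, rfl⟩)) with h6 | h6 <;> rw [h6] at h1 <;> omega
  apply SmallDegree.not_two_dvd_of_degree_eq hG (by norm_num) Q (card_five hc Q) (χ i).2
    (by rw [apply_one, h2]; norm_num)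
  have h4 := hQ.card_centralizer
  rw [show Nat.card (centralizer ((Q : Subgroup G) : Set G)) =
    Nat.card (centralizer (Q : Set G)) from rfl, h4]
  exact hK.mul_left _

/-- The case `e = 4`. -/
theorem Main.case_four [IsSimpleGroup G] (hc : Nat.card G = 95040) (h : Main P B t χ D w k)
    {Q : Sylow 5 G} {K : Subgroup G} (hQ : IsLocal 5 Q 4 K)
    (hK : Nat.card K = 2 ∨ Nat.card K = 12 ∨ Nat.card K = 72)
    (B5 : PBlock G 5 4 1 (Q : Subgroup G)) :
    k = 3 ∧ D 0 = -120 ∧ w 0 = 8 ∧ D 1 = -54 ∧ w 1 = -6 ∧ D 2 = 45 ∧ w 2 = -3 ∧ D 3 = 144 ∧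
      w 3 = 0 := by
  have hpool := FiveBlock.deg_mem_pool hc (card_eleven hc P) B fun ψ h1 h2 => (h.rest ψ h1 h2).2
  obtain ⟨c, -, hcne, -, -, -, hcdeg⟩ := FiveBlock.exists_five B5 (card_five hc Q) hpool
  have hT := h.T_ne_five hc hQ (by omega)
  have hn := h.D_ne hc hQ (by omega)
  have n0 := hn 0
  have n1 := hn 1
  have n2 := hn 2
  have n3 := hn 3
  have h16 : ∀ ψ : IrrCharacter G, BlockData.deg ψ = 16 →
      (1 + D 0 + D 1 + D 2 + D 3 = 16 ∨ 1 + D 0 + D 1 + D 2 + D 3 = -16) := by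
    intro ψ hψ
    have h1 := h.theta_deg hc (h.mem_X hc (ψ := ψ) (by rw [hψ]; norm_num))
    rw [hψ] at h1
    rcases B.d_eq with h6 | h6 <;> rw [h6] at h1 <;> omega
  have h144 : ∀ ψ : IrrCharacter G, BlockData.deg ψ = 144 →
      (D 0 = 144 ∨ D 1 = 144 ∨ D 2 = 144 ∨ D 3 = 144) := by
    intro ψ hψ
    obtain ⟨i, hi⟩ := h.exists_eq hc (ψ := ψ)
      (by rintro rfl; rw [deg_triv] at hψ; norm_num at hψ) (by rw [hψ]; norm_num)
    have h1 := h.deg i
    rw [hi, hψ] at h1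
    have h2 : D i = 144 := by
      have h3 := B.dvd_deg_sub (card_eleven hc P) (by norm_num) ((h.mem _).2 (Or.inr ⟨i, hi⟩))
      rw [hψ] at h3
      rcases B.ε_eq ψ ((h.mem _).2 (Or.inr ⟨i, hi⟩)) with h6 | h6
      · rw [h6] at h1; omega
      · rw [h6] at h3; norm_num at h3
    fin_cases i
    · exact Or.inl h2
    · exact Or.inr (Or.inl h2)
    · exact Or.inr (Or.inr (Or.inl h2))
    · exact Or.inr (Or.inr (Or.inr h2))
  have hmain : (1 + D 0 + D 1 + D 2 + D 3 = 16 ∨ 1 + D 0 + D 1 + D 2 + D 3 = -16) ∨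
      (D 0 = 144 ∨ D 1 = 144 ∨ D 2 = 144 ∨ D 3 = 144) := by
    rcases hcdeg with h1 | h1 | h1 | h1 | h1
    · exact Or.inl (h16 _ h1.2.1)
    · exact Or.inr (h144 _ h1.2.2.1)
    · exact Or.inr (h144 _ h1.2.2.2)
    · exact Or.inl (h16 _ h1.1)
    · exact Or.inr (h144 _ h1.2.2.1)
  have hrow := h.row
  simp only [Arith.rows, List.mem_cons, List.not_mem_nil, Prod.mk.injEq, or_false] at hrow
  omega

theorem rows_two : ∀ r ∈ Arith.rows,
    1 + r.2.1.1 + r.2.2.1.1 + r.2.2.2.1.1 + r.2.2.2.2.1 ≠ 5 →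
    ((r.2.1.1 = 12 ∧ r.2.2.1.1 = 12) ∨ (r.2.1.1 = 12 ∧ r.2.2.2.1.1 = 12) ∨
      (r.2.1.1 = 12 ∧ r.2.2.2.2.1 = 12) ∨ (r.2.2.1.1 = 12 ∧ r.2.2.2.1.1 = 12) ∨
      (r.2.2.1.1 = 12 ∧ r.2.2.2.2.1 = 12) ∨ (r.2.2.2.1.1 = 12 ∧ r.2.2.2.2.1 = 12)) →
    r.2.1.1 = -10 ∧ r.2.2.1.1 = 12 ∧ r.2.2.2.1.1 = 12 ∧ r.2.2.2.2.1 = 45 ∧
    ((r.2.2.1.2 = -4 ∧ r.2.2.2.1.2 = 4) ∨ (r.1 = 3 ∧ r.2.2.1.2 = -4) ∨
      (r.1 = 9 ∧ r.2.2.1.2 = -4) ∨ (r.1 = 9 ∧ r.2.2.1.2 = 0) ∨ (r.1 = 27 ∧ r.2.2.1.2 = 0)) := by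
  decide +kernel

theorem pair_cases {D : Fin 4 → ℤ} {a : ℤ} {i j : Fin 4} (hij : i ≠ j) (hi : D i = a)
    (hj : D j = a) : (D 0 = a ∧ D 1 = a) ∨ (D 0 = a ∧ D 2 = a) ∨ (D 0 = a ∧ D 3 = a) ∨
      (D 1 = a ∧ D 2 = a) ∨ (D 1 = a ∧ D 3 = a) ∨ (D 2 = a ∧ D 3 = a) := by
  fin_cases i <;> fin_cases j <;> simp_all

/-- The case `e = 2` does not occur. -/
theorem Main.case_two [IsSimpleGroup G] (hc : Nat.card G = 95040) (h : Main P B t χ D w k)
    {Q : Sylow 5 G} {K : Subgroup G} (hQ : IsLocal 5 Q 2 K)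
    (hK : Nat.card K = 4 ∨ Nat.card K = 9 ∨ Nat.card K = 24 ∨ Nat.card K = 54 ∨ Nat.card K = 144)
    (B5 : PBlock G 5 2 2 (Q : Subgroup G)) : False := by
  classical
  have : Fact (Nat.Prime 5) := ⟨by norm_num⟩
  have hpool := FiveBlock.deg_mem_pool hc (card_eleven hc P) B fun ψ h1 h2 => (h.rest ψ h1 h2).2
  obtain ⟨ψ, Θ, Θ', -, hX, hne, -, -, hΘ, hΘ', -, hd⟩ :=
    FiveBlock.exists_two B5 (card_five hc Q) hpool
  have hT := h.T_ne_five hc hQ (by omega)
  -- the characters of degree 12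
  have key : ∀ ψ : IrrCharacter G, BlockData.deg ψ = 12 →
      ∃ i, χ i = ψ ∧ B.ε (χ i) = 1 ∧ D i = 12 := by
    intro ψ hψ
    obtain ⟨i, hi⟩ := h.exists_eq hc (ψ := ψ)
      (by rintro rfl; rw [deg_triv] at hψ; norm_num at hψ) (by rw [hψ]; norm_num)
    have h1 := h.deg i
    have h3 := B.dvd_deg_sub (card_eleven hc P) (by norm_num) ((h.mem _).2 (Or.inr ⟨i, hi⟩))
    rw [hψ] at h3
    have h4 : B.ε ψ = 1 := by
      rcases B.ε_eq ψ ((h.mem _).2 (Or.inr ⟨i, hi⟩)) with h6 | h6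
      · exact h6
      · rw [h6] at h3; norm_num at h3
    rw [hi, hψ, h4] at h1
    exact ⟨i, hi, by rw [hi]; exact h4, by rw [← h1]; norm_num⟩
  obtain ⟨i, hi, hεi, hDi⟩ := key Θ hΘ
  obtain ⟨j, hj, hεj, hDj⟩ := key Θ' hΘ'
  have hij : i ≠ j := by
    rintro rfl
    exact hne (hi.symm.trans hj)
  -- equal values at `t`
  have ht5 : ¬ 5 ∣ orderOf t := by rw [h.order]; norm_num
  have hwij : w i = w j := by
    have h1 := B5.apply_X_eq ((hX Θ).2 (Or.inl rfl)) ((hX Θ').2 (Or.inr rfl)) ht5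
    rw [← hi, ← hj, h.val, h.val, hεi, hεj] at h1
    simpa using h1
  have hrow := h.row
  obtain ⟨h0, h1, h2, h3, hkw⟩ := rows_two _ hrow hT (pair_cases hij hDi hDj)
  simp only at h0 h1 h2 h3 hkw
  have hij' : (i = 1 ∧ j = 2) ∨ (i = 2 ∧ j = 1) := by
    have hi0 : i ≠ 0 := by rintro rfl; omega
    have hi3 : i ≠ 3 := by rintro rfl; omega
    have hj0 : j ≠ 0 := by rintro rfl; omega
    have hj3 : j ≠ 3 := by rintro rfl; omega
    omega
  have hw12 : w 2 = w 1 := by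
    rcases hij' with ⟨rfl, rfl⟩ | ⟨rfl, rfl⟩
    · exact hwij.symm
    · exact hwij
  have hn := fun hK' => h.D_ne hc hQ hK' 0
  have hK9 : Nat.card K = 9 := by omega
  -- the element of order 5
  have hQ5 := card_five hc Q
  have hnt : Nontrivial (Q : Subgroup G) := by
    rw [← Finite.one_lt_card_iff_nontrivial, hQ5]; norm_num
  obtain ⟨y, hy1⟩ := exists_ne (1 : (Q : Subgroup G))
  have hy1' : (y : G) ≠ 1 := fun h => hy1 (Subtype.ext h)
  have hyo : orderOf (y : G) = 5 := by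
    have h4 := orderOf_dvd_natCard y
    rw [hQ5, ← orderOf_coe] at h4
    rcases (Nat.dvd_prime (by norm_num)).1 h4 with h5 | h5
    · exact absurd (orderOf_eq_one_iff.1 h5) hy1'
    · exact h5
  have hCy : Nat.card (centralizer ({(y : G)} : Set G)) = 45 := by
    rw [Cfsg.Agent.Blocks.CyclicOrtho.centralizer_eq Q hQ5 y.2 hy1']
    have h4 := hQ.card_centralizer
    rw [hK9] at h4
    exact h4
  have hidxy : (centralizer ({(y : G)} : Set G)).index = 2112 := by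
    have h4 := (centralizer ({(y : G)} : Set G)).card_mul_index
    rw [hCy, hc] at h4
    omega
  -- vanishing
  have hvan : ∀ ψ : IrrCharacter G, 5 ∣ BlockData.deg ψ → (ψ : G → ℂ) y = 0 := by
    intro ψ ⟨m, hm⟩
    have := SmallDegree.apply_mul_eq_zero Q hQ5 ψ.2 (m := m) (x := y) (y := 1)
      (by rw [apply_one, hm]; push_cast; ring) y.2 hy1' (by simp) (by rw [orderOf_one]; norm_num)
    rwa [mul_one] at this
  have hdeg : ∀ i, (D i = -10 ∨ D i = 45) → (χ i : G → ℂ) y = 0 := by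
    intro i hi
    apply hvan
    have h4 := h.deg i
    rcases B.ε_eq (χ i) ((h.mem _).2 (Or.inr ⟨i, rfl⟩)) with h6 | h6 <;> rw [h6] at h4 <;> omega
  have hv0 := hdeg 0 (Or.inl h0)
  have hv3 := hdeg 3 (Or.inr h3)
  have hsum : (χ 1 : G → ℂ) y + (χ 2 : G → ℂ) y = -1 := by
    have h4 := B5.sum_X y y.2 hy1' 1 (one_mem _) (by rw [orderOf_one]; norm_num)
    rw [mul_one, hd] at h4
    have h5 : B5.X = {Θ, Θ'} := by
      ext ψ; rw [hX]; simp
    rw [h5, Finset.sum_pair hne, ← hi, ← hj] at h4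
    rcases hij' with ⟨rfl, rfl⟩ | ⟨rfl, rfl⟩
    · rw [h4]; norm_num
    · rw [add_comm, h4]; norm_num
  -- the class multiplication constant
  have hP := card_eleven hc P
  have hnt : Nontrivial (P : Subgroup G) := by
    rw [← Finite.one_lt_card_iff_nontrivial, hP]; norm_num
  obtain ⟨x, hx1⟩ := exists_ne (1 : (P : Subgroup G))
  have hx1' : (x : G) ≠ 1 := fun h => hx1 (Subtype.ext h)
  obtain ⟨Θ₁, hD⟩ := ElevenMain.data_of_pblock hP B h.rest x.2 hx1'
  have hE := ElevenMain.enum_of B h.inj h.ne h.mem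
  have hRy : ¬ 11 ∣ orderOf (y : G) := by rw [hyo]; norm_num
  have hRt : ¬ 11 ∣ orderOf t := by rw [h.order]; norm_num
  obtain ⟨n, hn1, -⟩ := hD.rel.exists_nat_classMul hD.mem_X hRy hRt
  have hTh : (Θ₁ : G → ℂ) y = 0 := by
    apply hvan
    have h4 := h.theta_deg hc hD.mem_X
    rw [h0, h1, h2, h3] at h4
    rcases B.d_eq with h6 | h6 <;> rw [h6] at h4 <;> omega
  have hε : ∀ i, D i = 12 → B.ε (χ i) = 1 ∧ BlockData.deg (χ i) = 12 := by
    intro i hi
    have h4 := h.deg i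
    rcases B.ε_eq (χ i) ((h.mem _).2 (Or.inr ⟨i, rfl⟩)) with h6 | h6 <;> rw [h6] at h4 ⊢ <;> omega
  have he1 := hε 1 h1
  have he2 := hε 2 h2
  have hkpos : 0 < k := by omega
  have hidxt : (centralizer ({t} : Set G)).index * (64 * k) = 95040 := by
    have h4 := (centralizer ({t} : Set G)).card_mul_index
    rw [h.card, hc] at h4
    rw [mul_comm]; exact h4
  rw [hE.sum, Fin.sum_univ_four, hv0, hv3, hTh, hidxy, hc] at hn1
  have ht1 : (χ 1 : G → ℂ) t = w 1 := by rw [h.val, he1.1]; simp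
  have ht2 : (χ 2 : G → ℂ) t = w 2 := by rw [h.val, he2.1]; simp
  have hd1 : (χ 1 : G → ℂ) 1 = 12 := by rw [apply_one, he1.2]; norm_num
  have hd2 : (χ 2 : G → ℂ) 1 = 12 := by rw [apply_one, he2.2]; norm_num
  rw [ht1, ht2, hw12, he1.1, he2.1, hd1, hd2, B.ε_triv,
    triv_apply, triv_apply, triv_apply] at hn1
  have hfin : (2112 : ℂ) * ((centralizer ({t} : Set G)).index : ℂ) * (12 - w 1) =
      12 * (95040 * n) := by
    push_cast at hn1
    linear_combination 12 * hn1 - 2112 * ((centralizer ({t} : Set G)).index : ℂ) * w 1 * hsum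
  have hfin' : (2112 : ℤ) * ((centralizer ({t} : Set G)).index : ℤ) * (12 - w 1) =
      12 * (95040 * n) := by exact_mod_cast hfin
  rcases hkw with ⟨hw1, hw2⟩ | ⟨rfl, hw1⟩ | ⟨rfl, hw1⟩ | ⟨rfl, hw1⟩ | ⟨rfl, hw1⟩
  · omega
  all_goals rw [hw1] at hfin'; omega

end

theorem IsLocal.relIndex_eq [Finite G] {p : ℕ} {Q : Sylow p G} {e : ℕ} {K : Subgroup G}
    (hp : 0 < p) (h : IsLocal p Q e K) :
    (centralizer (Q : Set G)).relIndex (normalizer (Q : Set G)) = e := by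
  have h1 := Subgroup.relIndex_mul_relIndex (⊥ : Subgroup G) (centralizer (Q : Set G))
    (normalizer (Q : Set G)) bot_le
    (Cfsg.Agent.SmallSimple.SylowPrimeCount.centralizer_le_normalizer' _)
  rw [Subgroup.relIndex_bot_left, Subgroup.relIndex_bot_left, h.card_normalizer,
    h.card_centralizer] at h1
  have h2 : 0 < Nat.card K := Nat.card_pos
  have h3 : p * Nat.card K * (centralizer (Q : Set G)).relIndex (normalizer (Q : Set G)) =
      p * Nat.card K * e := by rw [h1]; ring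
  exact Nat.eq_of_mul_eq_mul_left (by positivity) h3

/-- **The family of degrees** (end of STEP 4). -/
theorem family [Finite G] [IsSimpleGroup G] (hc : Nat.card G = 95040)
    (h11 : ∀ P : Sylow 11 G, centralizer (P : Set G) = (P : Subgroup G)) (P : Sylow 11 G)
    (hN : Nat.card (normalizer (P : Set G)) = 55) (Q : Sylow 5 G)
    (hB : ∀ e t : ℕ, 0 < t →
      (centralizer (Q : Set G)).relIndex (normalizer (Q : Set G)) = e → e * t = 5 - 1 →
      Nonempty (PBlock G 5 e t (Q : Subgroup G))) :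
    ∃ (B : PBlock G 11 5 2 (P : Subgroup G)) (_ : PBlock G 5 4 1 (Q : Subgroup G))
      (K : Subgroup G) (χ : Fin 4 → IrrCharacter G) (t : G),
      IsLocal 5 Q 4 K ∧ (Nat.card K = 2 ∨ Nat.card K = 12 ∨ Nat.card K = 72) ∧
      Main P B t χ ![-120, -54, 45, 144] ![8, -6, -3, 0] 3 := by
  obtain ⟨B, t, χ, D, w, k, h⟩ := exists_main hc h11 P hN
  obtain ⟨e, K, hloc, ⟨rfl, hK⟩ | ⟨rfl, hK⟩⟩ := SylowFive.cases hc h11 Q
  · obtain ⟨B5⟩ := hB 2 2 (by norm_num) (IsLocal.relIndex_eq (by norm_num) hloc) (by norm_num)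
    exact (h.case_two hc hloc hK B5).elim
  · obtain ⟨B5⟩ := hB 4 1 (by norm_num) (IsLocal.relIndex_eq (by norm_num) hloc) (by norm_num)
    obtain ⟨hk, h0, h1, h2, h3, h4, h5, h6, h7⟩ := h.case_four hc hloc hK B5
    refine ⟨B, B5, K, χ, t, hloc, hK, ?_⟩
    have hD : D = ![-120, -54, 45, 144] := by
      funext i; fin_cases i
      · exact h0
      · exact h2
      · exact h4
      · exact h6
    have hw : w = ![8, -6, -3, 0] := by
      funext i; fin_cases i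
      · exact h1
      · exact h3
      · exact h5
      · exact h7
    rw [← hD, ← hw, ← hk]
    exact h

end Cfsg.Agent.MTwelve.Assembly5
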