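import Cfsg.Agent.MTwelve.FixedSpace
import Cfsg.Agent.MTwelve.SylowFive
import Cfsg.Agent.SmallSimple.PrimeSylowAut
import Cfsg.Agent.Blocks.AvgIntegral
import Cfsg.Agent.PermutationGroups.Subdegree
import Cfsg.Agent.Characters.GaloisBasic

/-!
# Local analysis at the prime five in a simple group of order 95040

* `exists_conj_of_relIndex`: if `|N(P) : C(P)| = p - 1` then `N(P)` is transitive on the
  nonidentity elements of `P`, `|P| = p`;
* `dvd_sub_of_coset`: congruences of character values at commuting elements.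
-/

set_option autoImplicit false

open scoped ComplexConjugate
open Cfsg

namespace Cfsg.Agent.MTwelve.FiveLocal

open Subgroup
open Cfsg.Agent.Characters
open Cfsg.Agent.MTwelve.BlockData
open Cfsg.Agent.SmallSimple
open Cfsg.Agent.SmallSimple.PrimeLocal

universe u

variable {G : Type u} [Group G]

/-- If `|N(P) : C(P)| = p - 1` then `N(P)` is transitive on the nonidentity elements of the
subgroup `P` of order `p`. -/
theorem exists_conj_of_relIndex [Finite G] {p : ℕ} (hp : p.Prime) (P : Subgroup G)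
    (hP : Nat.card P = p)
    (he : (centralizer (P : Set G)).relIndex (normalizer (P : Set G)) = p - 1) {y z : G}
    (hy : y ∈ P) (hy1 : y ≠ 1) (hz : z ∈ P) (hz1 : z ≠ 1) :
    ∃ n ∈ normalizer (P : Set G), n * y * n⁻¹ = z := by
  classical
  let N := normalizer (P : Set G)
  let C := (centralizer (P : Set G)).subgroupOf N
  have hmem : ∀ n : N, (n : G) * y * (n : G)⁻¹ ∈ P := fun n =>
    (mem_normalizer_iff.1 n.2 y).1 hy
  have hne : ∀ n : N, (n : G) * y * (n : G)⁻¹ ≠ 1 := by
    intro n h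
    apply hy1
    rw [mul_inv_eq_one] at h
    exact mul_eq_left.1 h
  have hiff : ∀ n m : N, (n : G) * y * (n : G)⁻¹ = (m : G) * y * (m : G)⁻¹ ↔ n⁻¹ * m ∈ C := by
    intro n m
    rw [mem_subgroupOf]
    constructor
    · intro h
      refine PrimeSylowAut.mem_centralizer_of_commute hp hP hy hy1 ?_
      have h2 : (m : G) * y = (n : G) * y * (n : G)⁻¹ * m := by
        rw [h]
        group
      rw [coe_mul, coe_inv, mul_assoc, h2]
      group
    · intro h
      have h2 := mem_centralizer_iff.1 h y hy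
      rw [coe_mul, coe_inv] at h2
      have h3 : (n : G) * y * (n : G)⁻¹ * m = m * y := by
        calc (n : G) * y * (n : G)⁻¹ * m = n * (y * ((n : G)⁻¹ * m)) := by group
          _ = n * ((n : G)⁻¹ * m * y) := by rw [h2]
          _ = m * y := by group
      rw [← h3]
      group
  let f : N ⧸ C → {w : P // w ≠ 1} := Quotient.lift
    (fun n : N => (⟨⟨(n : G) * y * (n : G)⁻¹, hmem n⟩, fun h => hne n (congrArg Subtype.val h)⟩ :
      {w : P // w ≠ 1})) (by
    intro n m h
    have h1 : n⁻¹ * m ∈ C := QuotientGroup.leftRel_apply.1 h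
    exact Subtype.ext (Subtype.ext ((hiff n m).2 h1)))
  have hf : Function.Injective f := by
    intro a b
    refine Quotient.inductionOn₂ a b fun n m h => ?_
    apply Quotient.sound
    have h1 : (n : G) * y * (n : G)⁻¹ = (m : G) * y * (m : G)⁻¹ :=
      congrArg (fun w : {w : P // w ≠ 1} => ((w : P) : G)) h
    exact QuotientGroup.leftRel_apply.2 ((hiff n m).1 h1)
  have hcard1 : Nat.card (N ⧸ C) = p - 1 := he
  have hcard2 : Nat.card {w : P // w ≠ 1} = p - 1 := by
    have := Fintype.ofFinite P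
    rw [Nat.card_eq_fintype_card, Fintype.card_subtype_compl, Fintype.card_subtype_eq,
      ← Nat.card_eq_fintype_card, hP]
  have hsurj : Function.Surjective f :=
    (hf.bijective_of_nat_card_le (by rw [hcard1, hcard2])).2
  obtain ⟨a, ha⟩ := hsurj ⟨⟨z, hz⟩, fun h => hz1 (congrArg Subtype.val h)⟩
  revert ha
  refine Quotient.inductionOn a fun n ha => ?_
  exact ⟨n, n.2, congrArg (fun w : {w : P // w ≠ 1} => ((w : P) : G)) ha⟩

/-- If the character `χ` takes the integer value `a` at all `g * q`, `1 ≠ q ∈ Q`, where `g`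
commutes with the subgroup `Q`, and `χ g = b`, then `a ≡ b` modulo `|Q|`. -/
theorem dvd_sub_of_coset [Finite G] {χ : G → ℂ} (hχ : IsCharacter G χ) (Q : Subgroup G) [Fintype Q] {g : G}
    (hcomm : ∀ q ∈ Q, g * q = q * g) {a b : ℤ} (hb : χ g = b)
    (ha : ∀ q ∈ Q, q ≠ 1 → χ (g * q) = a) : (Nat.card Q : ℤ) ∣ b - a := by
  classical
  have h1 := Cfsg.Agent.Blocks.AvgIntegral.isIntegral_avg hχ Q g hcomm
  have hQ0 : (Nat.card Q : ℂ) ≠ 0 := Core.card_ne_zero_complex
  have h2 : ∑ q : Q, χ (g * q) = ((b - a + Nat.card Q * a : ℤ) : ℂ) := by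
    rw [← Finset.add_sum_erase Finset.univ (fun q : Q => χ (g * q)) (Finset.mem_univ (1 : Q)),
      Subgroup.coe_one, mul_one, hb]
    have h3 : ∑ q ∈ Finset.univ.erase (1 : Q), χ (g * q) =
        ∑ q ∈ Finset.univ.erase (1 : Q), (a : ℂ) := by
      refine Finset.sum_congr rfl fun q hq => ha q q.2 ?_
      intro h
      exact (Finset.mem_erase.1 hq).1 (Subtype.ext h)
    rw [h3, Finset.sum_const, Finset.card_erase_of_mem (Finset.mem_univ _), Finset.card_univ,
      ← Nat.card_eq_fintype_card, nsmul_eq_mul, Nat.cast_sub Nat.card_pos]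
    push_cast
    ring
  have h3 : (Nat.card Q : ℤ) ∣ b - a + Nat.card Q * a := by
    refine Cfsg.Agent.PermutationGroups.Subdegree.dvd_of_isIntegral
      (z := (Nat.card Q : ℂ)⁻¹ * ∑ q : Q, χ (g * q)) ?_ h1
    rw [h2, ← mul_assoc, mul_inv_cancel₀ hQ0, one_mul]
  exact (Int.dvd_add_left (dvd_mul_right _ _)).1 h3

theorem relIndex_eq [Finite G] {p e : ℕ} {P : Sylow p G} {K : Subgroup G}
    (h : IsLocal p P e K) (hp : 0 < p) :
    (centralizer (P : Set G)).relIndex (normalizer (P : Set G)) = e := by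
  have h1 := BurnsideNC.card_normalizer_eq (P : Subgroup G)
  have h2 := h.card_normalizer
  have h3 := h.card_centralizer
  have hK : 0 < Nat.card K := Nat.card_pos
  have h4 : Nat.card (normalizer ((P : Subgroup G) : Set G)) = p * e * Nat.card K := h2
  have h5 : Nat.card (centralizer ((P : Subgroup G) : Set G)) = p * Nat.card K := h3
  rw [h4, h5] at h1
  have h6 : (p * Nat.card K) * e =
      (p * Nat.card K) * (centralizer ((P : Subgroup G) : Set G)).relIndex
        (normalizer ((P : Subgroup G) : Set G)) := by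
    rw [← h1]
    ring
  exact (Nat.eq_of_mul_eq_mul_left (Nat.mul_pos hp hK) h6).symm

/-- Values of characters at an element of a Sylow `5`-subgroup with `e = 4`. -/
theorem exists_int_apply [Finite G] {P : Subgroup G} (hP : Nat.card P = 5)
    (hconj : ∀ y ∈ P, y ≠ 1 → ∀ z ∈ P, z ≠ 1 → IsConj y z) {χ : G → ℂ} (hχ : IsCharacter G χ)
    {y : G} (hy : y ∈ P) (hy1 : y ≠ 1) {n : ℤ} (hn : χ 1 = n) (hc : 5 ∣ Nat.card G) :
    ∃ v : ℤ, χ y = v ∧ (5 : ℤ) ∣ n - v ∧ ∀ z ∈ P, z ≠ 1 → χ z = v := by
  have hcls : ∀ g h, IsConj g h → χ g = χ h := by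
    intro g h hgh
    obtain ⟨c, rfl⟩ := isConj_iff.1 hgh
    exact (Core.isCharacter_isClassFunction hχ g c).symm
  have hp5 : Nat.Prime 5 := by norm_num
  have hfact : Fact (Nat.card P).Prime := ⟨by rw [hP]; exact hp5⟩
  have h1 : ∃ q : ℚ, χ y = q := by
    rw [GaloisBasic.exists_rat_iff hχ]
    intro m hm
    have hm5 : ¬ 5 ∣ m := by
      intro h
      have := Nat.dvd_gcd h hc
      rw [hm.gcd_eq_one] at this
      omega
    refine (hcls _ _ (hconj y hy hy1 (y ^ m) (P.pow_mem hy m) ?_)).symm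
    intro h
    have h2 : orderOf y ∣ m := orderOf_dvd_of_pow_eq_one h
    have h3 : orderOf y ∣ 5 := by
      rw [← hP, ← Subgroup.orderOf_mk y hy]
      exact orderOf_dvd_natCard _
    rcases (Nat.dvd_prime hp5).1 h3 with h4 | h4
    · exact hy1 (orderOf_eq_one_iff.1 h4)
    · rw [h4] at h2
      exact hm5 h2
  obtain ⟨v, hv⟩ := GaloisBasic.exists_int_of_rat hχ y h1
  have hall : ∀ z ∈ P, z ≠ 1 → χ z = v := fun z hz hz1 => by
    rw [← hcls y z (hconj y hy hy1 z hz hz1), hv]
  refine ⟨v, hv, ?_, hall⟩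
  have h5 := dvd_sub_of_const hχ P hP (by norm_num) hn hall
  exact_mod_cast h5

/-- If `e = 4`, the Sylow `5`-subgroup normalises a self-centralising Sylow `11`-subgroup and
there is a character of degree `54` with value `-1` on elements of order `11`, then no element of
order three commutes with the Sylow `5`-subgroup. -/
theorem not_three_dvd [Finite G] (hc : Nat.card G = 95040) (R : Subgroup G)
    (hR : Nat.card R = 11) (hRC : centralizer (R : Set G) = R) (P : Sylow 5 G)
    (hPR : (P : Subgroup G) ≤ normalizer (R : Set G)) {K : Subgroup G} (h : IsLocal 5 P 4 K)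
    {χ : G → ℂ} (hχ : IsIrrCharacter G χ) (h54 : χ 1 = 54) (hval : ∀ x ∈ R, x ≠ 1 → χ x = -1) :
    ¬ 3 ∣ Nat.card K := by
  classical
  intro h3
  have hp5 : Nat.Prime 5 := by norm_num
  have hfact5 : Fact (Nat.Prime 5) := ⟨hp5⟩
  have hfact3 : Fact (Nat.Prime 3) := ⟨by norm_num⟩
  obtain ⟨u, hu⟩ := exists_prime_orderOf_dvd_card' 3 h3
  have hu' : orderOf (u : G) = 3 := by rw [Subgroup.orderOf_coe, hu]
  have hPc : Nat.card (P : Subgroup G) = 5 :=
    card_of_not_sq_dvd (by rw [hc]; norm_num) (by rw [hc]; norm_num) P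
  obtain ⟨y, hy⟩ := exists_prime_orderOf_dvd_card' (G := (P : Subgroup G)) 5 (by rw [hPc])
  have hy' : orderOf (y : G) = 5 := by rw [Subgroup.orderOf_coe, hy]
  have hy1 : (y : G) ≠ 1 := by
    intro h
    rw [h, orderOf_one] at hy'
    omega
  have hconj : ∀ a ∈ (P : Subgroup G), a ≠ 1 → ∀ b ∈ (P : Subgroup G), b ≠ 1 → IsConj a b := by
    intro a ha ha1 b hb hb1
    obtain ⟨n, -, hn⟩ := exists_conj_of_relIndex hp5 (P : Subgroup G) hPc
      (relIndex_eq h (by norm_num)) ha ha1 hb hb1
    exact isConj_iff.2 ⟨n, hn⟩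
  obtain ⟨v, hv, hv5, -⟩ := exists_int_apply hPc hconj (Core.isIrr_isCharacter hχ) y.2 hy1
    (n := 54) (by rw [h54]; norm_num) (by rw [hc]; norm_num)
  -- the bound from the Sylow `11`-subgroup
  have hyC : (y : G) ∉ centralizer (R : Set G) := by
    intro hmem
    rw [hRC] at hmem
    have h1 : orderOf (y : G) ∣ 11 := by
      rw [← hR, ← Subgroup.orderOf_mk (y : G) hmem]
      exact orderOf_dvd_natCard _
    rw [hy'] at h1
    norm_num at h1
  have hbound : ‖χ y‖ ≤ (4 : ℕ) := by
    refine FixedSpace.norm_apply_le_of_const (Core.isIrr_isCharacter hχ) R (by rw [hR]; norm_num)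
      (hPR y.2) hyC (n := 54) (k := -1) (by rw [h54]; norm_num) ?_ (by rw [hR]; norm_num)
    intro x hx hx1
    rw [hval x hx hx1]
    norm_num
  have hv4 : |v| ≤ 4 := by
    rw [hv, Complex.norm_intCast] at hbound
    exact_mod_cast hbound
  -- divisibility by three
  have huy : ∀ q ∈ zpowers (u : G), (y : G) * q = q * y := by
    intro q hq
    obtain ⟨k, rfl⟩ := mem_zpowers_iff.1 hq
    have h1 : Commute (u : G) (y : G) := h.comm _ u.2 _ y.2
    exact (h1.zpow_left k).eq.symm
  have := Fintype.ofFinite (zpowers (u : G))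
  have hdvd : (Nat.card (zpowers (u : G)) : ℤ) ∣ v - 0 := by
    refine dvd_sub_of_coset (Core.isIrr_isCharacter hχ) (zpowers (u : G)) huy hv ?_
    intro q hq hq1
    rw [Int.cast_zero]
    obtain ⟨n, ρ, hρ, rfl⟩ := hχ
    have hqo : orderOf q = 3 := by
      have h1 : orderOf q ∣ 3 := by
        have := orderOf_dvd_natCard (⟨q, hq⟩ : zpowers (u : G))
        rwa [Subgroup.orderOf_mk, Nat.card_zpowers, hu'] at this
      rcases (Nat.dvd_prime (by norm_num)).1 h1 with h2 | h2
      · exact absurd (orderOf_eq_one_iff.1 h2) hq1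
      · exact h2
    have hord : 3 ∣ orderOf ((y : G) * q) := by
      rw [(show Commute (y : G) q from huy q hq).orderOf_mul_eq_mul_orderOf_of_coprime
        (by rw [hy', hqo]; norm_num), hqo]
      exact dvd_mul_left _ _
    have hfin : Fintype G := Fintype.ofFinite G
    have h2 := DefectZero.character_inv_eq_zero ρ hρ 3 3 (by norm_num) (by rw [hc]; norm_num)
      (by rw [hc]; norm_num) (by
        rw [Representation.char_one] at h54
        have : Module.finrank ℂ (Fin n → ℂ) = 54 := by exact_mod_cast h54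
        rw [this]
        norm_num) ((y : G) * q)⁻¹ (by rw [orderOf_inv]; exact hord)
    rwa [inv_inv] at h2
  rw [Nat.card_zpowers, hu', sub_zero] at hdvd
  rw [abs_le] at hv4
  obtain ⟨a, ha⟩ := hdvd
  obtain ⟨b, hb⟩ := hv5
  push_cast at ha
  omega

/-- The elements `y` of order five and `t` of order two with `C(y) = C(y t) = ⟨y⟩ × ⟨t⟩`. -/
structure YT (P : Subgroup G) (y t : G) : Prop where
  y_mem : y ∈ P
  y_ord : orderOf y = 5
  t_ord : orderOf t = 2
  comm : y * t = t * y
  t_mem : t ∈ centralizer (P : Set G)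
  card_cy : Nat.card (centralizer ({y} : Set G)) = 10
  card_cyt : Nat.card (centralizer ({y * t} : Set G)) = 10
  exists_conj : ∀ m : ℕ, ¬ 5 ∣ m → ∃ n : G, n * y * n⁻¹ = y ^ m ∧ n * t * n⁻¹ = t

theorem exists_yt [Finite G] (P : Sylow 5 G) (hPc : Nat.card (P : Subgroup G) = 5)
    {K : Subgroup G} (h : IsLocal 5 P 4 K) (hK : Nat.card K = 2) {y : G}
    (hy : y ∈ (P : Subgroup G)) (hy1 : y ≠ 1) : ∃ t : G, YT (P : Subgroup G) y t := by
  have hp5 : Nat.Prime 5 := by norm_num
  have hfact2 : Fact (Nat.Prime 2) := ⟨by norm_num⟩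
  obtain ⟨t, ht⟩ := exists_prime_orderOf_dvd_card' (G := K) 2 (by rw [hK])
  have ht' : orderOf (t : G) = 2 := by rw [Subgroup.orderOf_coe, ht]
  have ht1 : (t : G) ≠ 1 := by
    intro h
    rw [h, orderOf_one] at ht'
    omega
  have htt : ∀ s ∈ K, s ≠ 1 → s = t := by
    intro s hs hs1
    have h1 : Nat.card (zpowers (t : G)) = Nat.card K := by rw [Nat.card_zpowers, ht', hK]
    have h2 : zpowers (t : G) = K :=
      Subgroup.eq_of_le_of_card_ge (by rw [zpowers_le]; exact t.2) h1.symm.le
    rw [← h2] at hs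
    obtain ⟨k, rfl⟩ := mem_zpowers_iff.1 hs
    have h3 : (t : G) ^ 2 = 1 := by rw [← ht', pow_orderOf_eq_one]
    rcases Int.even_or_odd' k with ⟨j, rfl | rfl⟩
    · exfalso
      apply hs1
      rw [zpow_mul]
      have : (t : G) ^ (2 : ℤ) = 1 := by exact_mod_cast h3
      rw [this, one_zpow]
    · rw [zpow_add, zpow_mul, zpow_one]
      have : (t : G) ^ (2 : ℤ) = 1 := by exact_mod_cast h3
      rw [this, one_zpow, one_mul]
  have hyo : orderOf y = 5 := by
    have h3 : orderOf y ∣ 5 := by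
      rw [← hPc, ← Subgroup.orderOf_mk y hy]
      exact orderOf_dvd_natCard _
    rcases (Nat.dvd_prime hp5).1 h3 with h4 | h4
    · exact absurd (orderOf_eq_one_iff.1 h4) hy1
    · exact h4
  have hcomm : y * t = t * y := (h.comm _ t.2 _ hy).symm
  have hnt : ∀ n ∈ normalizer ((P : Subgroup G) : Set G), n * (t : G) * n⁻¹ = t := by
    intro n hn
    have h1 : n * (t : G) * n⁻¹ ∈ K :=
      (mem_normalizer_iff.1 (h.normalizer_le hn) (t : G)).1 t.2
    refine htt _ h1 ?_
    intro h2
    apply ht1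
    rw [mul_inv_eq_one] at h2
    exact mul_eq_left.1 h2
  have hCP : centralizer ({y} : Set G) = centralizer ((P : Subgroup G) : Set G) := by
    apply le_antisymm
    · intro c hc
      rw [mem_centralizer_singleton_iff] at hc
      exact PrimeSylowAut.mem_centralizer_of_commute hp5 hPc hy hy1 hc
    · exact centralizer_le (Set.singleton_subset_iff.2 hy)
  have hcard : Nat.card (centralizer ({y} : Set G)) = 10 := by
    rw [hCP]
    have := h.card_centralizer
    rw [hK] at this
    exact this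
  have hcyt : centralizer ({y * (t : G)} : Set G) = centralizer ({y} : Set G) := by
    have ht2 : (t : G) ^ 2 = 1 := by rw [← ht', pow_orderOf_eq_one]
    have hy5 : y ^ 5 = 1 := by rw [← hyo, pow_orderOf_eq_one]
    apply le_antisymm
    · intro c hc
      rw [mem_centralizer_singleton_iff] at hc ⊢
      have h1 : Commute c (y * (t : G)) := hc
      have h2 : (y * (t : G)) ^ 6 = y := by
        rw [(show Commute y (t : G) from hcomm).mul_pow]
        have h3 : y ^ 6 = y := by
          rw [pow_succ, hy5, one_mul]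
        have h4 : (t : G) ^ 6 = 1 := by
          rw [show 6 = 2 * 3 by norm_num, pow_mul, ht2, one_pow]
        rw [h3, h4, mul_one]
      have h5 := h1.pow_right 6
      rw [h2] at h5
      exact h5
    · intro c hc
      have hcN : c ∈ normalizer ((P : Subgroup G) : Set G) :=
        BurnsideNC.centralizer_le_normalizer _ (by rw [← hCP]; exact hc)
      rw [mem_centralizer_singleton_iff] at hc ⊢
      have h1 : c * (t : G) = t * c := by
        have h2 := hnt c hcN
        rw [mul_inv_eq_iff_eq_mul] at h2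
        exact h2
      rw [← mul_assoc, hc, mul_assoc, h1, mul_assoc]
  refine ⟨t, hy, hyo, ht', hcomm, h.le_centralizer t.2, hcard, by rw [hcyt, hcard], ?_⟩
  intro m hm
  obtain ⟨n, hnN, hn⟩ := exists_conj_of_relIndex hp5 (P : Subgroup G) hPc
    (relIndex_eq h (by norm_num)) hy hy1 (z := y ^ m) (pow_mem hy m) (by
      intro h1
      have h2 : orderOf y ∣ m := orderOf_dvd_of_pow_eq_one h1
      rw [hyo] at h2
      exact hm h2)
  exact ⟨n, hn, hnt n hnN⟩

namespace YT

variable {P : Subgroup G} {y t : G}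

/-- The integer values of a character at `y` and `y t`, and their congruences. -/
theorem exists_int [Finite G] (h : YT P y t) {χ : G → ℂ} (hχ : IsCharacter G χ) {n s : ℤ}
    (hn : χ 1 = n) (hs : χ t = s) :
    ∃ v w : ℤ, χ y = v ∧ χ (y * t) = w ∧ (5 : ℤ) ∣ n - v ∧ (5 : ℤ) ∣ s - w := by
  classical
  have hcls : ∀ g h, IsConj g h → χ g = χ h := by
    intro g h hgh
    obtain ⟨c, rfl⟩ := isConj_iff.1 hgh
    exact (Core.isCharacter_isClassFunction hχ g c).symm
  have hty : orderOf t ∣ Nat.card G := orderOf_dvd_natCard t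
  have hyd : orderOf y ∣ Nat.card G := orderOf_dvd_natCard y
  rw [h.t_ord] at hty
  rw [h.y_ord] at hyd
  have hcop : ∀ m : ℕ, m.Coprime (Nat.card G) → ¬ 5 ∣ m ∧ m % 2 = 1 := by
    intro m hm
    constructor
    · intro h5
      have := Nat.dvd_gcd h5 hyd
      rw [hm.gcd_eq_one] at this
      omega
    · by_contra h2
      have h2' : 2 ∣ m := by omega
      have := Nat.dvd_gcd h2' hty
      rw [hm.gcd_eq_one] at this
      omega
  have htp : ∀ m : ℕ, m % 2 = 1 → t ^ m = t := by
    intro m hm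
    have : m = 2 * (m / 2) + 1 := by omega
    have ht2 : t ^ 2 = 1 := by rw [← h.t_ord, pow_orderOf_eq_one]
    rw [this, pow_add, pow_mul, ht2, one_pow, one_mul, pow_one]
  have hypow : ∀ m : ℕ, ¬ 5 ∣ m → χ (y ^ m) = χ y := by
    intro m hm
    obtain ⟨c, hc, -⟩ := h.exists_conj m hm
    exact (hcls _ _ (isConj_iff.2 ⟨c, hc⟩)).symm
  have hytpow : ∀ m : ℕ, ¬ 5 ∣ m → χ (t * y ^ m) = χ (y * t) := by
    intro m hm
    obtain ⟨c, hc, hct⟩ := h.exists_conj m hm
    refine (hcls _ _ (isConj_iff.2 ⟨c, ?_⟩)).symm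
    have h1 : c * (y * t) * c⁻¹ = (c * y * c⁻¹) * (c * t * c⁻¹) := by group
    rw [h1, hc, hct]
    exact ((show Commute y t from h.comm).pow_left m).eq
  have h1 : ∃ q : ℚ, χ y = q := by
    rw [GaloisBasic.exists_rat_iff hχ]
    exact fun m hm => hypow m (hcop m hm).1
  have h2 : ∃ q : ℚ, χ (y * t) = q := by
    rw [GaloisBasic.exists_rat_iff hχ]
    intro m hm
    rw [(show Commute y t from h.comm).mul_pow, htp m (hcop m hm).2,
      ((show Commute y t from h.comm).pow_left m).eq]
    exact hytpow m (hcop m hm).1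
  obtain ⟨v, hv⟩ := GaloisBasic.exists_int_of_rat hχ y h1
  obtain ⟨w, hw⟩ := GaloisBasic.exists_int_of_rat hχ (y * t) h2
  have := Fintype.ofFinite (zpowers y)
  have hmem : ∀ q ∈ zpowers y, q ≠ 1 → ∃ m : ℕ, ¬ 5 ∣ m ∧ y ^ m = q := by
    intro q hq hq1
    obtain ⟨m, rfl⟩ := (mem_powers_iff_mem_zpowers).2 hq
    refine ⟨m, ?_, rfl⟩
    rintro ⟨k, rfl⟩
    apply hq1
    change y ^ (5 * k) = 1
    rw [pow_mul, ← h.y_ord, pow_orderOf_eq_one, one_pow]
  have hcy : (Nat.card (zpowers y) : ℤ) = 5 := by rw [Nat.card_zpowers, h.y_ord]; rfl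
  refine ⟨v, w, hv, hw, ?_, ?_⟩
  · have h3 := dvd_sub_of_coset hχ (zpowers y) (g := 1) (by intro q _; rw [mul_one, one_mul]) hn
      (a := v) (by
        intro q hq hq1
        obtain ⟨m, hm, rfl⟩ := hmem q hq hq1
        rw [one_mul, hypow m hm, hv])
    rwa [hcy] at h3
  · have h3 := dvd_sub_of_coset hχ (zpowers y) (g := t) (by
        intro q hq
        obtain ⟨k, rfl⟩ := mem_zpowers_iff.1 hq
        exact ((show Commute y t from h.comm).zpow_left k).eq.symm) hs (a := w) (by
        intro q hq hq1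
        obtain ⟨m, hm, rfl⟩ := hmem q hq hq1
        rw [hytpow m hm, hw])
    rwa [hcy] at h3

end YT

end Cfsg.Agent.MTwelve.FiveLocal
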