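/-
STEP 6 + STEP 7 of the uniqueness of `M₁₂`: from a real irreducible character of degree `11` to a
subgroup of index `12`.
-/
import Mathlib
import Cfsg.Agent.MTwelve.SymSquare
import Cfsg.Agent.SporadicA.NortonTrick

set_option autoImplicit false

open scoped ComplexConjugate
open Cfsg Subgroup

namespace Cfsg.Agent.MTwelve.IndexTwelve

open Characters.Core MTwelve.SymSquare

universe u

theorem sum_normalizer_eq {G : Type u} [Group G] [Fintype G] {P N : Subgroup G} [Fintype P]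
    [Fintype N] (hPN : P ≤ N) (hP : Nat.card P = 11) (hN : Nat.card N = 55) (F : G → ℂ) (c : ℂ)
    (h0 : ∀ x ∈ P, x ≠ 1 → F x = 0) (hc : ∀ g ∈ N, g ∉ P → F g = c) :
    ∑ x : N, F x = F 1 + 44 * c := by
  classical
  have hsumP : ∑ x : P, F x = F 1 := by
    rw [Finset.sum_eq_single 1]
    · rfl
    · intro x _ hx
      exact h0 x x.2 (fun h => hx (Subtype.ext h))
    · intro h
      exact absurd (Finset.mem_univ _) h
  rw [← hsumP, sum_subgroup_eq, sum_subgroup_eq]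
  have hsub : Finset.univ.filter (fun g : G => g ∈ P) ⊆ Finset.univ.filter (fun g : G => g ∈ N) := by
    intro g hg
    simp only [Finset.mem_filter, Finset.mem_univ, true_and] at hg ⊢
    exact hPN hg
  rw [← Finset.sum_sdiff hsub, add_comm]
  congr 1
  have hcard : ((Finset.univ.filter (fun g : G => g ∈ N)) \
      (Finset.univ.filter (fun g : G => g ∈ P))).card = 44 := by
    rw [Finset.card_sdiff_of_subset hsub, ← Fintype.card_subtype, ← Fintype.card_subtype]
    have h1 : Fintype.card {x // x ∈ N} = 55 := by rw [← Nat.card_eq_fintype_card]; exact hN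
    have h2 : Fintype.card {x // x ∈ P} = 11 := by rw [← Nat.card_eq_fintype_card]; exact hP
    rw [h1, h2]
  rw [Finset.sum_congr rfl (g := fun _ => c), Finset.sum_const, hcard, nsmul_eq_mul]
  · norm_num
  · intro g hg
    simp only [Finset.mem_sdiff, Finset.mem_filter, Finset.mem_univ, true_and] at hg
    exact hc g hg.1 hg.2

/-- **STEP 6 + STEP 7.** -/
theorem exists_index_twelve {G : Type u} [Group G] [Fintype G] (P : Sylow 11 G)
    (hP : Nat.card P = 11) (hC : centralizer ((P : Subgroup G) : Set G) = P)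
    (hN : Nat.card (normalizer ((P : Subgroup G) : Set G)) = 55)
    (h5 : ∀ y z : G, orderOf y = 5 → orderOf z = 5 → IsConj y z)
    (NE X : Finset (IrrCharacter G)) (ε : IrrCharacter G → ℤ) (d : ℤ)
    (S : IrrCharacter G → Finset (P →* ℂˣ))
    (hNE : ∀ ψ ∈ NE, ∀ x ∈ P, x ≠ 1 → (ψ : G → ℂ) x = ε ψ)
    (hNEdeg : ∀ ψ ∈ NE, (ψ : G → ℂ) = 1 ∨ (charDegree (ψ : G → ℂ) = 45 ∧ ε ψ = 1) ∨
      (charDegree (ψ : G → ℂ) = 54 ∧ ε ψ = -1) ∨ 66 < charDegree (ψ : G → ℂ))
    (hX : X.card = 2) (hXdeg : ∀ Θ ∈ X, charDegree (Θ : G → ℂ) = 16) (hd : d = 1 ∨ d = -1)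
    (hXval : ∀ Θ ∈ X, (S Θ).card = 5 ∧ 1 ∉ S Θ ∧
      ∀ x : P, x ≠ 1 → (Θ : G → ℂ) x = d * ∑ l ∈ S Θ, (l x : ℂ))
    (hXdisj : ∀ Θ ∈ X, ∀ Θ' ∈ X, Θ ≠ Θ' → Disjoint (S Θ) (S Θ'))
    (hoth : ∀ ψ : IrrCharacter G, ψ ∉ NE → ψ ∉ X →
      (∀ x ∈ P, x ≠ 1 → (ψ : G → ℂ) x = 0) ∧ 11 ∣ charDegree (ψ : G → ℂ))
    (hex : ∃ χ : G → ℂ, IsIrrCharacter G χ ∧ (∀ g, conj (χ g) = χ g) ∧ χ 1 = 11) :
    ∃ H : Subgroup G, normalizer ((P : Subgroup G) : Set G) ≤ H ∧ H.index = 12 := by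
  classical
  have : Fintype P := Fintype.ofFinite _
  have : Fintype (P : Subgroup G) := Fintype.ofFinite _
  set N := normalizer ((P : Subgroup G) : Set G) with hNdef
  have hPN : (P : Subgroup G) ≤ N := Subgroup.le_normalizer
  obtain ⟨y, hyN, hyP⟩ : ∃ y : G, y ∈ N ∧ y ∉ P := by
    by_contra h
    push Not at h
    have h1 : N ≤ (P : Subgroup G) := h
    have h2 := Subgroup.card_dvd_of_le h1
    rw [hN, hP] at h2
    omega
  have h5N : ∀ g ∈ N, g ∉ P → orderOf g = 5 := fun g hg hgP => orderOf_eq_five P hP hC hN hg hgP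
  -- vanishing on `P`
  have hvan : ∀ χ : G → ℂ, IsIrrCharacter G χ → χ 1 = 11 → ∀ x ∈ P, x ≠ 1 → χ x = 0 := by
    intro χ hχ hdeg
    have hχdeg : charDegree χ = 11 := by
      have h := apply_one_eq hχ
      rw [hdeg] at h
      exact_mod_cast h.symm
    have hχNE : (⟨χ, hχ⟩ : IrrCharacter G) ∉ NE := by
      intro h
      rcases hNEdeg _ h with h1 | h1 | h1 | h1
      · have : χ 1 = 1 := congrFun h1 1
        rw [hdeg] at this
        norm_num at this
      · have := h1.1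
        simp only [hχdeg] at this
        omega
      · have := h1.1
        simp only [hχdeg] at this
        omega
      · simp only [hχdeg] at h1
        omega
    have hχX : (⟨χ, hχ⟩ : IrrCharacter G) ∉ X := by
      intro h
      have := hXdeg _ h
      simp only [hχdeg] at this
      omega
    exact (hoth _ hχNE hχX).1
  -- values on `N \ P`
  have hval : ∀ χ : G → ℂ, IsIrrCharacter G χ → χ 1 = 11 → ∀ g ∈ N, g ∉ P → χ g = 1 := by
    intro χ hχ hdeg g hg hgP
    have hcl : ∀ h ∈ N, h ∉ (P : Subgroup G) → χ h = χ g := by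
      intro h hh hhP
      obtain ⟨c, hc⟩ := isConj_iff.1 (h5 g h (h5N g hg hgP) (h5N h hh hhP))
      rw [← hc]
      exact isIrr_isClassFunction hχ g c
    have h := apply_eq_of_le_three hPN hP hN (isIrr_isCharacter hχ) g hcl 1 (by
      rw [Finset.sum_eq_single 1]
      · rw [OneMemClass.coe_one, hdeg]; norm_num
      · intro x _ hx
        exact hvan χ hχ hdeg x x.2 (fun h => hx (Subtype.ext h))
      · intro h
        exact absurd (Finset.mem_univ _) h) (by norm_num)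
    rw [h]; norm_num
  have hsq : ∀ g ∈ N, g ∉ P → g * g ∉ P := by
    intro g hg hgP h
    apply hgP
    have h1 : g ^ 5 = 1 := by rw [← h5N g hg hgP]; exact pow_orderOf_eq_one g
    have h3 : g = (g * g) ^ 3 := by
      rw [← sq, ← pow_mul]
      calc g = g ^ 5 * g := by rw [h1, one_mul]
        _ = g ^ (2 * 3) := by rw [← pow_succ]
    rw [h3]
    exact (P : Subgroup G).pow_mem h 3
  have hsqP : ∀ x ∈ P, x ≠ 1 → x * x ∈ P ∧ x * x ≠ 1 := by
    intro x hx hx1
    refine ⟨(P : Subgroup G).mul_mem hx hx, fun h => hx1 ?_⟩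
    have h2 : x ^ 11 = 1 := by
      have h3 : (⟨x, hx⟩ : (P : Subgroup G)) ^ Nat.card P = 1 := pow_card_eq_one'
      rw [hP] at h3
      exact congrArg Subtype.val h3
    have h1 : x ^ 2 = 1 := by rw [sq]; exact h
    calc x = x ^ 11 * (x ^ 2)⁻¹ ^ 5 := by group
      _ = 1 := by rw [h1, h2]; simp
  have : Fintype N := Fintype.ofFinite _
  have key := SporadicA.NortonTrick.exists_subgroup_index (N := N) 11 (by norm_num)
    {χ : G → ℂ | IsIrrCharacter G χ ∧ (∀ g, conj (χ g) = χ g) ∧ χ 1 = 11} hex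
    (fun χ h => h.1) (fun χ h => h.2.1) (fun χ h => by rw [h.2.2]; norm_num) ?_ ?_ ?_
  · exact key
  · rintro χ ⟨hχ, hreal, hdeg⟩
    rw [sum_normalizer_eq hPN hP hN χ 1 (hvan χ hχ hdeg) (hval χ hχ hdeg), hdeg, hN]
    norm_num
  · rintro χ ⟨hχ, hreal, hdeg⟩
    rw [sum_normalizer_eq hPN hP hN (fun m => χ m ^ 2 + χ (m * m)) 2 ?_ ?_]
    · rw [mul_one, hdeg, hN]
      norm_num
    · intro x hx hx1
      rw [hvan χ hχ hdeg x hx hx1, hvan χ hχ hdeg _ (hsqP x hx hx1).1 (hsqP x hx hx1).2]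
      norm_num
    · intro g hg hgP
      rw [hval χ hχ hdeg g hg hgP, hval χ hχ hdeg (g * g) (mul_mem hg hg) (hsq g hg hgP)]
      norm_num
  · rintro χ ⟨hχ, hreal, hdeg⟩
    obtain ⟨ψ, h1, h2, h3, h4, h5'⟩ := exists_real_eleven P hP hC hN h5 NE X ε d S hNE hNEdeg hX hXdeg
      hd hXval hXdisj hoth hχ hreal hdeg
    exact ⟨ψ, ⟨h1, h2, h3⟩, h5'⟩

end Cfsg.Agent.MTwelve.IndexTwelve
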