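import Mathlib
import Cfsg.Agent.MTwelve.Assembly5
import Cfsg.Agent.MTwelve.BlockExists
import Cfsg.Agent.MTwelve.FiveLocal
import Cfsg.Agent.MTwelve.IndexTwelve

/-!
# Assembly for the characterisation of `M₁₂` by its order

`exists_index`: a simple group of order 95040 with self-centralising Sylow 11-subgroups with
normaliser of order 55 and a real irreducible character of degree 11 has a subgroup of index 12.
-/

set_option autoImplicit false
set_option linter.unusedSectionVars false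

namespace Cfsg.Agent.MTwelve.Final

open Cfsg Subgroup Cfsg.Agent.Characters.Core
open scoped ComplexConjugate
open Cfsg.Agent.SmallSimple.PrimeLocal
open Cfsg.Agent.MTwelve Cfsg.Agent.MTwelve.BlockData Cfsg.Agent.MTwelve.Assembly5

universe u
variable {G : Type u} [Group G]

theorem relIndex_eleven [Finite G] (hc : Nat.card G = 95040)
    (h11 : ∀ P : Sylow 11 G, centralizer (P : Set G) = (P : Subgroup G)) (P : Sylow 11 G)
    (hN : Nat.card (normalizer (P : Set G)) = 55) :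
    (centralizer (P : Set G)).relIndex (normalizer (P : Set G)) = 5 := by
  have hP' := card_eleven hc P
  have h1 := Subgroup.relIndex_mul_relIndex (⊥ : Subgroup G) (centralizer (P : Set G))
    (normalizer (P : Set G)) bot_le
    (Cfsg.Agent.SmallSimple.SylowPrimeCount.centralizer_le_normalizer' _)
  rw [Subgroup.relIndex_bot_left, Subgroup.relIndex_bot_left, hN, h11 P] at h1
  rw [hP'] at h1
  rw [h11 P]
  omega

/-- The family, with Brauer's theorem for `p = 5` supplied. -/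
theorem family [Finite G] [IsSimpleGroup G] (hc : Nat.card G = 95040)
    (h11 : ∀ P : Sylow 11 G, centralizer (P : Set G) = (P : Subgroup G)) (P : Sylow 11 G)
    (hN : Nat.card (normalizer (P : Set G)) = 55) (Q : Sylow 5 G) :
    ∃ (B : PBlock G 11 5 2 (P : Subgroup G)) (_ : PBlock G 5 4 1 (Q : Subgroup G))
      (K : Subgroup G) (χ : Fin 4 → IrrCharacter G) (t : G),
      IsLocal 5 Q 4 K ∧ (Nat.card K = 2 ∨ Nat.card K = 12 ∨ Nat.card K = 72) ∧
      Main P B t χ ![-120, -54, 45, 144] ![8, -6, -3, 0] 3 := by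
  have : Fact (Nat.Prime 5) := ⟨by norm_num⟩
  exact Assembly5.family hc h11 P hN Q fun e t _ he ht =>
    BlockExists.exists_pBlock (by norm_num) Q (card_five hc Q) he ht

/-- All elements of order five are conjugate. -/
theorem isConj_five [Finite G] (hc : Nat.card G = 95040) {Q : Sylow 5 G} {K : Subgroup G}
    (hQ : IsLocal 5 Q 4 K) (y z : G) (hy : orderOf y = 5) (hz : orderOf z = 5) : IsConj y z := by
  have : Fact (Nat.Prime 5) := ⟨by norm_num⟩
  have hQ5 := card_five hc Q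
  have he := Assembly5.IsLocal.relIndex_eq (by norm_num) hQ
  have key : ∀ y : G, orderOf y = 5 → ∃ g : G, g * y * g⁻¹ ∈ (Q : Subgroup G) := by
    intro y hy
    have hpg : IsPGroup 5 (zpowers y) := IsPGroup.of_card (n := 1)
      (by rw [Nat.card_zpowers, hy, pow_one])
    obtain ⟨R, hR⟩ := hpg.exists_le_sylow
    obtain ⟨g, hg⟩ := MulAction.exists_smul_eq G R Q
    refine ⟨g, ?_⟩
    rw [← hg]
    rw [Sylow.coe_subgroup_smul]
    exact Subgroup.smul_mem_pointwise_smul _ _ _ (hR (mem_zpowers y))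
  obtain ⟨g, hg⟩ := key y hy
  obtain ⟨h, hh⟩ := key z hz
  have hne : ∀ (y g : G), orderOf y = 5 → g * y * g⁻¹ ≠ 1 := by
    intro y g hy h
    rw [conj_eq_one_iff] at h
    rw [h, orderOf_one] at hy
    norm_num at hy
  obtain ⟨n, -, hn⟩ := FiveLocal.exists_conj_of_relIndex (by norm_num) (Q : Subgroup G) hQ5 he
    hg (hne y g hy) hh (hne z h hz)
  have h1 : IsConj y (g * y * g⁻¹) := isConj_iff.2 ⟨g, rfl⟩
  have h2 : IsConj (g * y * g⁻¹) (h * z * h⁻¹) := isConj_iff.2 ⟨n, hn⟩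
  have h3 : IsConj z (h * z * h⁻¹) := isConj_iff.2 ⟨h, rfl⟩
  exact (h1.trans h2).trans h3.symm

/-- A subgroup of index 12. -/
theorem exists_index [Fintype G] [IsSimpleGroup G] (hc : Nat.card G = 95040)
    (h11 : ∀ P : Sylow 11 G, centralizer (P : Set G) = (P : Subgroup G))
    (hN : ∀ P : Sylow 11 G, Nat.card (normalizer (P : Set G)) = 55)
    (hex : ∃ χ : G → ℂ, IsIrrCharacter G χ ∧ (∀ g, conj (χ g) = χ g) ∧ χ 1 = 11) :
    ∃ H : Subgroup G, H.index = 12 := by
  have : Fact (Nat.Prime 11) := ⟨by norm_num⟩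
  have : Fact (Nat.Prime 5) := ⟨by norm_num⟩
  obtain ⟨P⟩ : Nonempty (Sylow 11 G) := inferInstance
  obtain ⟨Q⟩ : Nonempty (Sylow 5 G) := inferInstance
  obtain ⟨B, B5, K, χ, t, hQ, -, hM⟩ := family hc h11 P (hN P) Q
  have hP' := card_eleven hc P
  have he := relIndex_eleven hc h11 P (hN P)
  obtain ⟨NE, X, ε, d, S, h1, h2, h3, h4, h5, h6, h7, h8, h9, h10, h12⟩ :=
    Cfsg.Agent.SmallSimple.TheoremBCor.theoremB_selfCent 11 (by norm_num) P hP' (h11 P) 5 2 he
      (by norm_num)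
  have hdegNE : ∀ ψ ∈ NE, (11 : ℤ) ∣ (deg ψ : ℤ) - ε ψ := fun ψ hψ =>
    dvd_sub_of_const (isIrr_isCharacter ψ.2) (P : Subgroup G) hP' (by norm_num)
      (by rw [apply_one]; norm_cast) fun x hx hx1 => h7 ψ hψ x hx hx1
  have hcd : ∀ ψ : IrrCharacter G, charDegree (ψ : G → ℂ) = deg ψ :=
    ElevenMain.charDegree_eq_deg
  have hD : ∀ i, B.ε (χ i) * (deg (χ i) : ℤ) = ![-120, -54, 45, 144] i := hM.deg
  have hcases : ∀ ψ : IrrCharacter G, ψ ≠ triv G → (deg ψ % 11 = 1 ∨ deg ψ % 11 = 10) →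
      deg ψ = 120 ∨ deg ψ = 54 ∨ deg ψ = 45 ∨ deg ψ = 144 := by
    intro ψ hψ hm
    obtain ⟨i, rfl⟩ := hM.exists_eq hc hψ hm
    have h13 := hD i
    have h14 := B.ε_eq (χ i) ((hM.mem _).2 (Or.inr ⟨i, rfl⟩))
    fin_cases i <;> simp at h13 h14 ⊢ <;> rcases h14 with h14 | h14 <;> rw [h14] at h13 <;> omega
  have hA : ∀ ψ ∈ NE, (ψ : G → ℂ) = 1 ∨ (charDegree (ψ : G → ℂ) = 45 ∧ ε ψ = 1) ∨
      (charDegree (ψ : G → ℂ) = 54 ∧ ε ψ = -1) ∨ 66 < charDegree (ψ : G → ℂ) := by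
    intro ψ hψ
    by_cases htriv : ψ = triv G
    · exact Or.inl (by rw [htriv]; rfl)
    right
    have h13 := hdegNE ψ hψ
    have h14 := h4 ψ hψ
    have h15 := hcases ψ htriv (by
      rcases h14 with h14 | h14 <;> rw [h14] at h13 <;> omega)
    rw [hcd]
    omega
  have hB : ∀ Θ ∈ X, charDegree (Θ : G → ℂ) = 16 := by
    intro Θ hΘ
    obtain ⟨m, hm⟩ := Cfsg.Agent.SmallSimple.TheoremBCor.degree_exc (P := (P : Subgroup G)) hP'
      (isIrr_isCharacter Θ.2) (d := d) (S := S Θ) (h8 Θ hΘ).2.1 (h8 Θ hΘ).2.2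
    rw [(h8 Θ hΘ).1, apply_one] at hm
    have hm' : (deg Θ : ℤ) = d * 5 + 11 * m := by exact_mod_cast hm
    have h13 := hM.theta_deg hc (hM.mem_X hc (ψ := Θ) (by
      rcases h5 with h5 | h5 <;> rw [h5] at hm' <;> omega))
    rw [hcd]
    have h14 : (1 : ℤ) + ![-120, -54, 45, 144] 0 + ![-120, -54, 45, 144] 1 +
      ![-120, -54, 45, 144] 2 + ![-120, -54, 45, 144] 3 = 16 := by
      show (1 : ℤ) + -120 + -54 + 45 + 144 = 16
      norm_num
    rw [h14] at h13
    rcases B.d_eq with h15 | h15 <;> rw [h15] at h13 <;> omega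
  have hC : ∀ ψ : IrrCharacter G, ψ ∉ NE → ψ ∉ X →
      (∀ x ∈ P, x ≠ 1 → (ψ : G → ℂ) x = 0) ∧ 11 ∣ charDegree (ψ : G → ℂ) := h12
  have hH := IndexTwelve.exists_index_twelve P hP' (h11 P) (hN P)
    (isConj_five hc hQ) NE X ε d S h7 hA h3 hB h5 h8 h9 hC hex
  obtain ⟨H, -, hH⟩ := hH
  exact ⟨H, hH⟩

end Cfsg.Agent.MTwelve.Final
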