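import Cfsg.Agent.MTwelve.DegreeEleven
import Cfsg.Agent.MTwelve.Final

/-!
# A real irreducible character of degree eleven in a simple group of order 95040

`exists_real_eleven`: the numerical data of `DegreeEleven.Ctx` exist, hence there is a real
irreducible character of degree eleven.
-/

set_option autoImplicit false
set_option linter.unusedSectionVars false

open scoped ComplexConjugate
open Cfsg

namespace Cfsg.Agent.MTwelve.DegreeElevenMain

open Subgroup
open Cfsg.Agent.Characters
open Cfsg.Agent.SmallSimple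
open Cfsg.Agent.SmallSimple.PrimeLocal
open Cfsg.Agent.MTwelve
open Cfsg.Agent.MTwelve.BlockData
open Cfsg.Agent.MTwelve.FiveBlock
open Cfsg.Agent.MTwelve.FiveLocal
open Cfsg.Agent.MTwelve.DegreeEleven
open Cfsg.Agent.MTwelve.Assembly5

universe u

variable {G : Type u} [Group G]

/-- The exceptional characters of the principal 11-block are not real. -/
theorem exc_im_ne [Finite G] {P : Subgroup G} (B : PBlock G 11 5 2 P)
    (hrest : ∀ χ : IrrCharacter G, χ ∉ B.NE → χ ∉ B.X → ∀ x ∈ P, x ≠ 1 → (χ : G → ℂ) x = 0)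
    {x : G} (hx : x ∈ P) (hx1 : x ≠ 1) (hinv : ¬ IsConj x x⁻¹) {Θ : IrrCharacter G}
    (hΘ : Θ ∈ B.X) : ((Θ : G → ℂ) x).im ≠ 0 := by
  classical
  have := Core.finite_irr (G := G)
  have := Fintype.ofFinite (IrrCharacter G)
  have h1 := (Cfsg.Agent.S0145.result x x⁻¹).2 hinv
  rw [finsum_eq_sum_of_fintype] at h1
  have h2 : ∀ χ : IrrCharacter G, (χ : G → ℂ) x * conj ((χ : G → ℂ) x⁻¹) =
      (χ : G → ℂ) x * (χ : G → ℂ) x := by
    intro χ
    rw [Core.isCharacter_apply_inv (Core.isIrr_isCharacter χ.2), Complex.conj_conj]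
  rw [Finset.sum_congr rfl fun χ _ => h2 χ, ← Finset.sum_subset (Finset.subset_univ (B.NE ∪ B.X))
    (fun χ _ hχ => by
      rw [Finset.mem_union, not_or] at hχ
      rw [hrest χ hχ.1 hχ.2 x hx hx1, mul_zero]), Finset.sum_union B.disjoint] at h1
  have hone : ¬ 11 ∣ orderOf (1 : G) := by rw [orderOf_one]; norm_num
  have h3 : ∑ χ ∈ B.NE, (χ : G → ℂ) x * (χ : G → ℂ) x = 5 := by
    have hNE : ∀ χ ∈ B.NE, (χ : G → ℂ) x * (χ : G → ℂ) x = 1 := by
      intro χ hχ
      have h4 := B.apply_NE χ hχ x hx hx1 1 (one_mem _) hone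
      rw [mul_one] at h4
      rw [h4]
      rcases B.ε_eq χ hχ with h5 | h5 <;> rw [h5] <;> norm_num
    rw [Finset.sum_congr rfl hNE, Finset.sum_const, B.card_NE]
    norm_num
  obtain ⟨a, b, hab, hX⟩ := Finset.card_eq_two.1 B.card_X
  have h4 := B.sum_X x hx hx1 1 (one_mem _) hone
  rw [mul_one, hX, Finset.sum_pair hab] at h4
  rw [h3, hX, Finset.sum_pair hab] at h1
  -- real values are impossible
  have key : ∀ z w : ℂ, z + w = -B.d → 5 + (z * z + w * w) = 0 → z.im ≠ 0 := by
    intro z w hs hq hz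
    have hd : (-(B.d : ℂ)).im = 0 := by simp
    have hw : w.im = 0 := by
      have := congrArg Complex.im hs
      rw [Complex.add_im, hz, hd] at this
      linarith
    have hre := congrArg Complex.re hq
    simp only [Complex.add_re, Complex.mul_re, hz, hw, Complex.zero_re] at hre
    have h5 : (5 : ℂ).re = 5 := by norm_num
    rw [h5] at hre
    nlinarith [mul_self_nonneg z.re, mul_self_nonneg w.re]
  rw [hX, Finset.mem_insert, Finset.mem_singleton] at hΘ
  rcases hΘ with rfl | rfl
  · exact key _ _ h4 h1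
  · exact key _ _ (by rw [add_comm]; exact h4) (by rw [add_comm ((Θ : G → ℂ) x * _)]; exact h1)

/-- A Sylow 5-subgroup normalising a Sylow 11-subgroup. -/
theorem exists_sylow_five [Finite G] (hc : Nat.card G = 95040) (R : Sylow 11 G)
    (hN : Nat.card (normalizer (R : Set G)) = 55) :
    ∃ Q : Sylow 5 G, (Q : Subgroup G) ≤ normalizer (R : Set G) := by
  have : Fact (Nat.Prime 5) := ⟨by norm_num⟩
  obtain ⟨y, hy⟩ := exists_prime_orderOf_dvd_card' (G := normalizer (R : Set G)) 5
    (by rw [hN]; norm_num)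
  obtain ⟨Q, hQ⟩ := PrimeSylowAut.exists_sylow_eq_zpowers (fun P => card_five hc P)
    (v := (y : G)) (by rw [orderOf_coe, hy])
  refine ⟨Q, ?_⟩
  rw [hQ, zpowers_le]
  exact y.2

open scoped Classical in
/-- The number of square roots of one. -/
theorem card_sq_roots [Fintype G] (hc : Nat.card G = 95040) {t z : G} (ht : orderOf t = 2)
    (hz : orderOf z = 2) (htc : Nat.card (centralizer ({t} : Set G)) ≤ 240)
    (hzc : Nat.card (centralizer ({z} : Set G)) = 192)
    (hne : Nat.card (centralizer ({t} : Set G)) ≠ 192) :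
    892 ≤ Nat.card {s : G // s * s = 1} := by
  have ht2 : t * t = 1 := by
    have := pow_orderOf_eq_one t
    rwa [ht, pow_two] at this
  have hz2 : z * z = 1 := by
    have := pow_orderOf_eq_one z
    rwa [hz, pow_two] at this
  have hcls : ∀ a s : G, a * a = 1 → IsConj a s → s * s = 1 := by
    intro a s ha h
    obtain ⟨c, rfl⟩ := isConj_iff.1 h
    have : c * a * c⁻¹ * (c * a * c⁻¹) = c * (a * a) * c⁻¹ := by group
    rw [this, ha, mul_one, mul_inv_cancel]
  have hone : ∀ a s : G, orderOf a = 2 → IsConj a s → s ≠ 1 := by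
    rintro a s ha h rfl
    have h1 := isConj_one_left.1 h
    rw [h1, orderOf_one] at ha
    norm_num at ha
  have hcard : ∀ a b : G, IsConj a b → Nat.card (centralizer ({a} : Set G)) =
      Nat.card (centralizer ({b} : Set G)) := by
    intro a b h
    have h1 := ClassMul.card_filter_isConj a
    have h2 := ClassMul.card_filter_isConj b
    have h3 : (Finset.univ.filter (IsConj a)) = Finset.univ.filter (IsConj b) := by
      ext x
      simp only [Finset.mem_filter, Finset.mem_univ, true_and]
      exact ⟨fun h' => h.symm.trans h', fun h' => h.trans h'⟩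
    rw [h3, h2] at h1
    have h4 := (centralizer ({a} : Set G)).card_mul_index
    have h5 := (centralizer ({b} : Set G)).card_mul_index
    rw [← h1, ← h5] at h4
    refine Nat.eq_of_mul_eq_mul_right ?_ h4
    rw [Nat.pos_iff_ne_zero]
    exact Subgroup.index_ne_zero_of_finite
  rw [Nat.card_eq_fintype_card, Fintype.card_subtype]
  have hsub : insert (1 : G) (Finset.univ.filter (IsConj t) ∪ Finset.univ.filter (IsConj z)) ⊆
      Finset.univ.filter fun s : G => s * s = 1 := by
    intro s hs
    simp only [Finset.mem_insert, Finset.mem_union, Finset.mem_filter, Finset.mem_univ,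
      true_and] at hs ⊢
    rcases hs with rfl | h | h
    · rw [mul_one]
    · exact hcls t s ht2 h
    · exact hcls z s hz2 h
  have hle := Finset.card_le_card hsub
  rw [Finset.card_insert_of_notMem, Finset.card_union_of_disjoint, ClassMul.card_filter_isConj,
    ClassMul.card_filter_isConj] at hle
  · have h4 := (centralizer ({t} : Set G)).card_mul_index
    have h5 := (centralizer ({z} : Set G)).card_mul_index
    rw [hc] at h4 h5
    rw [hzc] at h5
    have h6 : 396 ≤ (centralizer ({t} : Set G)).index := by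
      by_contra h
      push Not at h
      have : Nat.card (centralizer ({t} : Set G)) * (centralizer ({t} : Set G)).index ≤
          240 * 395 := Nat.mul_le_mul htc (by omega)
      omega
    omega
  · rw [Finset.disjoint_left]
    intro s hs hs'
    rw [Finset.mem_filter] at hs hs'
    apply hne
    rw [← hzc]
    exact hcard _ _ (hs.2.trans hs'.2.symm)
  · intro h
    rw [Finset.mem_union, Finset.mem_filter, Finset.mem_filter] at h
    rcases h with h | h
    · exact hone t 1 ht h.2 rfl
    · exact hone z 1 hz h.2 rfl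

/-- The involution commuting with an element of order five. -/
theorem column_cases [Finite G] [IsSimpleGroup G] (hc : Nat.card G = 95040)
    (h11 : ∀ P : Sylow 11 G, centralizer (P : Set G) = (P : Subgroup G)) {R : Sylow 11 G}
    {B : PBlock G 11 5 2 (R : Subgroup G)} {z : G} {χ : Fin 4 → IrrCharacter G}
    (hM : Main R B z χ ![-120, -54, 45, 144] ![8, -6, -3, 0] 3) {Q : Subgroup G} {y t : G}
    (hyt : YT Q y t) :
    (Nat.card (centralizer ({t} : Set G)) ≤ 240 ∧ Nat.card (centralizer ({t} : Set G)) ≠ 192 ∧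
      (χ 1 : G → ℂ) t = 6 ∧ ((χ 3 : G → ℂ) t = 4 ∨ (χ 3 : G → ℂ) t = -4)) ∨
    ∀ Θ ∈ B.X, (Θ : G → ℂ) t = -8 := by
  have h0 : B.ε (χ 0) * (deg (χ 0) : ℤ) = -120 := hM.deg 0
  have h1 : B.ε (χ 1) * (deg (χ 1) : ℤ) = -54 := hM.deg 1
  have h2 : B.ε (χ 2) * (deg (χ 2) : ℤ) = 45 := hM.deg 2
  have h3 : B.ε (χ 3) * (deg (χ 3) : ℤ) = 144 := hM.deg 3
  have hε1 : B.ε (χ 1) = -1 := by
    rcases B.ε_eq (χ 1) ((hM.mem _).2 (Or.inr ⟨1, rfl⟩)) with h | h
    · rw [h] at h1; omega
    · exact h
  have hε3 : B.ε (χ 3) = 1 := by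
    rcases B.ε_eq (χ 3) ((hM.mem _).2 (Or.inr ⟨3, rfl⟩)) with h | h
    · exact h
    · rw [h] at h3; omega
  obtain ⟨w, hw, hΘ, hlist⟩ := ElevenMain.columns hc h11 B hM.rest hM.nonreal hM.inj hM.ne hM.mem
    h0 h1 h2 h3 hyt.t_ord
  have h5 : 5 ∣ Nat.card (centralizer ({t} : Set G)) := by
    have h4 : y ∈ centralizer ({t} : Set G) := mem_centralizer_singleton_iff.2 hyt.comm
    have h5 := orderOf_dvd_natCard (⟨y, h4⟩ : centralizer ({t} : Set G))
    rwa [Subgroup.orderOf_mk, hyt.y_ord] at h5
  have hw1 := hw 1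
  have hw3 := hw 3
  rw [hε1] at hw1
  rw [hε3] at hw3
  simp only [List.mem_cons, List.not_mem_nil, Prod.mk.injEq, or_false] at hlist
  rcases hlist with ⟨a, b0, b1, b2, b3⟩ | ⟨a, b0, b1, b2, b3⟩ | ⟨a, b0, b1, b2, b3⟩ |
    ⟨a, b0, b1, b2, b3⟩ | ⟨a, b0, b1, b2, b3⟩ | ⟨a, b0, b1, b2, b3⟩
  · left
    rw [b1] at hw1
    rw [b3] at hw3
    exact ⟨by omega, by omega, by rw [hw1]; norm_num, Or.inr (by rw [hw3]; norm_num)⟩
  · left
    rw [b1] at hw1
    rw [b3] at hw3
    exact ⟨by omega, by omega, by rw [hw1]; norm_num, Or.inl (by rw [hw3]; norm_num)⟩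
  · omega
  · left
    rw [b1] at hw1
    rw [b3] at hw3
    exact ⟨by omega, by omega, by rw [hw1]; norm_num, Or.inr (by rw [hw3]; norm_num)⟩
  · left
    rw [b1] at hw1
    rw [b3] at hw3
    exact ⟨by omega, by omega, by rw [hw1]; norm_num, Or.inl (by rw [hw3]; norm_num)⟩
  · right
    intro Θ hmem
    have h4 := hM.theta_deg hc hmem
    have h6 : (1 : ℤ) + ![-120, -54, 45, 144] 0 + ![-120, -54, 45, 144] 1 +
      ![-120, -54, 45, 144] 2 + ![-120, -54, 45, 144] 3 = 16 := by
      show (1 : ℤ) + -120 + -54 + 45 + 144 = 16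
      norm_num
    rw [h6] at h4
    have hd : B.d = 1 := by
      rcases B.d_eq with h | h
      · exact h
      · rw [h] at h4; omega
    rw [hΘ Θ hmem, hd, Fin.sum_univ_four, b0, b1, b2, b3]
    norm_num

/-- **The existence of a real character of degree eleven.** -/
theorem exists_real_eleven [Fintype G] [IsSimpleGroup G] (hc : Nat.card G = 95040)
    (h11 : ∀ P : Sylow 11 G, centralizer (P : Set G) = (P : Subgroup G))
    (hN : ∀ P : Sylow 11 G, Nat.card (normalizer (P : Set G)) = 55) :
    ∃ χ : G → ℂ, IsIrrCharacter G χ ∧ (∀ g, conj (χ g) = χ g) ∧ χ 1 = 11 := by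
  classical
  have hf11 : Fact (Nat.Prime 11) := ⟨by norm_num⟩
  have hf5 : Fact (Nat.Prime 5) := ⟨by norm_num⟩
  have hG : commutator G = ⊤ := SmallDegree.commutator_eq_top_of_card (by rw [hc]; norm_num)
  obtain ⟨R⟩ : Nonempty (Sylow 11 G) := inferInstance
  obtain ⟨Q, hQR⟩ := exists_sylow_five hc R (hN R)
  have hR := card_eleven hc R
  have hQ := card_five hc Q
  obtain ⟨B, B5, K, χ, z, hloc, hK, hM⟩ := Final.family hc h11 R (hN R) Q
  have h0 : B.ε (χ 0) * (deg (χ 0) : ℤ) = -120 := hM.deg 0
  have h1 : B.ε (χ 1) * (deg (χ 1) : ℤ) = -54 := hM.deg 1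
  have h2 : B.ε (χ 2) * (deg (χ 2) : ℤ) = 45 := hM.deg 2
  have h3 : B.ε (χ 3) * (deg (χ 3) : ℤ) = 144 := hM.deg 3
  have hmem : ∀ i, χ i ∈ B.NE := fun i => (hM.mem _).2 (Or.inr ⟨i, rfl⟩)
  have d120 : deg (χ 0) = 120 := by
    rcases B.ε_eq (χ 0) (hmem 0) with h | h <;> rw [h] at h0 <;> omega
  have hε1 : B.ε (χ 1) = -1 := by
    rcases B.ε_eq (χ 1) (hmem 1) with h | h
    · rw [h] at h1; omega
    · exact h
  have d54 : deg (χ 1) = 54 := by rw [hε1] at h1; omega
  have d45 : deg (χ 2) = 45 := by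
    rcases B.ε_eq (χ 2) (hmem 2) with h | h <;> rw [h] at h2 <;> omega
  have d144 : deg (χ 3) = 144 := by
    rcases B.ε_eq (χ 3) (hmem 3) with h | h <;> rw [h] at h3 <;> omega
  have hone11 : ¬ 11 ∣ orderOf (1 : G) := by rw [orderOf_one]; norm_num
  have hone5 : ¬ 5 ∣ orderOf (1 : G) := by rw [orderOf_one]; norm_num
  -- the exceptional characters
  have dX : ∀ Θ ∈ B.X, deg Θ = 16 := by
    intro Θ hΘ
    have h4 := hM.theta_deg hc hΘ
    have h6 : (1 : ℤ) + ![-120, -54, 45, 144] 0 + ![-120, -54, 45, 144] 1 +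
      ![-120, -54, 45, 144] 2 + ![-120, -54, 45, 144] 3 = 16 := by
      show (1 : ℤ) + -120 + -54 + 45 + 144 = 16
      norm_num
    rw [h6] at h4
    rcases B.d_eq with h | h <;> rw [h] at h4 <;> omega
  obtain ⟨th, th', hne, hX⟩ := Finset.card_eq_two.1 B.card_X
  have hthX : th ∈ B.X := by rw [hX]; simp
  have hthX' : th' ∈ B.X := by rw [hX]; simp
  -- an element of order eleven
  have hnt : Nontrivial (R : Subgroup G) := by
    rw [← Finite.one_lt_card_iff_nontrivial, hR]; norm_num
  obtain ⟨x, hx1⟩ := exists_ne (1 : (R : Subgroup G))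
  have hx1' : (x : G) ≠ 1 := fun h => hx1 (Subtype.ext h)
  have hinv : ¬ IsConj (x : G) (x : G)⁻¹ := by
    intro h
    obtain ⟨u, hu⟩ := isConj_iff.1 h
    exact InvolColumn.conj_ne_inv_of_odd (Final.relIndex_eleven hc h11 R (hN R)) (by decide)
      (InvolColumn.zpowers_eq_of_card_prime (by norm_num) hR) (by rw [hR]; decide) x.2 hx1' u hu
  -- |K| = 2
  have h3K : ¬ 3 ∣ Nat.card K := by
    refine not_three_dvd hc (R : Subgroup G) hR (h11 R) Q hQR hloc (χ 1).2
      (by rw [apply_one, d54]; norm_num) ?_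
    intro x hx hx1
    have h4 := B.apply_NE (χ 1) (hmem 1) x hx hx1 1 (one_mem _) hone11
    rw [mul_one, hε1] at h4
    rw [h4]
    norm_num
  have hK2 : Nat.card K = 2 := by
    rcases hK with h | h | h
    · exact h
    · rw [h] at h3K; norm_num at h3K
    · rw [h] at h3K; norm_num at h3K
  -- elements of order five and two
  have hnt5 : Nontrivial (Q : Subgroup G) := by
    rw [← Finite.one_lt_card_iff_nontrivial, hQ]; norm_num
  obtain ⟨y, hy1⟩ := exists_ne (1 : (Q : Subgroup G))
  have hy1' : (y : G) ≠ 1 := fun h => hy1 (Subtype.ext h)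
  obtain ⟨t, hyt⟩ := exists_yt Q hQ hloc hK2 y.2 hy1'
  have ht2 : t ^ 2 = 1 := by rw [← hyt.t_ord]; exact pow_orderOf_eq_one t
  have hty5 : ¬ 5 ∣ orderOf t := by rw [hyt.t_ord]; norm_num
  -- the principal 5-block
  have hpool := FiveBlock.deg_mem_pool hc hR B fun ψ h1 h2 => (hM.rest ψ h1 h2).2
  obtain ⟨c, cinj, cne, -, cval, crel, ccases⟩ := exists_five B5 hQ hpool
  -- the set of all irreducible characters
  have := Core.finite_irr (G := G)
  have := Fintype.ofFinite (IrrCharacter G)
  have hs : ∀ ψ : IrrCharacter G, ∃ s : ℤ, (ψ : G → ℂ) t = s ∧ (4 : ℤ) ∣ deg ψ - s := by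
    intro ψ
    obtain ⟨k, hk⟩ := SmallDegree.character_eq_add_four_mul hG (Core.isIrr_isCharacter ψ.2) ht2
    refine ⟨deg ψ - 4 * k, ?_, ⟨k, by ring⟩⟩
    rw [apply_one] at hk
    push_cast
    rw [hk]
    ring
  choose s hs1 hs2 using hs
  have hvw : ∀ ψ : IrrCharacter G, ∃ v w : ℤ, (ψ : G → ℂ) y = v ∧ (ψ : G → ℂ) (y * t) = w ∧
      (5 : ℤ) ∣ deg ψ - v ∧ (5 : ℤ) ∣ s ψ - w := fun ψ =>
    hyt.exists_int (Core.isIrr_isCharacter ψ.2) (by rw [apply_one]; norm_cast) (hs1 ψ)
  choose v w hv1 hw1 hv5 hw5 using hvw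
  have hν : ∀ ψ : IrrCharacter G, ∃ n : ℤ, (n = 0 ∨ n = 1 ∨ n = -1) ∧
      (Nat.card G : ℂ)⁻¹ * ∑ s : G, (ψ : G → ℂ) (s * s) = n ∧
      (n = 0 ↔ ∃ g, ((ψ : G → ℂ) g).im ≠ 0) := fun ψ =>
    CharactersDeep.FeitOddAux.exists_indicator ψ.2
  choose ν hν1 hν2 hν3 using hν
  have hdeg1 : ∀ ψ : IrrCharacter G, (ψ : G → ℂ) 1 = ((deg ψ : ℤ) : ℂ) := fun ψ => by
    rw [apply_one]; norm_cast
  have hndvd : ∀ a b : G, orderOf a ≠ orderOf b → ¬ IsConj a b := by
    intro a b hab h
    obtain ⟨g, rfl⟩ := isConj_iff.1 h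
    apply hab
    rw [← MulAut.conj_apply]
    exact (orderOf_injective (MulAut.conj g).toMonoidHom (MulAut.conj g).injective a).symm
  have hyto : orderOf ((y : G) * t) = 10 := by
    rw [(show Commute (y : G) t from hyt.comm).orderOf_mul_eq_mul_orderOf_of_coprime
      (by rw [hyt.y_ord, hyt.t_ord]; norm_num), hyt.y_ord, hyt.t_ord]
  -- the numerical data
  let C : Ctx (IrrCharacter G) :=
    { deg := deg
      v := v
      w := w
      s := s
      ν := ν
      cj := fun ψ => ⟨fun g => conj ((ψ : G → ℂ) g), Core.isIrr_conj ψ.2⟩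
      o := triv G
      c45 := χ 2
      c54 := χ 1
      c120 := χ 0
      c144 := χ 3
      th := th
      th' := th'
      c := c
      deg_o := deg_triv
      hpool := hpool
      d45 := d45
      d54 := d54
      d120 := d120
      d144 := d144
      dth := dX _ hthX
      dth' := dX _ hthX'
      th_ne := hne
      rest := by
        intro ψ
        by_cases h4 : ψ ∈ B.NE
        · rcases (hM.mem ψ).1 h4 with h5 | ⟨i, h5⟩
          · exact Or.inl h5
          · subst h5
            fin_cases i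
            · exact Or.inr (Or.inr (Or.inr (Or.inl rfl)))
            · exact Or.inr (Or.inr (Or.inl rfl))
            · exact Or.inr (Or.inl rfl)
            · exact Or.inr (Or.inr (Or.inr (Or.inr (Or.inl rfl))))
        · by_cases h5 : ψ ∈ B.X
          · rw [hX, Finset.mem_insert, Finset.mem_singleton] at h5
            rcases h5 with h5 | h5
            · exact Or.inr (Or.inr (Or.inr (Or.inr (Or.inr (Or.inl h5)))))
            · exact Or.inr (Or.inr (Or.inr (Or.inr (Or.inr (Or.inr (Or.inl h5))))))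
          · exact Or.inr (Or.inr (Or.inr (Or.inr (Or.inr (Or.inr (Or.inr
              (hM.rest ψ h4 h5).2))))))
      v_o := by
        have h4 := hv1 (triv G)
        rw [triv_apply] at h4
        exact_mod_cast h4.symm
      w_o := by
        have h4 := hw1 (triv G)
        rw [triv_apply] at h4
        exact_mod_cast h4.symm
      s_o := by
        have h4 := hs1 (triv G)
        rw [triv_apply] at h4
        exact_mod_cast h4.symm
      dvd_v := hv5
      dvd_w := hw5
      dvd_s := hs2
      sum_dd := by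
        have h4 := sum_deg_sq (G := G)
        rw [hc] at h4
        have h5 : ((∑ ψ : IrrCharacter G, deg ψ ^ 2 : ℕ) : ℤ) = 95040 := by rw [h4]; rfl
        rw [← h5]
        push_cast
        exact Finset.sum_congr rfl fun ψ _ => by ring
      sum_vv := by
        rw [sum_mul_of_isConj hv1 hv1 (IsConj.refl _), hyt.card_cy]
        rfl
      sum_ww := by
        rw [sum_mul_of_isConj hw1 hw1 (IsConj.refl _), hyt.card_cyt]
        rfl
      sum_vw := sum_mul_of_not_isConj hv1 hw1 (hndvd _ _ (by rw [hyt.y_ord, hyto]; norm_num))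
      sum_vd := sum_mul_of_not_isConj hv1 hdeg1
        (hndvd _ _ (by rw [hyt.y_ord, orderOf_one]; norm_num))
      sum_vs := sum_mul_of_not_isConj hv1 hs1
        (hndvd _ _ (by rw [hyt.y_ord, hyt.t_ord]; norm_num))
      col := by
        rcases column_cases hc h11 hM hyt with ⟨h4, h5, h6, h7⟩ | h4
        · left
          refine ⟨?_, ?_, ?_, ?_⟩
          · have h8 := hs1 (χ 1)
            rw [h6] at h8
            exact_mod_cast h8.symm
          · have h8 := hs1 (χ 3)
            rcases h7 with h7 | h7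
            · left
              rw [h7] at h8
              exact_mod_cast h8.symm
            · right
              rw [h7] at h8
              exact_mod_cast h8.symm
          · rw [sum_mul_of_isConj hs1 hs1 (IsConj.refl _)]
            exact_mod_cast h4
          · rw [sum_indicator hν2]
            have h8 := card_sq_roots hc hyt.t_ord hM.order h4 (by rw [hM.card]) h5
            exact_mod_cast h8
        · right
          have h8 := hs1 th
          rw [h4 th hthX] at h8
          exact_mod_cast h8.symm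
      c_inj := cinj
      c_ne := cne
      c_v := by
        intro i
        have h4 := cval i y y.2 hy1' 1 (one_mem _) hone5
        rw [mul_one, hv1] at h4
        exact_mod_cast h4
      c_w := by
        intro i
        have h4 := cval i y y.2 hy1' t hyt.t_mem hty5
        rw [hw1] at h4
        exact_mod_cast h4
      rel_d := by
        have h4 := crel 1 hone5
        rw [Finset.sum_congr rfl fun i _ => by rw [hdeg1 (c i)]] at h4
        exact_mod_cast h4
      rel_s := by
        have h4 := crel t hty5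
        rw [Finset.sum_congr rfl fun i _ => by rw [hs1 (c i)]] at h4
        exact_mod_cast h4
      cases := ccases
      cj_deg := by
        intro ψ
        apply deg_eq_of
        show conj ((ψ : G → ℂ) 1) = _
        rw [apply_one, Complex.conj_natCast]
      cj_v := by
        intro ψ
        have h4 := hv1 ⟨fun g => conj ((ψ : G → ℂ) g), Core.isIrr_conj ψ.2⟩
        change conj ((ψ : G → ℂ) y) = _ at h4
        rw [hv1, map_intCast] at h4
        exact_mod_cast h4.symm
      cj_w := by
        intro ψ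
        have h4 := hw1 ⟨fun g => conj ((ψ : G → ℂ) g), Core.isIrr_conj ψ.2⟩
        change conj ((ψ : G → ℂ) (y * t)) = _ at h4
        rw [hw1, map_intCast] at h4
        exact_mod_cast h4.symm
      ν_le := by
        intro ψ
        rcases hν1 ψ with h | h | h <;> rw [h] <;> norm_num
      ν_th := (hν3 th).2 ⟨x, exc_im_ne B (fun ψ h4 h5 => (hM.rest ψ h4 h5).1) x.2 hx1' hinv hthX⟩
      ν_th' := (hν3 th').2
        ⟨x, exc_im_ne B (fun ψ h4 h5 => (hM.rest ψ h4 h5).1) x.2 hx1' hinv hthX'⟩
      ν_cj := by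
        intro ψ hψ
        rw [hν3]
        by_contra h4
        push Not at h4
        apply hψ
        apply Subtype.ext
        funext g
        exact Complex.conj_eq_iff_im.2 (h4 g) }
  obtain ⟨ψ, hψ1, hψ2⟩ := C.exists_real
  refine ⟨ψ, ψ.2, ?_, ?_⟩
  · intro g
    exact congrFun (congrArg Subtype.val hψ2) g
  · rw [apply_one, show deg ψ = 11 from hψ1]
    norm_num

end Cfsg.Agent.MTwelve.DegreeElevenMain
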