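/-
The `M₂₄` analogue of STEP 6 + STEP 7 of the uniqueness of `M₁₂`: if the irreducible characters of
degree at most `275` are the trivial character, ONE character of degree `23` and characters of
degrees `45`, `231`, `252`, `253`, then there is a subgroup of index `24`.
-/
import Mathlib
import Cfsg.Agent.MTwelve.SymSquare
import Cfsg.Agent.SporadicA.NortonCor

set_option autoImplicit false

open scoped ComplexConjugate
open Cfsg Subgroup

namespace Cfsg.Agent.MTwelve.IndexTwentyFour

open Characters.Core MTwelve.SymSquare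

universe u

variable {G : Type u} [Group G] [Fintype G]

/-- The character of degree `23` is real. -/
theorem real_of_unique {χ : G → ℂ} (hχ : IsIrrCharacter G χ) (hdeg : χ 1 = 23)
    (huniq : ∀ ψ : G → ℂ, IsIrrCharacter G ψ → ψ 1 = 23 → ψ = χ) (g : G) : conj (χ g) = χ g := by
  have h := huniq _ (isIrr_conj hχ) (by
    show conj (χ 1) = 23
    rw [hdeg]
    exact map_ofNat (starRingEnd ℂ) 23)
  exact congrFun h g

/-- The symmetric square of the character of degree `23` contains it. -/
theorem symSq_ne_zero {χ : G → ℂ} (hχ : IsIrrCharacter G χ) (hdeg : χ 1 = 23)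
    (huniq : ∀ ψ : G → ℂ, IsIrrCharacter G ψ → ψ 1 = 23 → ψ = χ)
    (hdegs : ∀ ψ : G → ℂ, IsIrrCharacter G ψ → ψ = 1 ∨ charDegree ψ = 23 ∨ charDegree ψ = 45 ∨
      charDegree ψ = 231 ∨ charDegree ψ = 252 ∨ charDegree ψ = 253 ∨ 275 < charDegree ψ) :
    ∑ g, (χ g ^ 2 + χ (g * g)) * χ g ≠ 0 := by
  classical
  have hreal := real_of_unique hχ hdeg huniq
  have := finite_irr (G := G)
  have := Fintype.ofFinite (IrrCharacter G)
  have hGne : (Nat.card G : ℂ) ≠ 0 := card_ne_zero_complex
  have hsym := isCharacter_symSq (isIrr_isCharacter hχ)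
  obtain ⟨m, hm⟩ := exists_nat_comb hsym
  have hmψ : ∀ ψ : IrrCharacter G, ∑ g : G, (χ g ^ 2 + χ (g * g)) * conj ((ψ : G → ℂ) g) =
      2 * Nat.card G * m ψ := by
    intro ψ
    rw [sum_symSq_mul, hm, classInner_sum_nsmul_irr]
  have hmv : ∀ g : G, (χ g ^ 2 + χ (g * g)) / 2 = ∑ ψ : IrrCharacter G, (m ψ : ℂ) * (ψ : G → ℂ) g := by
    intro g
    have := congrFun hm g
    simp only [Finset.sum_apply, nsmul_eq_mul] at this
    exact this
  have hdegsum : ∑ ψ : IrrCharacter G, m ψ * charDegree (ψ : G → ℂ) = 276 := by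
    have h := hmv 1
    rw [mul_one, hdeg] at h
    have h1 : ((∑ ψ : IrrCharacter G, m ψ * charDegree (ψ : G → ℂ) : ℕ) : ℂ) = ((276 : ℕ) : ℂ) := by
      push_cast
      have h2 : ∀ ψ : IrrCharacter G, (m ψ : ℂ) * (charDegree (ψ : G → ℂ) : ℂ) =
          (m ψ : ℂ) * (ψ : G → ℂ) 1 := fun ψ => by rw [apply_one_eq ψ.2]
      rw [Finset.sum_congr rfl fun ψ _ => h2 ψ, ← h]
      norm_num
    exact_mod_cast h1
  let one : IrrCharacter G := ⟨1, isIrr_one⟩
  have hone_deg : charDegree (one : G → ℂ) = 1 := by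
    have h := apply_one_eq one.2
    simp only [one, Pi.one_apply] at h
    exact_mod_cast h.symm
  have hm1 : m one = 1 := by
    have h := hmψ one
    simp only [one, Pi.one_apply, map_one, mul_one, Finset.sum_add_distrib] at h
    rw [sum_sq_eq_card hχ hreal 23 (by rw [hdeg]; norm_num) (by decide)] at h
    have h2 : ∑ g : G, χ g ^ 2 = Nat.card G := by
      have h3 := classInner_irr_self hχ
      rw [classInner_def] at h3
      field_simp at h3
      rw [← h3]
      refine Finset.sum_congr rfl fun g _ => ?_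
      rw [hreal, sq]
    rw [h2] at h
    have h3 : (Nat.card G : ℂ) * (1 - (m one : ℂ)) = 0 := by
      linear_combination (1/2 : ℂ) * h
    rcases mul_eq_zero.1 h3 with h4 | h4
    · exact absurd h4 hGne
    · have h5 : (m one : ℂ) = ((1 : ℕ) : ℂ) := by
        push_cast
        exact (sub_eq_zero.1 h4).symm
      exact_mod_cast h5
  -- sum over the nontrivial characters
  have hrest : ∑ ψ ∈ Finset.univ.erase one, m ψ * charDegree (ψ : G → ℂ) = 275 := by
    have h := Finset.add_sum_erase Finset.univ (fun ψ : IrrCharacter G => m ψ * charDegree (ψ : G → ℂ))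
      (Finset.mem_univ one)
    rw [hdegsum, hm1, hone_deg] at h
    omega
  intro h0
  set c : IrrCharacter G := ⟨χ, hχ⟩ with hc
  have hmc : m c = 0 := by
    have h := hmψ c
    rw [Finset.sum_congr rfl (g := fun g => (χ g ^ 2 + χ (g * g)) * χ g)] at h
    · rw [h0] at h
      have h1 : (2 * (Nat.card G : ℂ)) ≠ 0 := mul_ne_zero two_ne_zero hGne
      rcases mul_eq_zero.1 h.symm with h2 | h2
      · exact absurd h2 h1
      · exact_mod_cast h2
    · intro g _
      rw [hreal]
  have hpt : ∀ ψ ∈ Finset.univ.erase one, m ψ * charDegree (ψ : G → ℂ) =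
      45 * (if charDegree (ψ : G → ℂ) = 45 then m ψ else 0) +
      231 * (if charDegree (ψ : G → ℂ) = 231 then m ψ else 0) +
      252 * (if charDegree (ψ : G → ℂ) = 252 then m ψ else 0) +
      253 * (if charDegree (ψ : G → ℂ) = 253 then m ψ else 0) := by
    intro ψ hψ
    have hψ1 : (ψ : G → ℂ) ≠ 1 := fun h => (Finset.mem_erase.1 hψ).1 (Subtype.ext h)
    rcases hdegs _ ψ.2 with h | h | h | h | h | h | h
    · exact absurd h hψ1
    · have h1 : ψ = c := by
        apply Subtype.ext
        refine huniq _ ψ.2 ?_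
        rw [apply_one_eq ψ.2, h]
        norm_num
      rw [h1, hmc]
      simp
    · rw [h]; simp [mul_comm]
    · rw [h]; simp [mul_comm]
    · rw [h]; simp [mul_comm]
    · rw [h]; simp [mul_comm]
    · have h1 : m ψ = 0 := by
        by_contra h2
        have h3 : m ψ * charDegree (ψ : G → ℂ) ≤ 275 := by
          rw [← hrest]
          exact Finset.single_le_sum (f := fun ψ : IrrCharacter G => m ψ * charDegree (ψ : G → ℂ))
            (fun _ _ => Nat.zero_le _) hψ
        have h4 : 1 ≤ m ψ := Nat.one_le_iff_ne_zero.2 h2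
        nlinarith
      simp [h1]
  rw [Finset.sum_congr rfl hpt, Finset.sum_add_distrib, Finset.sum_add_distrib,
    Finset.sum_add_distrib, ← Finset.mul_sum, ← Finset.mul_sum, ← Finset.mul_sum,
    ← Finset.mul_sum] at hrest
  omega

/-- **The subgroup of index `24`.** -/
theorem exists_index_twentyfour (P : Sylow 23 G) (hP : Nat.card P = 23)
    (hN : Nat.card (normalizer ((P : Subgroup G) : Set G)) = 253)
    {χ : G → ℂ} (hχ : IsIrrCharacter G χ) (hdeg : χ 1 = 23)
    (huniq : ∀ ψ : G → ℂ, IsIrrCharacter G ψ → ψ 1 = 23 → ψ = χ)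
    (hdegs : ∀ ψ : G → ℂ, IsIrrCharacter G ψ → ψ = 1 ∨ charDegree ψ = 23 ∨ charDegree ψ = 45 ∨
      charDegree ψ = 231 ∨ charDegree ψ = 252 ∨ charDegree ψ = 253 ∨ 275 < charDegree ψ)
    (h0 : ∀ x ∈ (P : Subgroup G), x ≠ 1 → χ x = 0)
    (h1 : ∀ y ∈ normalizer ((P : Subgroup G) : Set G), y ∉ (P : Subgroup G) → χ y = 1) :
    ∃ H : Subgroup G, normalizer ((P : Subgroup G) : Set G) ≤ H ∧ H.index = 24 := by
  have : Fact (Nat.Prime 23) := ⟨by norm_num⟩
  refine SporadicA.NortonCor.exists_index_of_normalizer (p := 23) (e := 11) (by norm_num) (by decide)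
    (by norm_num) P hP (by rw [hN]) {χ} (Set.singleton_nonempty χ) ?_ ?_ ?_ ?_ ?_ ?_
  · rintro ψ rfl; exact hχ
  · rintro ψ rfl; exact real_of_unique hχ hdeg huniq
  · rintro ψ rfl; rw [hdeg]; norm_num
  · rintro ψ rfl; exact h0
  · rintro ψ rfl; exact h1
  · rintro ψ rfl
    exact ⟨ψ, rfl, symSq_ne_zero hχ hdeg huniq hdegs⟩

end Cfsg.Agent.MTwelve.IndexTwentyFour
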