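import Cfsg.Agent.MTwelve.FiveBlock
import Cfsg.Agent.MTwelve.FiveLocal
import Cfsg.Agent.CharactersDeep.FeitOddAux

/-!
# A real irreducible character of degree eleven

STEP 5 of the characterisation of `M₁₂` by its order: in the only surviving family for the
principal 11-block there is a real irreducible character of degree `11`.
-/

set_option autoImplicit false
set_option linter.unusedSectionVars false

open scoped ComplexConjugate
open Cfsg

namespace Cfsg.Agent.MTwelve.DegreeEleven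

open Cfsg.Agent.Characters
open Cfsg.Agent.MTwelve.BlockData
open Cfsg.Agent.MTwelve.FiveBlock
open Cfsg.Agent.MTwelve.FiveLocal

universe u

section general

variable {G : Type u} [Group G] [Finite G] [Fintype (IrrCharacter G)]

/-- Column orthogonality for integer columns. -/
theorem sum_mul_of_isConj {a b : IrrCharacter G → ℤ} {g h : G}
    (ha : ∀ χ : IrrCharacter G, (χ : G → ℂ) g = a χ)
    (hb : ∀ χ : IrrCharacter G, (χ : G → ℂ) h = b χ) (hgh : IsConj g h) :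
    ∑ χ, a χ * b χ = Nat.card (Subgroup.centralizer ({g} : Set G)) := by
  have h1 := (Cfsg.Agent.S0145.result g h).1 hgh
  rw [finsum_eq_sum_of_fintype, Finset.sum_congr rfl fun χ _ => by rw [ha χ, hb χ]] at h1
  have h2 : ((∑ χ, a χ * b χ : ℤ) : ℂ) =
      ((Nat.card (Subgroup.centralizer ({g} : Set G)) : ℤ) : ℂ) := by
    push_cast
    rw [← h1]
    exact Finset.sum_congr rfl fun χ _ => by rw [map_intCast]
  exact_mod_cast h2

theorem sum_mul_of_not_isConj {a b : IrrCharacter G → ℤ} {g h : G}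
    (ha : ∀ χ : IrrCharacter G, (χ : G → ℂ) g = a χ)
    (hb : ∀ χ : IrrCharacter G, (χ : G → ℂ) h = b χ) (hgh : ¬ IsConj g h) :
    ∑ χ, a χ * b χ = 0 := by
  have h1 := (Cfsg.Agent.S0145.result g h).2 hgh
  rw [finsum_eq_sum_of_fintype, Finset.sum_congr rfl fun χ _ => by rw [ha χ, hb χ]] at h1
  have h2 : ((∑ χ, a χ * b χ : ℤ) : ℂ) = ((0 : ℤ) : ℂ) := by
    push_cast
    rw [← h1]
    exact Finset.sum_congr rfl fun χ _ => by rw [map_intCast]
  exact_mod_cast h2

omit [Finite G] in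
/-- The Frobenius-Schur count of square roots of one. -/
theorem sum_indicator [Fintype G] {ν : IrrCharacter G → ℤ}
    (hν : ∀ χ : IrrCharacter G, (Nat.card G : ℂ)⁻¹ * ∑ s : G, (χ : G → ℂ) (s * s) = ν χ) :
    ∑ χ, ν χ * (deg χ : ℤ) = Nat.card {s : G // s * s = 1} := by
  classical
  have hne : (Nat.card G : ℂ) ≠ 0 := Core.card_ne_zero_complex
  have h1 : ∀ s : G, ∑ χ : IrrCharacter G, (χ : G → ℂ) (s * s) * (χ : G → ℂ) 1 =
      if s * s = 1 then (Nat.card G : ℂ) else 0 := by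
    intro s
    have hc : ∀ χ : IrrCharacter G, (χ : G → ℂ) 1 = conj ((χ : G → ℂ) 1) := fun χ => by
      rw [apply_one, Complex.conj_natCast]
    rw [Finset.sum_congr rfl fun χ _ => by rw [hc χ]]
    split_ifs with hs
    · have h2 := (Cfsg.Agent.S0145.result (s * s) 1).1 (by rw [hs])
      rw [finsum_eq_sum_of_fintype] at h2
      rw [h2, hs]
      have : Subgroup.centralizer ({(1 : G)} : Set G) = ⊤ := by
        rw [eq_top_iff]
        intro x _
        rw [Subgroup.mem_centralizer_singleton_iff, mul_one, one_mul]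
      rw [this, Subgroup.card_top]
    · have h2 := (Cfsg.Agent.S0145.result (s * s) 1).2 (fun h => hs (isConj_one_left.1 h))
      rw [finsum_eq_sum_of_fintype] at h2
      exact h2
  have h2 : ((∑ χ, ν χ * (deg χ : ℤ) : ℤ) : ℂ) = ((Nat.card {s : G // s * s = 1} : ℤ) : ℂ) := by
    push_cast
    calc ∑ χ : IrrCharacter G, (ν χ : ℂ) * (deg χ : ℂ)
        = ∑ χ : IrrCharacter G, (Nat.card G : ℂ)⁻¹ *
            ∑ s : G, (χ : G → ℂ) (s * s) * (χ : G → ℂ) 1 := by
          refine Finset.sum_congr rfl fun χ _ => ?_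
          rw [← hν χ, ← apply_one, mul_assoc, Finset.sum_mul]
      _ = (Nat.card G : ℂ)⁻¹ * ∑ s : G, if s * s = 1 then (Nat.card G : ℂ) else 0 := by
          rw [← Finset.mul_sum, Finset.sum_comm]
          congr 1
          exact Finset.sum_congr rfl fun s _ => h1 s
      _ = (Nat.card {s : G // s * s = 1} : ℂ) := by
          rw [← Finset.sum_filter, Finset.sum_const, nsmul_eq_mul, mul_comm, mul_assoc,
            mul_inv_cancel₀ hne, mul_one, Nat.card_eq_fintype_card, Fintype.card_subtype]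
  exact_mod_cast h2

end general

/-! ### The combinatorial part -/

theorem sgn_sq (n : ℕ) : sgn n * sgn n = 1 := by
  unfold sgn
  split_ifs <;> norm_num

theorem arith_two {a b : ℕ} (ha : a ∈ pool) (hb : b ∈ pool) (ha' : 11 ∣ a) (hb' : 11 ∣ b)
    (ha5 : a % 5 = 1 ∨ a % 5 = 4) (hb5 : b % 5 = 1 ∨ b % 5 = 4) (hab : a ≤ b)
    (h : sgn a * a + sgn b * b = 22) : (a = 11 ∧ b = 11) ∨ (a = 44 ∧ b = 66) := by
  have red : ∀ n ∈ pool, 11 ∣ n → (n % 5 = 1 ∨ n % 5 = 4) →
      n ∈ [11, 44, 66, 99, 176, 264] := by decide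
  have key : ∀ a ∈ [11, 44, 66, 99, 176, 264], ∀ b ∈ [11, 44, 66, 99, 176, 264], a ≤ b →
      sgn a * a + sgn b * b = 22 → (a = 11 ∧ b = 11) ∨ (a = 44 ∧ b = 66) := by decide +kernel
  exact key a (red a ha ha' ha5) b (red b hb hb' hb5) hab h

theorem arith_three {a b c : ℕ} (ha : a ∈ pool) (hb : b ∈ pool) (hc : c ∈ pool) (ha' : 11 ∣ a)
    (hb' : 11 ∣ b) (hc' : 11 ∣ c) (ha5 : a % 5 = 1 ∨ a % 5 = 4) (hb5 : b % 5 = 1 ∨ b % 5 = 4)
    (hc5 : c % 5 = 1 ∨ c % 5 = 4) (hab : a ≤ b) (hbc : b ≤ c)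
    (h : sgn a * a + sgn b * b + sgn c * c = 198) :
    (a = 11 ∧ b = 11 ∧ c = 176) ∨ (a = 44 ∧ b = 66 ∧ c = 176) ∨
      (a = 66 ∧ b = 66 ∧ c = 66) := by
  have red : ∀ n ∈ pool, 11 ∣ n → (n % 5 = 1 ∨ n % 5 = 4) →
      n ∈ [11, 44, 66, 99, 176, 264] := by decide
  have key : ∀ a ∈ [11, 44, 66, 99, 176, 264], ∀ b ∈ [11, 44, 66, 99, 176, 264],
      ∀ c ∈ [11, 44, 66, 99, 176, 264], a ≤ b → b ≤ c →
      sgn a * a + sgn b * b + sgn c * c = 198 →
      (a = 11 ∧ b = 11 ∧ c = 176) ∨ (a = 44 ∧ b = 66 ∧ c = 176) ∨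
      (a = 66 ∧ b = 66 ∧ c = 66) := by decide +kernel
  exact key a (red a ha ha' ha5) b (red b hb hb' hb5) c (red c hc hc' hc5) hab hbc h

theorem arith_sixty_six {x y z d : ℤ} (hx : x % 20 = 14) (hy : y % 20 = 14) (hz : z % 20 = 14)
    (hsq : x * x + y * y + z * z ≤ 240) (h : x + y + z = 6 + d) (hd : d = 4 ∨ d = -4) : False := by
  have q0 := mul_self_nonneg x
  have q1 := mul_self_nonneg y
  have q2 := mul_self_nonneg z
  have bx : -16 < x ∧ x < 16 := by constructor <;> nlinarith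
  have bY : -16 < y ∧ y < 16 := by constructor <;> nlinarith
  have bz : -16 < z ∧ z < 16 := by constructor <;> nlinarith
  have cx : x = 14 ∨ x = -6 := by omega
  have cy : y = 14 ∨ y = -6 := by omega
  have cz : z = 14 ∨ z = -6 := by omega
  rcases cx with rfl | rfl <;> rcases cy with rfl | rfl <;> rcases cz with rfl | rfl <;> omega

/-- The numerical data. -/
structure Ctx (I : Type u) [Fintype I] where
  deg : I → ℕ
  v : I → ℤ
  w : I → ℤ
  s : I → ℤ
  ν : I → ℤ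
  cj : I → I
  o : I
  c45 : I
  c54 : I
  c120 : I
  c144 : I
  th : I
  th' : I
  c : Fin 4 → I
  deg_o : deg o = 1
  hpool : ∀ i, i ≠ o → deg i ∈ pool
  d45 : deg c45 = 45
  d54 : deg c54 = 54
  d120 : deg c120 = 120
  d144 : deg c144 = 144
  dth : deg th = 16
  dth' : deg th' = 16
  th_ne : th ≠ th'
  rest : ∀ i, i = o ∨ i = c45 ∨ i = c54 ∨ i = c120 ∨ i = c144 ∨ i = th ∨ i = th' ∨ 11 ∣ deg i
  v_o : v o = 1
  w_o : w o = 1
  s_o : s o = 1
  dvd_v : ∀ i, (5 : ℤ) ∣ deg i - v i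
  dvd_w : ∀ i, (5 : ℤ) ∣ s i - w i
  dvd_s : ∀ i, (4 : ℤ) ∣ deg i - s i
  sum_dd : ∑ i, (deg i : ℤ) * deg i = 95040
  sum_vv : ∑ i, v i * v i = 10
  sum_ww : ∑ i, w i * w i = 10
  sum_vw : ∑ i, v i * w i = 0
  sum_vd : ∑ i, v i * deg i = 0
  sum_vs : ∑ i, v i * s i = 0
  col : (s c54 = 6 ∧ (s c144 = 4 ∨ s c144 = -4) ∧ ∑ i, s i * s i ≤ 240 ∧
    892 ≤ ∑ i, ν i * deg i) ∨ s th = -8
  c_inj : Function.Injective c
  c_ne : ∀ i, c i ≠ o
  c_v : ∀ i, v (c i) = sgn (deg (c i))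
  c_w : ∀ i, w (c i) = sgn (deg (c i))
  rel_d : 1 + ∑ i, sgn (deg (c i)) * (deg (c i) : ℤ) = 0
  rel_s : 1 + ∑ i, sgn (deg (c i)) * s (c i) = 0
  cases : ((deg (c 0) = 11 ∧ deg (c 1) = 16 ∧ deg (c 2) = 16 ∧ deg (c 3) = 44) ∨
       (deg (c 0) = 11 ∧ deg (c 1) = 44 ∧ deg (c 2) = 144 ∧ deg (c 3) = 176) ∨
       (deg (c 0) = 11 ∧ deg (c 1) = 66 ∧ deg (c 2) = 66 ∧ deg (c 3) = 144) ∨
       (deg (c 0) = 16 ∧ deg (c 1) = 16 ∧ deg (c 2) = 66 ∧ deg (c 3) = 99) ∨
       (deg (c 0) = 66 ∧ deg (c 1) = 99 ∧ deg (c 2) = 144 ∧ deg (c 3) = 176))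
  cj_deg : ∀ i, deg (cj i) = deg i
  cj_v : ∀ i, v (cj i) = v i
  cj_w : ∀ i, w (cj i) = w i
  ν_le : ∀ i, ν i ≤ 1
  ν_th : ν th = 0
  ν_th' : ν th' = 0
  ν_cj : ∀ i, cj i ≠ i → ν i = 0

namespace Ctx

variable {I : Type u} [Fintype I] [DecidableEq I] (C : Ctx I)

/-- The principal 5-block. -/
def S : Finset I := insert C.o (Finset.univ.image C.c)

theorem mem_S {i : I} : i ∈ C.S ↔ i = C.o ∨ ∃ j, C.c j = i := by
  simp [S]

theorem sum_S (f : I → ℤ) : ∑ i ∈ C.S, f i = f C.o + ∑ j, f (C.c j) := by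
  unfold S
  rw [Finset.sum_insert, Finset.sum_image fun i _ j _ h => C.c_inj h]
  intro h
  obtain ⟨j, -, hj⟩ := Finset.mem_image.1 h
  exact C.c_ne j hj

theorem sum_eq (f : I → ℤ) : ∑ i, f i = (f C.o + ∑ j, f (C.c j)) + ∑ i ∈ C.Sᶜ, f i := by
  rw [← C.sum_S, Finset.sum_add_sum_compl]

theorem w_eq {i : I} (hi : i ∉ C.S) : C.w i = -C.v i := by
  have h1 : ∑ i, (C.v i + C.w i) * (C.v i + C.w i) = 20 := by
    have h2 : ∀ i, (C.v i + C.w i) * (C.v i + C.w i) =
        C.v i * C.v i + 2 * (C.v i * C.w i) + C.w i * C.w i := fun i => by ring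
    rw [Finset.sum_congr rfl fun i _ => h2 i, Finset.sum_add_distrib, Finset.sum_add_distrib,
      ← Finset.mul_sum, C.sum_vv, C.sum_vw, C.sum_ww]
    norm_num
  rw [C.sum_eq] at h1
  have h3 : ∀ j, (C.v (C.c j) + C.w (C.c j)) * (C.v (C.c j) + C.w (C.c j)) = 4 := by
    intro j
    rw [C.c_v, C.c_w]
    have := sgn_sq (C.deg (C.c j))
    linear_combination 4 * this
  rw [Finset.sum_congr rfl fun j _ => h3 j, C.v_o, C.w_o] at h1
  have h4 : ∑ i ∈ C.Sᶜ, (C.v i + C.w i) * (C.v i + C.w i) = 0 := by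
    simp at h1
    linarith
  have h5 := (Finset.sum_eq_zero_iff_of_nonneg (fun i _ => mul_self_nonneg _)).1 h4 i
    (Finset.mem_compl.2 hi)
  have h6 := mul_self_eq_zero.1 h5
  linarith

theorem sum_compl_vv : ∑ i ∈ C.Sᶜ, C.v i * C.v i = 5 := by
  have h1 := C.sum_vv
  rw [C.sum_eq] at h1
  have h3 : ∀ j, C.v (C.c j) * C.v (C.c j) = 1 := by
    intro j
    rw [C.c_v]
    exact sgn_sq _
  rw [Finset.sum_congr rfl fun j _ => h3 j, C.v_o] at h1
  simp at h1
  linarith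

theorem sum_compl_vd : ∑ i ∈ C.Sᶜ, C.v i * C.deg i = 0 := by
  have h1 := C.sum_vd
  rw [C.sum_eq, Finset.sum_congr rfl fun j _ => by rw [C.c_v], C.v_o, C.deg_o] at h1
  have h2 := C.rel_d
  push_cast at h1
  linarith

theorem sum_compl_vs : ∑ i ∈ C.Sᶜ, C.v i * C.s i = 0 := by
  have h1 := C.sum_vs
  rw [C.sum_eq, Finset.sum_congr rfl fun j _ => by rw [C.c_v], C.v_o, C.s_o] at h1
  have h2 := C.rel_s
  linarith

theorem ne_of_deg {i j : I} (h : C.deg i ≠ C.deg j) : i ≠ j := fun e => h (congrArg C.deg e)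

theorem deg_c (j : Fin 4) : C.deg (C.c j) = 11 ∨ C.deg (C.c j) = 16 ∨ C.deg (C.c j) = 44 ∨
    C.deg (C.c j) = 66 ∨ C.deg (C.c j) = 99 ∨ C.deg (C.c j) = 144 ∨ C.deg (C.c j) = 176 := by
  have h := C.cases
  fin_cases j <;> simp only [Fin.zero_eta, Fin.mk_one, Fin.reduceFinMk] <;> omega

theorem notMem_S {i : I} (h1 : C.deg i ≠ 1) (h : ∀ j, C.deg (C.c j) ≠ C.deg i) : i ∉ C.S := by
  rw [C.mem_S]
  rintro (rfl | ⟨j, rfl⟩)
  · exact h1 C.deg_o
  · exact h j rfl

theorem v_sq_le {i : I} (hi : i ∉ C.S) : C.v i * C.v i ≤ 5 := by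
  rw [← C.sum_compl_vv]
  exact Finset.single_le_sum (f := fun i => C.v i * C.v i) (fun j _ => mul_self_nonneg _)
    (Finset.mem_compl.2 hi)

theorem v_abs_le {i : I} (hi : i ∉ C.S) : -2 ≤ C.v i ∧ C.v i ≤ 2 := by
  have h := C.v_sq_le hi
  constructor <;> nlinarith

theorem c45_notMem : C.c45 ∉ C.S := by
  refine C.notMem_S (by rw [C.d45]; norm_num) fun j => ?_
  have := C.deg_c j
  rw [C.d45]
  omega

theorem c54_notMem : C.c54 ∉ C.S := by
  refine C.notMem_S (by rw [C.d54]; norm_num) fun j => ?_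
  have := C.deg_c j
  rw [C.d54]
  omega

theorem c120_notMem : C.c120 ∉ C.S := by
  refine C.notMem_S (by rw [C.d120]; norm_num) fun j => ?_
  have := C.deg_c j
  rw [C.d120]
  omega

theorem v45 : C.v C.c45 = 0 := by
  have h1 := C.v_abs_le C.c45_notMem
  have h2 := C.dvd_v C.c45
  rw [C.d45] at h2
  push_cast at h2
  omega

theorem v120 : C.v C.c120 = 0 := by
  have h1 := C.v_abs_le C.c120_notMem
  have h2 := C.dvd_v C.c120
  rw [C.d120] at h2
  push_cast at h2
  omega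

theorem v54 : C.v C.c54 = -1 := by
  have h1 := C.v_abs_le C.c54_notMem
  have h2 := C.dvd_v C.c54
  rw [C.d54] at h2
  push_cast at h2
  omega

/-- The value at `th` is not `-8`. -/
theorem s_th_ne : C.s C.th ≠ -8 := by
  intro h8
  have h1 := C.dvd_v C.th
  have h2 := C.dvd_w C.th
  rw [C.dth] at h1
  push_cast at h1
  by_cases hS : C.th ∈ C.S
  · rw [C.mem_S] at hS
    rcases hS with h | ⟨j, h⟩
    · have := C.deg_o
      rw [← h, C.dth] at this
      omega
    · have h3 := C.c_w j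
      rw [h, C.dth] at h3
      have h4 : sgn 16 = 1 := by decide
      rw [h4] at h3
      omega
  · have h3 := C.v_abs_le hS
    have h4 := C.w_eq hS
    omega

theorem col' : C.s C.c54 = 6 ∧ (C.s C.c144 = 4 ∨ C.s C.c144 = -4) ∧ ∑ i, C.s i * C.s i ≤ 240 ∧
    892 ≤ ∑ i, C.ν i * C.deg i := by
  rcases C.col with h | h
  · exact h
  · exact absurd h C.s_th_ne

theorem cj_mem_S {i : I} (hi : i ∈ C.S) : C.cj i ∈ C.S := by
  by_contra h
  have h1 := C.w_eq h
  rw [C.cj_w, C.cj_v] at h1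
  rw [C.mem_S] at hi
  rcases hi with rfl | ⟨j, rfl⟩
  · rw [C.w_o, C.v_o] at h1
    norm_num at h1
  · rw [C.c_w, C.c_v] at h1
    unfold sgn at h1
    split_ifs at h1 <;> norm_num at h1

/-- If exactly one member of the principal 5-block has degree eleven then it is real. -/
theorem real_of_unique (j : Fin 4) (hj : C.deg (C.c j) = 11)
    (h : ∀ k, C.deg (C.c k) = 11 → k = j) : ∃ i, C.deg i = 11 ∧ C.cj i = i := by
  refine ⟨C.c j, hj, ?_⟩
  have h1 : C.cj (C.c j) ∈ C.S := C.cj_mem_S (C.mem_S.2 (Or.inr ⟨j, rfl⟩))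
  rw [C.mem_S] at h1
  have hd := C.cj_deg (C.c j)
  rw [hj] at hd
  rcases h1 with h2 | ⟨k, hk⟩
  · rw [h2, C.deg_o] at hd
    norm_num at hd
  · rw [← hk] at hd ⊢
    rw [h k hd]

theorem deg_mod {i : I} (hv : C.v i = 1 ∨ C.v i = -1) :
    (C.deg i % 5 = 1 ∨ C.deg i % 5 = 4) ∧ C.v i = sgn (C.deg i) := by
  have h := C.dvd_v i
  unfold sgn
  split_ifs <;> omega

/-- The defect of the Frobenius-Schur inequality. -/
def f (i : I) : ℤ := C.deg i * C.deg i - 55 * (C.ν i * C.deg i)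

theorem f_nonneg {i : I} (h : 55 ∣ C.deg i) : 0 ≤ C.f i := by
  unfold f
  obtain ⟨k, hk⟩ := h
  have h1 := C.ν_le i
  rw [hk]
  rcases Nat.eq_zero_or_pos k with rfl | hk0
  · simp
  · have h2 : (1 : ℤ) ≤ k := by exact_mod_cast hk0
    push_cast
    have h3 : C.ν i * (55 * (k : ℤ)) ≤ 55 * k := by nlinarith
    nlinarith

theorem f_ge (i : I) : (C.deg i : ℤ) * C.deg i - 55 * C.deg i ≤ C.f i := by
  unfold f
  have h1 := C.ν_le i
  have h2 : (0 : ℤ) ≤ C.deg i := Int.natCast_nonneg _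
  nlinarith

theorem sum_f_le : ∑ i, C.f i ≤ 45980 := by
  unfold f
  rw [Finset.sum_sub_distrib, ← Finset.mul_sum, C.sum_dd]
  have := C.col'.2.2.2
  linarith

theorem f_th : C.f C.th = 256 := by
  unfold f
  rw [C.ν_th, C.dth]
  norm_num

theorem f_th' : C.f C.th' = 256 := by
  unfold f
  rw [C.ν_th', C.dth']
  norm_num

theorem real_of_ν {i : I} (h : C.ν i ≠ 0) : C.cj i = i := by
  by_contra h1
  exact h (C.ν_cj i h1)

theorem f_eleven {i : I} (hd : C.deg i = 11) (hn : C.cj i ≠ i) : C.f i = 121 := by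
  unfold f
  rw [C.ν_cj i hn, hd]
  norm_num

/-- Case A: the principal 5-block contains the character of degree `144`, but none of
degree `16`. -/
theorem caseA (h144 : C.c144 ∈ C.S) (h16 : ∀ j, C.deg (C.c j) ≠ 16) :
    ∃ a b : I, a ≠ b ∧ ((C.deg a = 11 ∧ C.deg b = 11) ∨ (C.deg a = 44 ∧ C.deg b = 66)) ∧
      (∀ g : I → ℤ, (∀ i, 55 ∣ C.deg i → 0 ≤ g i) →
        g C.o + ∑ j, g (C.c j) + (g C.c45 + g C.c54 + g C.c120 + g C.th + g C.th') +
          (g a + g b) ≤ ∑ i, g i) := by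
  have hth : C.th ∉ C.S := C.notMem_S (by rw [C.dth]; norm_num) fun j => by
    rw [C.dth]; exact h16 j
  have hth' : C.th' ∉ C.S := C.notMem_S (by rw [C.dth']; norm_num) fun j => by
    rw [C.dth']; exact h16 j
  have vth : C.v C.th = 1 := by
    have h1 := C.v_abs_le hth
    have h2 := C.dvd_v C.th
    rw [C.dth] at h2
    push_cast at h2
    omega
  have vth' : C.v C.th' = 1 := by
    have h1 := C.v_abs_le hth'
    have h2 := C.dvd_v C.th'
    rw [C.dth'] at h2
    push_cast at h2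
    omega
  -- the known characters outside
  have e1 : C.c45 ≠ C.c54 := C.ne_of_deg (by rw [C.d45, C.d54]; norm_num)
  have e2 : C.c45 ≠ C.c120 := C.ne_of_deg (by rw [C.d45, C.d120]; norm_num)
  have e3 : C.c45 ≠ C.th := C.ne_of_deg (by rw [C.d45, C.dth]; norm_num)
  have e4 : C.c45 ≠ C.th' := C.ne_of_deg (by rw [C.d45, C.dth']; norm_num)
  have e5 : C.c54 ≠ C.c120 := C.ne_of_deg (by rw [C.d54, C.d120]; norm_num)
  have e6 : C.c54 ≠ C.th := C.ne_of_deg (by rw [C.d54, C.dth]; norm_num)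
  have e7 : C.c54 ≠ C.th' := C.ne_of_deg (by rw [C.d54, C.dth']; norm_num)
  have e8 : C.c120 ≠ C.th := C.ne_of_deg (by rw [C.d120, C.dth]; norm_num)
  have e9 : C.c120 ≠ C.th' := C.ne_of_deg (by rw [C.d120, C.dth']; norm_num)
  let K : Finset I := {C.c45, C.c54, C.c120, C.th, C.th'}
  have hK : ∀ g : I → ℤ, ∑ i ∈ K, g i = g C.c45 + g C.c54 + g C.c120 + g C.th + g C.th' := by
    intro g
    simp only [K]
    rw [Finset.sum_insert (by simp [e1, e2, e3, e4]), Finset.sum_insert (by simp [e5, e6, e7]),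
      Finset.sum_insert (by simp [e8, e9]), Finset.sum_insert (by simp [C.th_ne]),
      Finset.sum_singleton]
    ring
  have hKS : K ⊆ C.Sᶜ := by
    intro i hi
    rw [Finset.mem_compl]
    simp only [K, Finset.mem_insert, Finset.mem_singleton] at hi
    rcases hi with rfl | rfl | rfl | rfl | rfl
    · exact C.c45_notMem
    · exact C.c54_notMem
    · exact C.c120_notMem
    · exact hth
    · exact hth'
  have hsplit : ∀ g : I → ℤ, ∑ i ∈ C.Sᶜ \ K, g i =
      ∑ i ∈ C.Sᶜ, g i - (g C.c45 + g C.c54 + g C.c120 + g C.th + g C.th') := by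
    intro g
    rw [← hK g, ← Finset.sum_sdiff hKS]
    ring
  have hdeg11 : ∀ i ∈ C.Sᶜ \ K, 11 ∣ C.deg i := by
    intro i hi
    rw [Finset.mem_sdiff, Finset.mem_compl] at hi
    obtain ⟨hiS, hiK⟩ := hi
    simp only [K, Finset.mem_insert, Finset.mem_singleton, not_or] at hiK
    rcases C.rest i with h | h | h | h | h | h | h | h
    · exact absurd (C.mem_S.2 (Or.inl h)) hiS
    · exact absurd h hiK.1
    · exact absurd h hiK.2.1
    · exact absurd h hiK.2.2.1
    · exact absurd (h ▸ h144) hiS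
    · exact absurd h hiK.2.2.2.1
    · exact absurd h hiK.2.2.2.2
    · exact h
  have hvv : ∑ i ∈ C.Sᶜ \ K, C.v i * C.v i = 2 := by
    rw [hsplit fun i => C.v i * C.v i, C.sum_compl_vv, C.v45, C.v54, C.v120, vth, vth']
    norm_num
  have hvd : ∑ i ∈ C.Sᶜ \ K, C.v i * C.deg i = 22 := by
    rw [hsplit fun i => C.v i * C.deg i, C.sum_compl_vd, C.v45, C.v54, C.v120, vth, vth', C.d54,
      C.dth, C.dth']
    norm_num
  let R : Finset I := (C.Sᶜ \ K).filter fun i => C.v i ≠ 0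
  have hv1 : ∀ i ∈ R, C.v i = 1 ∨ C.v i = -1 := by
    intro i hi
    rw [Finset.mem_filter] at hi
    have h1 : C.v i * C.v i ≤ 2 := by
      rw [← hvv]
      exact Finset.single_le_sum (f := fun i => C.v i * C.v i) (fun j _ => mul_self_nonneg _) hi.1
    have h2 : -1 ≤ C.v i ∧ C.v i ≤ 1 := by constructor <;> nlinarith
    have h3 := hi.2
    omega
  have hRsum : ∀ g : I → ℤ, (∀ i, C.v i = 0 → g i = 0) →
      ∑ i ∈ R, g i = ∑ i ∈ C.Sᶜ \ K, g i := by
    intro g hg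
    refine Finset.sum_filter_of_ne fun i _ hi => ?_
    intro h0
    exact hi (hg i h0)
  have hRcard : R.card = 2 := by
    have h1 := hRsum (fun i => C.v i * C.v i) (fun i hi => by rw [hi]; norm_num)
    rw [hvv, Finset.sum_congr rfl fun i hi => show C.v i * C.v i = 1 by
      rcases hv1 i hi with h | h <;> rw [h] <;> norm_num] at h1
    simp at h1
    exact_mod_cast h1
  obtain ⟨r, hrinj, hr, hrmono⟩ := exists_enum R C.deg hRcard
  have hrR : ∀ i, r i ∈ R := fun i => (hr _).2 ⟨i, rfl⟩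
  have hrimg : R = Finset.univ.image r := by
    ext i
    rw [hr, Finset.mem_image]
    simp
  have hrsum : ∀ g : I → ℤ, ∑ i ∈ R, g i = g (r 0) + g (r 1) := by
    intro g
    rw [hrimg, Finset.sum_image fun i _ j _ h => hrinj h, Fin.sum_univ_two]
  have hrO : ∀ i, r i ∈ C.Sᶜ \ K := fun i => (Finset.mem_filter.1 (hrR i)).1
  have hrne : ∀ i, r i ≠ C.o := by
    intro i h
    have h1 := hrO i
    rw [Finset.mem_sdiff, Finset.mem_compl] at h1
    exact h1.1 (C.mem_S.2 (Or.inl h))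
  refine ⟨r 0, r 1, fun h => absurd (hrinj h) (by decide), ?_, ?_⟩
  · have h1 := hRsum (fun i => C.v i * C.deg i) (fun i hi => by rw [hi]; norm_num)
    rw [hvd, hrsum, (C.deg_mod (hv1 _ (hrR 0))).2, (C.deg_mod (hv1 _ (hrR 1))).2] at h1
    exact arith_two (C.hpool _ (hrne 0)) (C.hpool _ (hrne 1)) (hdeg11 _ (hrO 0))
      (hdeg11 _ (hrO 1)) (C.deg_mod (hv1 _ (hrR 0))).1 (C.deg_mod (hv1 _ (hrR 1))).1
      (hrmono (by decide : (0 : Fin 2) ≤ 1)) h1
  · intro g hg
    rw [C.sum_eq g]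
    have h1 := hsplit g
    have h2 : g (r 0) + g (r 1) ≤ ∑ i ∈ C.Sᶜ \ K, g i := by
      rw [← hrsum g]
      refine Finset.sum_le_sum_of_subset_of_nonneg (Finset.filter_subset _ _) ?_
      intro i hi hiR
      apply hg
      have h3 := hdeg11 i hi
      have h4 : C.v i = 0 := by
        by_contra h5
        exact hiR (Finset.mem_filter.2 ⟨hi, h5⟩)
      have h6 := C.dvd_v i
      rw [h4, sub_zero] at h6
      have h7 : 5 ∣ C.deg i := by exact_mod_cast h6
      omega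
    linarith

/-- Case B: the principal 5-block contains the two characters of degree `16`, but none of
degree `144`. -/
theorem caseB (hth : C.th ∈ C.S) (hth' : C.th' ∈ C.S) (h144 : ∀ j, C.deg (C.c j) ≠ 144) :
    ∃ r : Fin 3 → I, Function.Injective r ∧
      ((C.deg (r 0) = 11 ∧ C.deg (r 1) = 11 ∧ C.deg (r 2) = 176) ∨
       (C.deg (r 0) = 44 ∧ C.deg (r 1) = 66 ∧ C.deg (r 2) = 176) ∨
       (C.deg (r 0) = 66 ∧ C.deg (r 1) = 66 ∧ C.deg (r 2) = 66)) ∧
      (∀ i, C.v (r i) = sgn (C.deg (r i))) ∧ (∀ i, C.w (r i) = -C.v (r i)) ∧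
      (∑ i, C.v (r i) * C.s (r i) = C.s C.c54 + C.s C.c144) ∧
      (∀ g : I → ℤ, (∀ i, 55 ∣ C.deg i → 0 ≤ g i) →
        g C.o + ∑ j, g (C.c j) + (g C.c45 + g C.c54 + g C.c120 + g C.c144) +
          (g (r 0) + g (r 1) + g (r 2)) ≤ ∑ i, g i) := by
  have h144S : C.c144 ∉ C.S := C.notMem_S (by rw [C.d144]; norm_num) fun j => by
    rw [C.d144]; exact h144 j
  have v144 : C.v C.c144 = -1 := by
    have h1 := C.v_abs_le h144S
    have h2 := C.dvd_v C.c144
    rw [C.d144] at h2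
    push_cast at h2
    omega
  -- the known characters outside
  have e1 : C.c45 ≠ C.c54 := C.ne_of_deg (by rw [C.d45, C.d54]; norm_num)
  have e2 : C.c45 ≠ C.c120 := C.ne_of_deg (by rw [C.d45, C.d120]; norm_num)
  have e3 : C.c45 ≠ C.c144 := C.ne_of_deg (by rw [C.d45, C.d144]; norm_num)
  have e5 : C.c54 ≠ C.c120 := C.ne_of_deg (by rw [C.d54, C.d120]; norm_num)
  have e6 : C.c54 ≠ C.c144 := C.ne_of_deg (by rw [C.d54, C.d144]; norm_num)
  have e8 : C.c120 ≠ C.c144 := C.ne_of_deg (by rw [C.d120, C.d144]; norm_num)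
  let K : Finset I := {C.c45, C.c54, C.c120, C.c144}
  have hK : ∀ g : I → ℤ, ∑ i ∈ K, g i = g C.c45 + g C.c54 + g C.c120 + g C.c144 := by
    intro g
    simp only [K]
    rw [Finset.sum_insert (by simp [e1, e2, e3]), Finset.sum_insert (by simp [e5, e6]),
      Finset.sum_insert (by simp [e8]), Finset.sum_singleton]
    ring
  have hKS : K ⊆ C.Sᶜ := by
    intro i hi
    rw [Finset.mem_compl]
    simp only [K, Finset.mem_insert, Finset.mem_singleton] at hi
    rcases hi with rfl | rfl | rfl | rfl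
    · exact C.c45_notMem
    · exact C.c54_notMem
    · exact C.c120_notMem
    · exact h144S
  have hsplit : ∀ g : I → ℤ, ∑ i ∈ C.Sᶜ \ K, g i =
      ∑ i ∈ C.Sᶜ, g i - (g C.c45 + g C.c54 + g C.c120 + g C.c144) := by
    intro g
    rw [← hK g, ← Finset.sum_sdiff hKS]
    ring
  have hdeg11 : ∀ i ∈ C.Sᶜ \ K, 11 ∣ C.deg i := by
    intro i hi
    rw [Finset.mem_sdiff, Finset.mem_compl] at hi
    obtain ⟨hiS, hiK⟩ := hi
    simp only [K, Finset.mem_insert, Finset.mem_singleton, not_or] at hiK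
    rcases C.rest i with h | h | h | h | h | h | h | h
    · exact absurd (C.mem_S.2 (Or.inl h)) hiS
    · exact absurd h hiK.1
    · exact absurd h hiK.2.1
    · exact absurd h hiK.2.2.1
    · exact absurd h hiK.2.2.2
    · exact absurd (h ▸ hth) hiS
    · exact absurd (h ▸ hth') hiS
    · exact h
  have hvv : ∑ i ∈ C.Sᶜ \ K, C.v i * C.v i = 3 := by
    rw [hsplit fun i => C.v i * C.v i, C.sum_compl_vv, C.v45, C.v54, C.v120, v144]
    norm_num
  have hvd : ∑ i ∈ C.Sᶜ \ K, C.v i * C.deg i = 198 := by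
    rw [hsplit fun i => C.v i * C.deg i, C.sum_compl_vd, C.v45, C.v54, C.v120, v144, C.d54,
      C.d144]
    norm_num
  have hvs : ∑ i ∈ C.Sᶜ \ K, C.v i * C.s i = C.s C.c54 + C.s C.c144 := by
    rw [hsplit fun i => C.v i * C.s i, C.sum_compl_vs, C.v45, C.v54, C.v120, v144]
    ring
  let R : Finset I := (C.Sᶜ \ K).filter fun i => C.v i ≠ 0
  have hv1 : ∀ i ∈ R, C.v i = 1 ∨ C.v i = -1 := by
    intro i hi
    rw [Finset.mem_filter] at hi
    have h1 : C.v i * C.v i ≤ 3 := by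
      rw [← hvv]
      exact Finset.single_le_sum (f := fun i => C.v i * C.v i) (fun j _ => mul_self_nonneg _) hi.1
    have h2 : -1 ≤ C.v i ∧ C.v i ≤ 1 := by constructor <;> nlinarith
    have h3 := hi.2
    omega
  have hRsum : ∀ g : I → ℤ, (∀ i, C.v i = 0 → g i = 0) →
      ∑ i ∈ R, g i = ∑ i ∈ C.Sᶜ \ K, g i := by
    intro g hg
    refine Finset.sum_filter_of_ne fun i _ hi => ?_
    intro h0
    exact hi (hg i h0)
  have hRcard : R.card = 3 := by
    have h1 := hRsum (fun i => C.v i * C.v i) (fun i hi => by rw [hi]; norm_num)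
    rw [hvv, Finset.sum_congr rfl fun i hi => show C.v i * C.v i = 1 by
      rcases hv1 i hi with h | h <;> rw [h] <;> norm_num] at h1
    simp at h1
    exact_mod_cast h1
  obtain ⟨r, hrinj, hr, hrmono⟩ := exists_enum R C.deg hRcard
  have hrR : ∀ i, r i ∈ R := fun i => (hr _).2 ⟨i, rfl⟩
  have hrimg : R = Finset.univ.image r := by
    ext i
    rw [hr, Finset.mem_image]
    simp
  have hrsum' : ∀ g : I → ℤ, ∑ i ∈ R, g i = ∑ i, g (r i) := by
    intro g
    rw [hrimg, Finset.sum_image fun i _ j _ h => hrinj h]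
  have hrsum : ∀ g : I → ℤ, ∑ i ∈ R, g i = g (r 0) + g (r 1) + g (r 2) := by
    intro g
    rw [hrsum', Fin.sum_univ_three]
  have hrO : ∀ i, r i ∈ C.Sᶜ \ K := fun i => (Finset.mem_filter.1 (hrR i)).1
  have hrS : ∀ i, r i ∉ C.S := by
    intro i
    have h1 := hrO i
    rw [Finset.mem_sdiff, Finset.mem_compl] at h1
    exact h1.1
  have hrne : ∀ i, r i ≠ C.o := fun i h => hrS i (C.mem_S.2 (Or.inl h))
  refine ⟨r, hrinj, ?_, fun i => (C.deg_mod (hv1 _ (hrR i))).2, fun i => C.w_eq (hrS i), ?_, ?_⟩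
  · have h1 := hRsum (fun i => C.v i * C.deg i) (fun i hi => by rw [hi]; norm_num)
    rw [hvd, hrsum, (C.deg_mod (hv1 _ (hrR 0))).2, (C.deg_mod (hv1 _ (hrR 1))).2,
      (C.deg_mod (hv1 _ (hrR 2))).2] at h1
    exact arith_three (C.hpool _ (hrne 0)) (C.hpool _ (hrne 1)) (C.hpool _ (hrne 2))
      (hdeg11 _ (hrO 0)) (hdeg11 _ (hrO 1)) (hdeg11 _ (hrO 2)) (C.deg_mod (hv1 _ (hrR 0))).1
      (C.deg_mod (hv1 _ (hrR 1))).1 (C.deg_mod (hv1 _ (hrR 2))).1
      (hrmono (by decide : (0 : Fin 3) ≤ 1)) (hrmono (by decide : (1 : Fin 3) ≤ 2)) h1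
  · rw [← hvs, ← hRsum (fun i => C.v i * C.s i) (fun i hi => by rw [hi]; norm_num), hrsum']
  · intro g hg
    rw [C.sum_eq g]
    have h1 := hsplit g
    have h2 : g (r 0) + g (r 1) + g (r 2) ≤ ∑ i ∈ C.Sᶜ \ K, g i := by
      rw [← hrsum g]
      refine Finset.sum_le_sum_of_subset_of_nonneg (Finset.filter_subset _ _) ?_
      intro i hi hiR
      apply hg
      have h3 := hdeg11 i hi
      have h4 : C.v i = 0 := by
        by_contra h5
        exact hiR (Finset.mem_filter.2 ⟨hi, h5⟩)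
      have h6 := C.dvd_v i
      rw [h4, sub_zero] at h6
      have h7 : 5 ∣ C.deg i := by exact_mod_cast h6
      omega
    linarith

theorem eq_th {i : I} (h : C.deg i = 16) : i = C.th ∨ i = C.th' := by
  rcases C.rest i with h1 | h1 | h1 | h1 | h1 | h1 | h1 | h1
  · rw [h1, C.deg_o] at h; omega
  · rw [h1, C.d45] at h; omega
  · rw [h1, C.d54] at h; omega
  · rw [h1, C.d120] at h; omega
  · rw [h1, C.d144] at h; omega
  · exact Or.inl h1
  · exact Or.inr h1
  · omega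

theorem eq_c144 {i : I} (h : C.deg i = 144) : i = C.c144 := by
  rcases C.rest i with h1 | h1 | h1 | h1 | h1 | h1 | h1 | h1
  · rw [h1, C.deg_o] at h; omega
  · rw [h1, C.d45] at h; omega
  · rw [h1, C.d54] at h; omega
  · rw [h1, C.d120] at h; omega
  · exact h1
  · rw [h1, C.dth] at h; omega
  · rw [h1, C.dth'] at h; omega
  · omega

theorem f_ge_of_deg {i : I} {n : ℕ} (h : C.deg i = n) : (n : ℤ) * n - 55 * n ≤ C.f i := by
  rw [← h]
  exact C.f_ge i

/-- **STEP 5.** There is a real character of degree eleven. -/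
theorem exists_real : ∃ i, C.deg i = 11 ∧ C.cj i = i := by
  have hf := C.sum_f_le
  have fo := C.f_ge_of_deg C.deg_o
  have f45 := C.f_ge_of_deg C.d45
  have f54 := C.f_ge_of_deg C.d54
  have f120 := C.f_ge_of_deg C.d120
  have f144 := C.f_ge_of_deg C.d144
  have fth := C.f_th
  have fth' := C.f_th'
  rcases C.cases with ⟨h0, h1, h2, h3⟩ | ⟨h0, h1, h2, h3⟩ | ⟨h0, h1, h2, h3⟩ |
    ⟨h0, h1, h2, h3⟩ | ⟨h0, h1, h2, h3⟩
  · refine C.real_of_unique 0 h0 fun k hk => ?_
    fin_cases k <;> simp only [Fin.zero_eta, Fin.mk_one, Fin.reduceFinMk] at hk ⊢ <;> omega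
  · refine C.real_of_unique 0 h0 fun k hk => ?_
    fin_cases k <;> simp only [Fin.zero_eta, Fin.mk_one, Fin.reduceFinMk] at hk ⊢ <;> omega
  · refine C.real_of_unique 0 h0 fun k hk => ?_
    fin_cases k <;> simp only [Fin.zero_eta, Fin.mk_one, Fin.reduceFinMk] at hk ⊢ <;> omega
  · -- degrees 16, 16, 66, 99
    have h01 : C.c 0 ≠ C.c 1 := fun h => absurd (C.c_inj h) (by decide)
    have key : C.th ∈ C.S ∧ C.th' ∈ C.S ∧ C.f (C.c 0) = 256 ∧ C.f (C.c 1) = 256 := by
      rcases C.eq_th h0 with a0 | a0 <;> rcases C.eq_th h1 with a1 | a1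
      · exact absurd (a0.trans a1.symm) h01
      · exact ⟨C.mem_S.2 (Or.inr ⟨0, a0⟩), C.mem_S.2 (Or.inr ⟨1, a1⟩), by rw [a0, fth],
          by rw [a1, fth']⟩
      · exact ⟨C.mem_S.2 (Or.inr ⟨1, a1⟩), C.mem_S.2 (Or.inr ⟨0, a0⟩), by rw [a0, fth'],
          by rw [a1, fth]⟩
      · exact absurd (a0.trans a1.symm) h01
    obtain ⟨hth, hth', g0, g1⟩ := key
    have g2 := C.f_ge_of_deg h2
    have g3 := C.f_ge_of_deg h3
    obtain ⟨r, hrinj, hcases, hrv, hrw, hrs, hsum⟩ := C.caseB hth hth' (by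
      intro j
      fin_cases j <;> simp only [Fin.zero_eta, Fin.mk_one, Fin.reduceFinMk] <;> omega)
    have hF := hsum C.f (fun i hi => C.f_nonneg hi)
    rw [Fin.sum_univ_four, g0, g1] at hF
    rcases hcases with ⟨a0, a1, a2⟩ | ⟨a0, a1, a2⟩ | ⟨a0, a1, a2⟩
    · refine ⟨r 0, a0, ?_⟩
      by_contra hn
      have b0 := C.f_eleven a0 hn
      have b1 := C.f_ge_of_deg a1
      have b2 := C.f_ge_of_deg a2
      push_cast at fo f45 f54 f120 f144 g2 g3 b1 b2
      linarith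
    · exfalso
      have b0 := C.f_ge_of_deg a0
      have b1 := C.f_ge_of_deg a1
      have b2 := C.f_ge_of_deg a2
      push_cast at fo f45 f54 f120 f144 g2 g3 b0 b1 b2
      linarith
    · exfalso
      obtain ⟨c54, c144, css, -⟩ := C.col'
      have h66 : sgn 66 = 1 := by decide
      have hS := hsum (fun i => C.s i * C.s i) (fun i _ => mul_self_nonneg _)
      rw [Fin.sum_univ_four] at hS
      rw [Fin.sum_univ_three, hrv 0, hrv 1, hrv 2, a0, a1, a2, h66, c54] at hrs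
      have hmod : ∀ i, C.deg (r i) = 66 → C.s (r i) % 20 = 14 := by
        intro i hi
        have k1 := C.dvd_w (r i)
        have k2 := C.dvd_s (r i)
        rw [hrw i, hrv i, hi, h66] at k1
        rw [hi] at k2
        push_cast at k2
        omega
      have m0 := hmod 0 a0
      have m1 := hmod 1 a1
      have m2 := hmod 2 a2
      have n1 := mul_self_nonneg (C.s C.o)
      have n2 := mul_self_nonneg (C.s (C.c 0))
      have n3 := mul_self_nonneg (C.s (C.c 1))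
      have n4 := mul_self_nonneg (C.s (C.c 2))
      have n5 := mul_self_nonneg (C.s (C.c 3))
      have n6 := mul_self_nonneg (C.s C.c45)
      have n7 := mul_self_nonneg (C.s C.c54)
      have n8 := mul_self_nonneg (C.s C.c120)
      have n9 := mul_self_nonneg (C.s C.c144)
      have hsq : C.s (r 0) * C.s (r 0) + C.s (r 1) * C.s (r 1) + C.s (r 2) * C.s (r 2) ≤ 240 := by
        linarith
      exact arith_sixty_six m0 m1 m2 hsq (by linarith) c144
  · -- degrees 66, 99, 144, 176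
    have g0 := C.f_ge_of_deg h0
    have g1 := C.f_ge_of_deg h1
    have g2 := C.f_ge_of_deg h2
    have g3 := C.f_ge_of_deg h3
    obtain ⟨a, b, hab, hcases, hsum⟩ := C.caseA
      (C.mem_S.2 (Or.inr ⟨2, C.eq_c144 h2⟩)) (by
      intro j
      fin_cases j <;> simp only [Fin.zero_eta, Fin.mk_one, Fin.reduceFinMk] <;> omega)
    have hF := hsum C.f (fun i hi => C.f_nonneg hi)
    rw [Fin.sum_univ_four, fth, fth'] at hF
    rcases hcases with ⟨a0, a1⟩ | ⟨a0, a1⟩
    · refine ⟨a, a0, ?_⟩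
      by_contra hn
      have b0 := C.f_eleven a0 hn
      have b1 := C.f_ge_of_deg a1
      push_cast at fo f45 f54 f120 g0 g1 g2 g3 b1
      linarith
    · exfalso
      have b0 := C.f_ge_of_deg a0
      have b1 := C.f_ge_of_deg a1
      push_cast at fo f45 f54 f120 g0 g1 g2 g3 b0 b1
      linarith

end Ctx

end Cfsg.Agent.MTwelve.DegreeEleven
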