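import Cfsg.Agent.MTwelve.BlockData
import Mathlib.RepresentationTheory.Invariants
import Mathlib.RepresentationTheory.Subrepresentation
import Cfsg.Agent.S0192

/-!
# Bounding a character value by the dimension of a fixed space

If `y` normalises the subgroup `P` and `y` is conjugate to all `x * y`, `x ∈ P`, then the value of
a character at `y` is the trace of `y` on the fixed space of `P`, hence it is bounded by the
dimension of that space.
-/

set_option autoImplicit false

open scoped ComplexConjugate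
open Cfsg

namespace Cfsg.Agent.MTwelve.FixedSpace

open Cfsg.Agent.Characters

universe u

theorem norm_apply_le {G : Type u} [Group G] [Finite G] {χ : G → ℂ} (hχ : IsCharacter G χ)
    (P : Subgroup G) [Fintype P] {y : G} (hy : y ∈ Subgroup.normalizer (P : Set G))
    (hconj : ∀ x ∈ P, IsConj y (x * y)) {m : ℕ} (hm : ∑ x : P, χ x = Nat.card P * m) :
    ‖χ y‖ ≤ m := by
  classical
  have hcls : ∀ g h, IsConj g h → χ g = χ h := by
    intro g h hgh
    obtain ⟨c, rfl⟩ := isConj_iff.1 hgh
    exact (Core.isCharacter_isClassFunction hχ g c).symm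
  obtain ⟨n, ρ, rfl⟩ := hχ
  have hP0 : (Nat.card P : ℂ) ≠ 0 := Core.card_ne_zero_complex
  -- the fixed space
  let W : Submodule ℂ (Fin n → ℂ) := Representation.invariants (ρ.comp P.subtype)
  have hW : ∀ v, v ∈ W ↔ ∀ x ∈ P, ρ x v = v := by
    intro v
    constructor
    · intro h x hx
      exact h ⟨x, hx⟩
    · intro h x
      exact h x x.2
  have hstab : ∀ g ∈ Subgroup.zpowers y, ∀ v ∈ W, ρ g v ∈ W := by
    intro g hg v hv
    have hgN : g ∈ Subgroup.normalizer (P : Set G) :=
      (Subgroup.zpowers_le.2 hy) hg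
    rw [hW] at hv ⊢
    intro x hx
    have h1 : g⁻¹ * x * g ∈ P := by
      have := (Subgroup.mem_normalizer_iff.1 (Subgroup.inv_mem _ hgN) x).1 hx
      rwa [inv_inv] at this
    have h2 : x * g = g * (g⁻¹ * x * g) := by group
    have h3 : ρ x (ρ g v) = ρ g (ρ (g⁻¹ * x * g) v) := by
      rw [← Module.End.mul_apply, ← map_mul, h2, map_mul, Module.End.mul_apply]
    rw [h3, hv _ h1]
  let σ : Subrepresentation (ρ.comp (Subgroup.zpowers y).subtype) :=
    { toSubmodule := W
      apply_mem_toSubmodule := fun g v hv => hstab g g.2 v hv }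
  have hdim : (Module.finrank ℂ W : ℂ) = m := by
    rw [← Cfsg.Agent.S0192.classInner_one_eq_finrank ρ P, Core.classInner_def]
    simp only [map_one, mul_one]
    rw [hm, ← mul_assoc, inv_mul_cancel₀ hP0, one_mul]
  -- the averaging projection
  let e : (Fin n → ℂ) →ₗ[ℂ] (Fin n → ℂ) := (Nat.card P : ℂ)⁻¹ • ∑ x : P, ρ x
  have he_mem : ∀ v, e v ∈ W := by
    intro v
    rw [hW]
    intro x hx
    simp only [e, LinearMap.smul_apply, LinearMap.sum_apply, map_smul, map_sum]
    congr 1
    refine Fintype.sum_equiv (Equiv.mulLeft (⟨x, hx⟩ : P)) _ _ fun z => ?_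
    rw [← Module.End.mul_apply, ← map_mul]
    rfl
  have he_id : ∀ v ∈ W, e v = v := by
    intro v hv
    rw [hW] at hv
    simp only [e, LinearMap.smul_apply, LinearMap.sum_apply]
    rw [Finset.sum_congr rfl fun (x : P) _ => hv x x.2, Finset.sum_const, Finset.card_univ,
      ← Nat.card_eq_fintype_card, ← Nat.cast_smul_eq_nsmul ℂ, smul_smul, inv_mul_cancel₀ hP0,
      one_smul]
  have hyz : y ∈ Subgroup.zpowers y := Subgroup.mem_zpowers y
  have htr : σ.toRepresentation.character ⟨y, hyz⟩ = ρ.character y := by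
    have h1 : LinearMap.trace ℂ (Fin n → ℂ) (ρ y ∘ₗ e) = ρ.character y := by
      have h2 : ρ y ∘ₗ e = (Nat.card P : ℂ)⁻¹ • ∑ x : P, ρ (y * x) := by
        ext v
        simp [e, map_smul, map_sum]
      rw [h2, map_smul, map_sum]
      have h3 : ∀ x : P, LinearMap.trace ℂ (Fin n → ℂ) (ρ (y * x)) = ρ.character y := by
        intro x
        have h4 : IsConj y (y * x) := by
          have h5 : y * x = (y * x * y⁻¹) * y := by group
          rw [h5]
          exact hconj _ ((Subgroup.mem_normalizer_iff.1 hy x).1 x.2)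
        exact (hcls _ _ h4).symm
      rw [Finset.sum_congr rfl fun x _ => h3 x, Finset.sum_const, Finset.card_univ,
        ← Nat.card_eq_fintype_card, nsmul_eq_mul, smul_eq_mul, ← mul_assoc,
        inv_mul_cancel₀ hP0, one_mul]
    rw [← h1]
    have h6 : ∀ v, (ρ y ∘ₗ e) v ∈ W := fun v => hstab y hyz _ (he_mem v)
    rw [← LinearMap.trace_restrict_eq_of_forall_mem W (ρ y ∘ₗ e) h6]
    unfold Representation.character
    congr 1
    ext v
    have h7 := he_id v v.2
    simp [LinearMap.restrict_apply, h7]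
    rfl
  rw [← htr]
  refine (Values.norm_character_le σ.toRepresentation ⟨y, hyz⟩).trans (le_of_eq ?_)
  have : Module.finrank ℂ σ.toSubmodule = m := by exact_mod_cast hdim
  exact_mod_cast this

/-- If `y` normalises but does not centralise the subgroup `P` of prime order then `y` is
conjugate to all `x * y` with `x ∈ P`. -/
theorem isConj_mul {G : Type u} [Group G] (P : Subgroup G) (hP : (Nat.card P).Prime) {y : G}
    (hyN : y ∈ Subgroup.normalizer (P : Set G))
    (hyC : y ∉ Subgroup.centralizer (P : Set G)) {x : G} (hx : x ∈ P) : IsConj y (x * y) := by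
  have hfin : Finite P := Nat.finite_of_card_ne_zero hP.ne_zero
  have hfact : Fact (Nat.card P).Prime := ⟨hP⟩
  have hmem : ∀ a ∈ P, a * (y * a⁻¹ * y⁻¹) ∈ P := fun a ha =>
    P.mul_mem ha ((Subgroup.mem_normalizer_iff.1 hyN a⁻¹).1 (P.inv_mem ha))
  let f : P → P := fun a => ⟨(a : G) * (y * (a : G)⁻¹ * y⁻¹), hmem a a.2⟩
  have hf : Function.Injective f := by
    intro a b hab
    have h1 : (a : G) * (y * (a : G)⁻¹ * y⁻¹) = (b : G) * (y * (b : G)⁻¹ * y⁻¹) :=
      congrArg Subtype.val hab
    by_contra hne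
    apply hyC
    have h2 : (b⁻¹ * a : P) ≠ 1 := by
      intro h
      exact hne (inv_mul_eq_one.1 h).symm
    have h3 : ((b : G)⁻¹ * a) * y = y * ((b : G)⁻¹ * a) := by
      have h4 : (a : G) * y * (a : G)⁻¹ = (b : G) * y * (b : G)⁻¹ := by
        have := congrArg (· * y) h1
        simpa [mul_assoc] using this
      have h5 : (a : G) * y = (b : G) * y * (b : G)⁻¹ * a := by rw [← h4]; group
      rw [mul_assoc, h5]
      group
    rw [Subgroup.mem_centralizer_iff]
    intro z hz
    have h6 : (⟨z, hz⟩ : P) ∈ Subgroup.zpowers (b⁻¹ * a : P) := mem_zpowers_of_prime_card rfl h2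
    obtain ⟨k, hk⟩ := Subgroup.mem_zpowers_iff.1 h6
    have h7 : ((b : G)⁻¹ * a) ^ k = z := by
      have := congrArg Subtype.val hk
      simpa using this
    rw [← h7]
    exact ((show Commute ((b : G)⁻¹ * a) y from h3).zpow_left k).eq
  obtain ⟨a, ha⟩ := (Finite.injective_iff_surjective.1 hf) ⟨x, hx⟩
  have h1 : (a : G) * (y * (a : G)⁻¹ * y⁻¹) = x := congrArg Subtype.val ha
  rw [← h1]
  exact isConj_iff.2 ⟨a, by group⟩

/-- A character taking the constant value `k` on the nonidentity elements of the subgroup `P` of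
prime order has absolute value at most the multiplicity `m` of the principal character of `P` at
every element normalising but not centralising `P`. -/
theorem norm_apply_le_of_const {G : Type u} [Group G] [Finite G] {χ : G → ℂ}
    (hχ : IsCharacter G χ) (P : Subgroup G) (hP : (Nat.card P).Prime) {y : G}
    (hyN : y ∈ Subgroup.normalizer (P : Set G))
    (hyC : y ∉ Subgroup.centralizer (P : Set G)) {n k : ℤ} (hn : χ 1 = n)
    (hk : ∀ x ∈ P, x ≠ 1 → χ x = k) {m : ℕ}
    (hm : n + (Nat.card P - 1) * k = Nat.card P * m) : ‖χ y‖ ≤ m := by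
  classical
  have := Fintype.ofFinite P
  refine norm_apply_le hχ P hyN (fun x hx => isConj_mul P hP hyN hyC hx) ?_
  have h1 : ∑ x : P, χ x = (n - k : ℂ) + ∑ x : P, (k : ℂ) := by
    rw [← Finset.add_sum_erase Finset.univ (fun x : P => χ x) (Finset.mem_univ (1 : P)),
      ← Finset.add_sum_erase Finset.univ (fun _ : P => (k : ℂ)) (Finset.mem_univ (1 : P)),
      Subgroup.coe_one, hn]
    have h2 : ∑ x ∈ Finset.univ.erase (1 : P), χ x = ∑ x ∈ Finset.univ.erase (1 : P), (k : ℂ) := by
      refine Finset.sum_congr rfl fun x hx => hk x x.2 ?_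
      intro h
      exact (Finset.mem_erase.1 hx).1 (Subtype.ext h)
    rw [h2]
    ring
  rw [h1, Finset.sum_const, Finset.card_univ, ← Nat.card_eq_fintype_card, nsmul_eq_mul]
  have h3 : ((n + (Nat.card P - 1) * k : ℤ) : ℂ) = ((Nat.card P * m : ℤ) : ℂ) := by rw [hm]
  push_cast at h3
  rw [← h3]
  ring

end Cfsg.Agent.MTwelve.FixedSpace
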